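import Cfsg.Agent.Lib.Helper6.Co2X.Co2X3
import Cfsg.Agent.Lib.Helper6.MultD.CO2YM
import Cfsg.Agent.Lib.Helper6.Mult.PM2

set_option autoImplicit false
set_option maxRecDepth 100000
set_option Elab.async false

/-! The normalizer `Y` of a subgroup of order 3 of the second Conway group: the tables of its generators, and its model. -/

namespace Cfsg.Agent.Lib.Helper6.MultD

open Cfsg.Agent.Lib.Helper6.PM Cfsg.Agent.Lib.Helper6.Co2X Cfsg.Agent.Lib.Helper1

theorem chk_tabCO2YM_0 : chkTab co2X wsCO2YM pmCO2YM 0 = true := by decide +kernel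

theorem chk_tabCO2YM_1 : chkTab co2X wsCO2YM pmCO2YM 1 = true := by decide +kernel

theorem tabCO2YM : TabFacts co2X wsCO2YM pmCO2YM := by
  apply tabFacts_of_chk
  intro i hi
  have h' : i < 2 := hi
  interval_cases i
  · exact chk_tabCO2YM_0
  · exact chk_tabCO2YM_1

/-- the model of the subgroup -/
noncomputable def co2Y : PModel := sub co2X wsCO2YM pmCO2YM tabCO2YM

end Cfsg.Agent.Lib.Helper6.MultD
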