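import Cfsg.Agent.Lib.Helper6.Mult.PM3
import Cfsg.Agent.Lib.Helper6.MultD.CO2YML
import Cfsg.Agent.Lib.Helper6.MultD.CO2Yp3D

set_option autoImplicit false
set_option maxRecDepth 100000
set_option Elab.async false

/-! The normalizer `Y` of a subgroup of order 3 of the second Conway group on 1458 sets, data CO2Yp3: the checks of the generators. -/

namespace Cfsg.Agent.Lib.Helper6.MultD

open Cfsg.Agent.Lib.Helper6.PM Cfsg.Agent.Lib.Helper6.Co2X Cfsg.Agent.Lib.Helper1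

theorem chk_tabCO2Yp3_0 : chkTab co2Y wsCO2Yp3 pmCO2Yp3 0 = true := by decide +kernel

theorem chk_tabCO2Yp3_1 : chkTab co2Y wsCO2Yp3 pmCO2Yp3 1 = true := by decide +kernel

theorem chk_relPCO2Yp3_0 : chkRelP co2Y DCO2Yp3 pmCO2Yp3 0 = true := by decide +kernel

theorem chk_relPCO2Yp3_1 : chkRelP co2Y DCO2Yp3 pmCO2Yp3 1 = true := by decide +kernel

theorem chk_relPCO2Yp3_2 : chkRelP co2Y DCO2Yp3 pmCO2Yp3 2 = true := by decide +kernel

theorem chk_relPCO2Yp3_3 : chkRelP co2Y DCO2Yp3 pmCO2Yp3 3 = true := by decide +kernel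

theorem chk_relPCO2Yp3_4 : chkRelP co2Y DCO2Yp3 pmCO2Yp3 4 = true := by decide +kernel

theorem chk_relPCO2Yp3_5 : chkRelP co2Y DCO2Yp3 pmCO2Yp3 5 = true := by decide +kernel

theorem chk_relPCO2Yp3_6 : chkRelP co2Y DCO2Yp3 pmCO2Yp3 6 = true := by decide +kernel

theorem chk_relPCO2Yp3_7 : chkRelP co2Y DCO2Yp3 pmCO2Yp3 7 = true := by decide +kernel

theorem chk_relPCO2Yp3_8 : chkRelP co2Y DCO2Yp3 pmCO2Yp3 8 = true := by decide +kernel

theorem chk_relPCO2Yp3_9 : chkRelP co2Y DCO2Yp3 pmCO2Yp3 9 = true := by decide +kernel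

theorem chk_relPCO2Yp3_10 : chkRelP co2Y DCO2Yp3 pmCO2Yp3 10 = true := by decide +kernel

theorem chk_relPCO2Yp3_11 : chkRelP co2Y DCO2Yp3 pmCO2Yp3 11 = true := by decide +kernel

theorem chk_relPCO2Yp3_12 : chkRelP co2Y DCO2Yp3 pmCO2Yp3 12 = true := by decide +kernel

theorem chk_relPCO2Yp3_13 : chkRelP co2Y DCO2Yp3 pmCO2Yp3 13 = true := by decide +kernel

theorem chk_relPCO2Yp3_14 : chkRelP co2Y DCO2Yp3 pmCO2Yp3 14 = true := by decide +kernel

theorem chk_relPCO2Yp3_15 : chkRelP co2Y DCO2Yp3 pmCO2Yp3 15 = true := by decide +kernel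

theorem chk_ordPCO2Yp3_0 : chkOrdP co2Y DCO2Yp3 pmCO2Yp3 0 = true := by decide +kernel

theorem chk_ordPCO2Yp3_1 : chkOrdP co2Y DCO2Yp3 pmCO2Yp3 1 = true := by decide +kernel

theorem chk_lwPCO2Yp3_0 : chkLwP co2Y wsCO2Yp3 pmCO2Yp3 lwCO2Yp3 0 = true := by decide +kernel

theorem chk_lwPCO2Yp3_1 : chkLwP co2Y wsCO2Yp3 pmCO2Yp3 lwCO2Yp3 1 = true := by decide +kernel

theorem coreCO2Yp3 : CoreFacts co2Y DCO2Yp3 wsCO2Yp3 pmCO2Yp3 lwCO2Yp3 := by
  apply coreFacts_of_chk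
  · rfl
  · intro i hi
    have h' : i < 2 := hi
    interval_cases i
    · exact chk_tabCO2Yp3_0
    · exact chk_tabCO2Yp3_1
  · intro r hr
    have h' : r < 16 := hr
    interval_cases r
    · exact chk_relPCO2Yp3_0
    · exact chk_relPCO2Yp3_1
    · exact chk_relPCO2Yp3_2
    · exact chk_relPCO2Yp3_3
    · exact chk_relPCO2Yp3_4
    · exact chk_relPCO2Yp3_5
    · exact chk_relPCO2Yp3_6
    · exact chk_relPCO2Yp3_7
    · exact chk_relPCO2Yp3_8
    · exact chk_relPCO2Yp3_9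
    · exact chk_relPCO2Yp3_10
    · exact chk_relPCO2Yp3_11
    · exact chk_relPCO2Yp3_12
    · exact chk_relPCO2Yp3_13
    · exact chk_relPCO2Yp3_14
    · exact chk_relPCO2Yp3_15
  · intro i hi
    have h' : i < 2 := hi
    interval_cases i
    · exact chk_ordPCO2Yp3_0
    · exact chk_ordPCO2Yp3_1
  · intro c hc
    have h' : c < 2 := hc
    interval_cases c
    · exact chk_lwPCO2Yp3_0
    · exact chk_lwPCO2Yp3_1

end Cfsg.Agent.Lib.Helper6.MultD
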