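import Mathlib
import Cfsg.Agent.Lib.Helper6.MultD.MCLAp2HP
import Cfsg.Agent.Lib.Helper6.MultD.MCLAp2HS0
import Cfsg.Agent.Lib.Helper6.MultD.MCLAp2HS1
import Cfsg.Agent.Lib.Helper6.MultD.MCLAp2HS2
import Cfsg.Agent.Lib.Helper6.MultD.MCLAp2HS3
import Cfsg.Agent.Lib.Helper6.MultD.MCLAp2HS4
import Cfsg.Agent.Lib.Helper6.MultD.MCLAp2HS5
import Cfsg.Agent.Lib.Helper6.MultD.MCLAp2HW0
import Cfsg.Agent.Lib.Helper6.MultD.MCLAp2HW1
import Cfsg.Agent.Lib.Helper6.MultD.MCLAp2HW2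
import Cfsg.Agent.Lib.Helper6.MultD.MCLAp2HR0
import Cfsg.Agent.Lib.Helper6.MultD.MCLAp2HR1
import Cfsg.Agent.Lib.Helper6.MultD.MCLAp2HR2
import Cfsg.Agent.Lib.Helper6.MultD.MCLAp2HR3
import Cfsg.Agent.Lib.Helper6.MultD.MCLAp2HR4
import Cfsg.Agent.Lib.Helper6.MultD.MCLAp2HR5
import Cfsg.Agent.Lib.Helper6.MultD.MCLAp2HR6
import Cfsg.Agent.Lib.Helper6.MultD.MCLAp2HR7
import Cfsg.Agent.Lib.Helper6.MultD.MCLAp2HR8
import Cfsg.Agent.Lib.Helper6.MultD.MCLAp2HR9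
import Cfsg.Agent.Lib.Helper6.MultD.MCLAp2HR10
import Cfsg.Agent.Lib.Helper6.MultD.MCLAp2HR11
import Cfsg.Agent.Lib.Helper6.MultD.MCLAp2HR12
import Cfsg.Agent.Lib.Helper6.MultD.MCLAp2HR13
import Cfsg.Agent.Lib.Helper6.MultD.MCLAp2HR14
import Cfsg.Agent.Lib.Helper6.MultD.MCLAp2HR15
import Cfsg.Agent.Lib.Helper6.MultD.MCLAp2HR16
import Cfsg.Agent.Lib.Helper6.MultD.MCLAp2HR17
import Cfsg.Agent.Lib.Helper6.MultD.MCLAp2HR18
import Cfsg.Agent.Lib.Helper6.MultD.MCLAp2HR19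
import Cfsg.Agent.Lib.Helper6.MultD.MCLAp2HR20
import Cfsg.Agent.Lib.Helper6.MultD.MCLAp2HR21
import Cfsg.Agent.Lib.Helper6.MultD.MCLAp2HR22
import Cfsg.Agent.Lib.Helper6.MultD.MCLAp2HR23
import Cfsg.Agent.Lib.Helper6.MultD.MCLAp2HR24
import Cfsg.Agent.Lib.Helper6.MultD.MCLAp2HR25
import Cfsg.Agent.Lib.Helper6.MultD.MCLAp2HR26
import Cfsg.Agent.Lib.Helper6.MultD.MCLAp2HR27
import Cfsg.Agent.Lib.Helper6.MultD.MCLAp2HR28

set_option autoImplicit false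
set_option maxRecDepth 100000
set_option maxHeartbeats 8000000

/-! Certificate MCLAp2: the main check. -/

namespace Cfsg.Agent.Lib.Helper6.MultD

open Cfsg.Agent.Lib.Helper1

open Cfsg.Agent.Lib.Helper6.Mult

theorem chk_hSMCLAp2 : ∀ k < 6, chkSpecChunk DMCLAp2 CMCLAp2 (k * 1200) 1200 = true := by
  intro k hk
  interval_cases k
  · exact chk_hSMCLAp2_0
  · exact chk_hSMCLAp2_1
  · exact chk_hSMCLAp2_2
  · exact chk_hSMCLAp2_3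
  · exact chk_hSMCLAp2_4
  · exact chk_hSMCLAp2_5

theorem chk_hWMCLAp2 : ∀ k < 3, chkRowsChunk CMCLAp2 (k * 2400) 2400 = true := by
  intro k hk
  interval_cases k
  · exact chk_hWMCLAp2_0
  · exact chk_hWMCLAp2_1
  · exact chk_hWMCLAp2_2

theorem chk_hRMCLAp2 : ∀ k < 29, chkRowRChunk DMCLAp2 CMCLAp2 (k * 250) 250 = true := by
  intro k hk
  interval_cases k
  · exact chk_hRMCLAp2_0
  · exact chk_hRMCLAp2_1
  · exact chk_hRMCLAp2_2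
  · exact chk_hRMCLAp2_3
  · exact chk_hRMCLAp2_4
  · exact chk_hRMCLAp2_5
  · exact chk_hRMCLAp2_6
  · exact chk_hRMCLAp2_7
  · exact chk_hRMCLAp2_8
  · exact chk_hRMCLAp2_9
  · exact chk_hRMCLAp2_10
  · exact chk_hRMCLAp2_11
  · exact chk_hRMCLAp2_12
  · exact chk_hRMCLAp2_13
  · exact chk_hRMCLAp2_14
  · exact chk_hRMCLAp2_15
  · exact chk_hRMCLAp2_16
  · exact chk_hRMCLAp2_17
  · exact chk_hRMCLAp2_18
  · exact chk_hRMCLAp2_19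
  · exact chk_hRMCLAp2_20
  · exact chk_hRMCLAp2_21
  · exact chk_hRMCLAp2_22
  · exact chk_hRMCLAp2_23
  · exact chk_hRMCLAp2_24
  · exact chk_hRMCLAp2_25
  · exact chk_hRMCLAp2_26
  · exact chk_hRMCLAp2_27
  · exact chk_hRMCLAp2_28

theorem chk_mainMCLAp2 : chkCertRMain DMCLAp2 CMCLAp2 = true :=
  chkCertRMain_of_chunks DMCLAp2 CMCLAp2 6 1200 3 2400 29 250 (by decide) (by decide) (by decide)
    chk_preMCLAp2 chk_hSMCLAp2 chk_hWMCLAp2 chk_hRMCLAp2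

end Cfsg.Agent.Lib.Helper6.MultD
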