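import Mathlib
import Cfsg.Agent.Lib.Helper6.MultD.MCLAp3D
import Cfsg.Agent.Lib.Helper6.MultD.MCLAp3C
import Cfsg.Agent.Lib.Helper6.Mult.Chunk2

set_option autoImplicit false
set_option maxRecDepth 100000
set_option maxHeartbeats 8000000

/-! Certificate MCLAp3: a piece of the main check. -/

namespace Cfsg.Agent.Lib.Helper6.MultD

open Cfsg.Agent.Lib.Helper1

open Cfsg.Agent.Lib.Helper6.Mult

theorem chk_hRMCLAp3_10 : chkRowRChunk DMCLAp3 CMCLAp3 2500 250 = true := by decide +kernel

end Cfsg.Agent.Lib.Helper6.MultD
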