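import Mathlib
import Cfsg.Agent.Lib.Helper6.MultD.MCLAp3HP
import Cfsg.Agent.Lib.Helper6.MultD.MCLAp3HS0
import Cfsg.Agent.Lib.Helper6.MultD.MCLAp3HS1
import Cfsg.Agent.Lib.Helper6.MultD.MCLAp3HS2
import Cfsg.Agent.Lib.Helper6.MultD.MCLAp3HS3
import Cfsg.Agent.Lib.Helper6.MultD.MCLAp3HS4
import Cfsg.Agent.Lib.Helper6.MultD.MCLAp3HS5
import Cfsg.Agent.Lib.Helper6.MultD.MCLAp3HW0
import Cfsg.Agent.Lib.Helper6.MultD.MCLAp3HW1
import Cfsg.Agent.Lib.Helper6.MultD.MCLAp3HW2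
import Cfsg.Agent.Lib.Helper6.MultD.MCLAp3HR0
import Cfsg.Agent.Lib.Helper6.MultD.MCLAp3HR1
import Cfsg.Agent.Lib.Helper6.MultD.MCLAp3HR2
import Cfsg.Agent.Lib.Helper6.MultD.MCLAp3HR3
import Cfsg.Agent.Lib.Helper6.MultD.MCLAp3HR4
import Cfsg.Agent.Lib.Helper6.MultD.MCLAp3HR5
import Cfsg.Agent.Lib.Helper6.MultD.MCLAp3HR6
import Cfsg.Agent.Lib.Helper6.MultD.MCLAp3HR7
import Cfsg.Agent.Lib.Helper6.MultD.MCLAp3HR8
import Cfsg.Agent.Lib.Helper6.MultD.MCLAp3HR9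
import Cfsg.Agent.Lib.Helper6.MultD.MCLAp3HR10
import Cfsg.Agent.Lib.Helper6.MultD.MCLAp3HR11
import Cfsg.Agent.Lib.Helper6.MultD.MCLAp3HR12
import Cfsg.Agent.Lib.Helper6.MultD.MCLAp3HR13
import Cfsg.Agent.Lib.Helper6.MultD.MCLAp3HR14
import Cfsg.Agent.Lib.Helper6.MultD.MCLAp3HR15
import Cfsg.Agent.Lib.Helper6.MultD.MCLAp3HR16
import Cfsg.Agent.Lib.Helper6.MultD.MCLAp3HR17
import Cfsg.Agent.Lib.Helper6.MultD.MCLAp3HR18
import Cfsg.Agent.Lib.Helper6.MultD.MCLAp3HR19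
import Cfsg.Agent.Lib.Helper6.MultD.MCLAp3HR20
import Cfsg.Agent.Lib.Helper6.MultD.MCLAp3HR21
import Cfsg.Agent.Lib.Helper6.MultD.MCLAp3HR22
import Cfsg.Agent.Lib.Helper6.MultD.MCLAp3HR23
import Cfsg.Agent.Lib.Helper6.MultD.MCLAp3HR24
import Cfsg.Agent.Lib.Helper6.MultD.MCLAp3HR25
import Cfsg.Agent.Lib.Helper6.MultD.MCLAp3HR26
import Cfsg.Agent.Lib.Helper6.MultD.MCLAp3HR27
import Cfsg.Agent.Lib.Helper6.MultD.MCLAp3HR28

set_option autoImplicit false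
set_option maxRecDepth 100000
set_option maxHeartbeats 8000000

/-! Certificate MCLAp3: the main check. -/

namespace Cfsg.Agent.Lib.Helper6.MultD

open Cfsg.Agent.Lib.Helper1

open Cfsg.Agent.Lib.Helper6.Mult

theorem chk_hSMCLAp3 : ∀ k < 6, chkSpecChunk DMCLAp3 CMCLAp3 (k * 1200) 1200 = true := by
  intro k hk
  interval_cases k
  · exact chk_hSMCLAp3_0
  · exact chk_hSMCLAp3_1
  · exact chk_hSMCLAp3_2
  · exact chk_hSMCLAp3_3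
  · exact chk_hSMCLAp3_4
  · exact chk_hSMCLAp3_5

theorem chk_hWMCLAp3 : ∀ k < 3, chkRowsChunk CMCLAp3 (k * 2400) 2400 = true := by
  intro k hk
  interval_cases k
  · exact chk_hWMCLAp3_0
  · exact chk_hWMCLAp3_1
  · exact chk_hWMCLAp3_2

theorem chk_hRMCLAp3 : ∀ k < 29, chkRowRChunk DMCLAp3 CMCLAp3 (k * 250) 250 = true := by
  intro k hk
  interval_cases k
  · exact chk_hRMCLAp3_0
  · exact chk_hRMCLAp3_1
  · exact chk_hRMCLAp3_2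
  · exact chk_hRMCLAp3_3
  · exact chk_hRMCLAp3_4
  · exact chk_hRMCLAp3_5
  · exact chk_hRMCLAp3_6
  · exact chk_hRMCLAp3_7
  · exact chk_hRMCLAp3_8
  · exact chk_hRMCLAp3_9
  · exact chk_hRMCLAp3_10
  · exact chk_hRMCLAp3_11
  · exact chk_hRMCLAp3_12
  · exact chk_hRMCLAp3_13
  · exact chk_hRMCLAp3_14
  · exact chk_hRMCLAp3_15
  · exact chk_hRMCLAp3_16
  · exact chk_hRMCLAp3_17
  · exact chk_hRMCLAp3_18
  · exact chk_hRMCLAp3_19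
  · exact chk_hRMCLAp3_20
  · exact chk_hRMCLAp3_21
  · exact chk_hRMCLAp3_22
  · exact chk_hRMCLAp3_23
  · exact chk_hRMCLAp3_24
  · exact chk_hRMCLAp3_25
  · exact chk_hRMCLAp3_26
  · exact chk_hRMCLAp3_27
  · exact chk_hRMCLAp3_28

theorem chk_mainMCLAp3 : chkCertRMain DMCLAp3 CMCLAp3 = true :=
  chkCertRMain_of_chunks DMCLAp3 CMCLAp3 6 1200 3 2400 29 250 (by decide) (by decide) (by decide)
    chk_preMCLAp3 chk_hSMCLAp3 chk_hWMCLAp3 chk_hRMCLAp3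

end Cfsg.Agent.Lib.Helper6.MultD
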