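import Cfsg.Agent.Lib.Helper6.Mult.PM3
import Cfsg.Agent.Lib.Helper7.McLB9
import Cfsg.Agent.Lib.Helper6.MultD.MCLAp3D

set_option autoImplicit false
set_option maxRecDepth 100000

/-! The McLaughlin group on 7128 sets of 50 points, data MCLAp3: the checks of the generators. -/

namespace Cfsg.Agent.Lib.Helper6.MultD

open Cfsg.Agent.Lib.Helper6.PM Cfsg.Agent.Lib.Helper1

theorem chk_tabMCLAp3_0 : chkTab Cfsg.Agent.Lib.Helper7.McLB.mclS wsMCLAp3 pmMCLAp3 0 = true := by decide +kernel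

theorem chk_tabMCLAp3_1 : chkTab Cfsg.Agent.Lib.Helper7.McLB.mclS wsMCLAp3 pmMCLAp3 1 = true := by decide +kernel

theorem chk_relPMCLAp3_0 : chkRelP Cfsg.Agent.Lib.Helper7.McLB.mclS DMCLAp3 pmMCLAp3 0 = true := by decide +kernel

theorem chk_relPMCLAp3_1 : chkRelP Cfsg.Agent.Lib.Helper7.McLB.mclS DMCLAp3 pmMCLAp3 1 = true := by decide +kernel

theorem chk_relPMCLAp3_2 : chkRelP Cfsg.Agent.Lib.Helper7.McLB.mclS DMCLAp3 pmMCLAp3 2 = true := by decide +kernel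

theorem chk_relPMCLAp3_3 : chkRelP Cfsg.Agent.Lib.Helper7.McLB.mclS DMCLAp3 pmMCLAp3 3 = true := by decide +kernel

theorem chk_relPMCLAp3_4 : chkRelP Cfsg.Agent.Lib.Helper7.McLB.mclS DMCLAp3 pmMCLAp3 4 = true := by decide +kernel

theorem chk_relPMCLAp3_5 : chkRelP Cfsg.Agent.Lib.Helper7.McLB.mclS DMCLAp3 pmMCLAp3 5 = true := by decide +kernel

theorem chk_relPMCLAp3_6 : chkRelP Cfsg.Agent.Lib.Helper7.McLB.mclS DMCLAp3 pmMCLAp3 6 = true := by decide +kernel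

theorem chk_relPMCLAp3_7 : chkRelP Cfsg.Agent.Lib.Helper7.McLB.mclS DMCLAp3 pmMCLAp3 7 = true := by decide +kernel

theorem chk_relPMCLAp3_8 : chkRelP Cfsg.Agent.Lib.Helper7.McLB.mclS DMCLAp3 pmMCLAp3 8 = true := by decide +kernel

theorem chk_relPMCLAp3_9 : chkRelP Cfsg.Agent.Lib.Helper7.McLB.mclS DMCLAp3 pmMCLAp3 9 = true := by decide +kernel

theorem chk_relPMCLAp3_10 : chkRelP Cfsg.Agent.Lib.Helper7.McLB.mclS DMCLAp3 pmMCLAp3 10 = true := by decide +kernel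

theorem chk_relPMCLAp3_11 : chkRelP Cfsg.Agent.Lib.Helper7.McLB.mclS DMCLAp3 pmMCLAp3 11 = true := by decide +kernel

theorem chk_relPMCLAp3_12 : chkRelP Cfsg.Agent.Lib.Helper7.McLB.mclS DMCLAp3 pmMCLAp3 12 = true := by decide +kernel

theorem chk_relPMCLAp3_13 : chkRelP Cfsg.Agent.Lib.Helper7.McLB.mclS DMCLAp3 pmMCLAp3 13 = true := by decide +kernel

theorem chk_relPMCLAp3_14 : chkRelP Cfsg.Agent.Lib.Helper7.McLB.mclS DMCLAp3 pmMCLAp3 14 = true := by decide +kernel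

theorem chk_relPMCLAp3_15 : chkRelP Cfsg.Agent.Lib.Helper7.McLB.mclS DMCLAp3 pmMCLAp3 15 = true := by decide +kernel

theorem chk_relPMCLAp3_16 : chkRelP Cfsg.Agent.Lib.Helper7.McLB.mclS DMCLAp3 pmMCLAp3 16 = true := by decide +kernel

theorem chk_relPMCLAp3_17 : chkRelP Cfsg.Agent.Lib.Helper7.McLB.mclS DMCLAp3 pmMCLAp3 17 = true := by decide +kernel

theorem chk_ordPMCLAp3_0 : chkOrdP Cfsg.Agent.Lib.Helper7.McLB.mclS DMCLAp3 pmMCLAp3 0 = true := by decide +kernel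

theorem chk_ordPMCLAp3_1 : chkOrdP Cfsg.Agent.Lib.Helper7.McLB.mclS DMCLAp3 pmMCLAp3 1 = true := by decide +kernel

theorem chk_lwPMCLAp3_0 : chkLwP Cfsg.Agent.Lib.Helper7.McLB.mclS wsMCLAp3 pmMCLAp3 lwMCLAp3 0 = true := by decide +kernel

theorem chk_lwPMCLAp3_1 : chkLwP Cfsg.Agent.Lib.Helper7.McLB.mclS wsMCLAp3 pmMCLAp3 lwMCLAp3 1 = true := by decide +kernel

theorem chk_lwPMCLAp3_2 : chkLwP Cfsg.Agent.Lib.Helper7.McLB.mclS wsMCLAp3 pmMCLAp3 lwMCLAp3 2 = true := by decide +kernel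

theorem chk_lwPMCLAp3_3 : chkLwP Cfsg.Agent.Lib.Helper7.McLB.mclS wsMCLAp3 pmMCLAp3 lwMCLAp3 3 = true := by decide +kernel

theorem chk_lwPMCLAp3_4 : chkLwP Cfsg.Agent.Lib.Helper7.McLB.mclS wsMCLAp3 pmMCLAp3 lwMCLAp3 4 = true := by decide +kernel

theorem chk_lwPMCLAp3_5 : chkLwP Cfsg.Agent.Lib.Helper7.McLB.mclS wsMCLAp3 pmMCLAp3 lwMCLAp3 5 = true := by decide +kernel

theorem chk_lwPMCLAp3_6 : chkLwP Cfsg.Agent.Lib.Helper7.McLB.mclS wsMCLAp3 pmMCLAp3 lwMCLAp3 6 = true := by decide +kernel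

theorem chk_lwPMCLAp3_7 : chkLwP Cfsg.Agent.Lib.Helper7.McLB.mclS wsMCLAp3 pmMCLAp3 lwMCLAp3 7 = true := by decide +kernel

theorem chk_lwPMCLAp3_8 : chkLwP Cfsg.Agent.Lib.Helper7.McLB.mclS wsMCLAp3 pmMCLAp3 lwMCLAp3 8 = true := by decide +kernel

theorem chk_lwPMCLAp3_9 : chkLwP Cfsg.Agent.Lib.Helper7.McLB.mclS wsMCLAp3 pmMCLAp3 lwMCLAp3 9 = true := by decide +kernel

theorem chk_lwPMCLAp3_10 : chkLwP Cfsg.Agent.Lib.Helper7.McLB.mclS wsMCLAp3 pmMCLAp3 lwMCLAp3 10 = true := by decide +kernel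

theorem chk_lwPMCLAp3_11 : chkLwP Cfsg.Agent.Lib.Helper7.McLB.mclS wsMCLAp3 pmMCLAp3 lwMCLAp3 11 = true := by decide +kernel

theorem chk_lwPMCLAp3_12 : chkLwP Cfsg.Agent.Lib.Helper7.McLB.mclS wsMCLAp3 pmMCLAp3 lwMCLAp3 12 = true := by decide +kernel

theorem chk_lwPMCLAp3_13 : chkLwP Cfsg.Agent.Lib.Helper7.McLB.mclS wsMCLAp3 pmMCLAp3 lwMCLAp3 13 = true := by decide +kernel

theorem chk_lwPMCLAp3_14 : chkLwP Cfsg.Agent.Lib.Helper7.McLB.mclS wsMCLAp3 pmMCLAp3 lwMCLAp3 14 = true := by decide +kernel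

theorem chk_lwPMCLAp3_15 : chkLwP Cfsg.Agent.Lib.Helper7.McLB.mclS wsMCLAp3 pmMCLAp3 lwMCLAp3 15 = true := by decide +kernel

theorem chk_lwPMCLAp3_16 : chkLwP Cfsg.Agent.Lib.Helper7.McLB.mclS wsMCLAp3 pmMCLAp3 lwMCLAp3 16 = true := by decide +kernel

theorem chk_lwPMCLAp3_17 : chkLwP Cfsg.Agent.Lib.Helper7.McLB.mclS wsMCLAp3 pmMCLAp3 lwMCLAp3 17 = true := by decide +kernel

theorem chk_lwPMCLAp3_18 : chkLwP Cfsg.Agent.Lib.Helper7.McLB.mclS wsMCLAp3 pmMCLAp3 lwMCLAp3 18 = true := by decide +kernel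

theorem coreMCLAp3 : CoreFacts Cfsg.Agent.Lib.Helper7.McLB.mclS DMCLAp3 wsMCLAp3 pmMCLAp3 lwMCLAp3 := by
  apply coreFacts_of_chk
  · rfl
  · intro i hi
    have h' : i < 2 := hi
    interval_cases i
    · exact chk_tabMCLAp3_0
    · exact chk_tabMCLAp3_1
  · intro r hr
    have h' : r < 18 := hr
    interval_cases r
    · exact chk_relPMCLAp3_0
    · exact chk_relPMCLAp3_1
    · exact chk_relPMCLAp3_2
    · exact chk_relPMCLAp3_3
    · exact chk_relPMCLAp3_4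
    · exact chk_relPMCLAp3_5
    · exact chk_relPMCLAp3_6
    · exact chk_relPMCLAp3_7
    · exact chk_relPMCLAp3_8
    · exact chk_relPMCLAp3_9
    · exact chk_relPMCLAp3_10
    · exact chk_relPMCLAp3_11
    · exact chk_relPMCLAp3_12
    · exact chk_relPMCLAp3_13
    · exact chk_relPMCLAp3_14
    · exact chk_relPMCLAp3_15
    · exact chk_relPMCLAp3_16
    · exact chk_relPMCLAp3_17
  · intro i hi
    have h' : i < 2 := hi
    interval_cases i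
    · exact chk_ordPMCLAp3_0
    · exact chk_ordPMCLAp3_1
  · intro c hc
    have h' : c < 19 := hc
    interval_cases c
    · exact chk_lwPMCLAp3_0
    · exact chk_lwPMCLAp3_1
    · exact chk_lwPMCLAp3_2
    · exact chk_lwPMCLAp3_3
    · exact chk_lwPMCLAp3_4
    · exact chk_lwPMCLAp3_5
    · exact chk_lwPMCLAp3_6
    · exact chk_lwPMCLAp3_7
    · exact chk_lwPMCLAp3_8
    · exact chk_lwPMCLAp3_9
    · exact chk_lwPMCLAp3_10
    · exact chk_lwPMCLAp3_11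
    · exact chk_lwPMCLAp3_12
    · exact chk_lwPMCLAp3_13
    · exact chk_lwPMCLAp3_14
    · exact chk_lwPMCLAp3_15
    · exact chk_lwPMCLAp3_16
    · exact chk_lwPMCLAp3_17
    · exact chk_lwPMCLAp3_18

end Cfsg.Agent.Lib.Helper6.MultD
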