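import Mathlib

set_option autoImplicit false
set_option maxRecDepth 100000
set_option maxHeartbeats 8000000

/-! Certificate MCLCp2: chunk 0 of the combination modulo 32 of the distinguished unknown 0. -/

namespace Cfsg.Agent.Lib.Helper6.MultD

def ysMCLCp2_0_0 : List ((ℕ × ℕ) × ℕ) := [((1, 0), 10), ((1, 2), 30), ((1, 4), 14), ((1, 6), 14), ((1, 10), 21), ((1, 12), 22), ((1, 27), 22), ((1, 31), 11), ((1, 39), 7), ((2, 0), 29), ((2, 5), 8), ((2, 7), 12), ((2, 9), 4), ((2, 11), 27), ((2, 13), 20), ((1, 8), 17), ((1, 21), 3), ((1, 29), 29), ((1, 33), 11), ((1, 53), 31), ((1, 62), 19), ((2, 18), 9), ((2, 20), 3), ((2, 22), 7), ((3, 1), 5), ((3, 2), 15), ((3, 4), 17), ((3, 5), 8), ((1, 14), 18), ((1, 68), 8), ((1, 94), 28), ((2, 15), 14), ((2, 24), 21), ((2, 26), 26), ((3, 0), 3), ((4, 3), 18), ((11, 1), 25), ((16, 0), 26), ((24, 0), 3), ((1, 96), 5), ((2, 48), 28), ((3, 3), 11), ((3, 16), 11), ((3, 18), 4), ((3, 48), 17), ((4, 0), 14), ((5, 0), 6), ((5, 4), 22), ((7, 1), 4), ((10, 0), 1), ((11, 0), 28), ((14, 3), 1), ((24, 3), 29), ((3, 6), 25), ((3, 9), 13), ((3, 10), 8), ((3, 11), 24), ((3, 13), 18), ((3, 20), 11), ((3, 21), 7), ((3, 25), 14), ((3, 87), 8), ((5, 2), 21), ((5, 7), 4), ((5, 9), 21)]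

def LMCLCp2_0_0 : ℕ := 0x200000000000000000000000000000000000000000000000000000000000000006000000000000001f00000000000000000000000b0000001f00000000000000000000001c00000000000000560000002000000165000000090000001200000000000000000000002e0000003100000032000000150000001d0000003500000065000000000000002a00000000000000190000000000000000000000150000001c000000170000000000000008000000150000002c000000000000002e0000003900000000000000000000000c000000320000002a00000040000000260000002000000035000000200000001d00000066000000000000000000000000000000120000002e000000000000000000000035000000150000000b00000018000000210000002d000000560000001c000000150000003e0000000e00000039000000000000002c00000000000000400000001f000000260000001c00000020000000350000001c00000051000000450000002300000000000000430000001100000035000000160000002d0000003500000042000000590000001d0000003e0000009100000023000000380000003400000003000000330000002000000018000000390000000e00000016000000520000002300000043000000110000002f000000310000003f0000006b000000200000007c000000430000003c00000035000000260000004f0000000e0000003800000038000000420000004900000039000000920000003b000000440000008400000043000000490000004e0000008c000000ac00000062000000c5000000d700000020000000000000002700000000000000080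000001b0000000b00000011000000000000003900000028000000000000002b0000001500000007000000130000000000000040000000120000003f00000000000000210000000b0000002e00000000000000190000001c0000001c0000000000000024000000000000001c00000015000000000000001f0000001300000000000000270000005c000000000000001f0000000000000038000000150000001f00000020000000130000002b0000000b00000035000000120000001d00000003000000120000002000000000000000320000007100000000000000110000004000000020000000400000001300000032000000130000002000000044000000160000000e0000001f000000200000001f00000040000000400000002900000004000000380000003500000012000000260000002f000000120000000b0000000b000000240000004000000023000000400000007c000000000000001e00000044000000500000002000000039000000590000003a0000003800000044000000270000002e0000003c000000550000002a000000890000001e0000007500000027000000440000003f00000019000000620000002e00000086000000860000009b000000390000006900000056000000b30000008700000080000000d90000007d000000cc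

def TMCLCp2_0_0 : ℕ := 12260

end Cfsg.Agent.Lib.Helper6.MultD
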