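import Mathlib

set_option autoImplicit false
set_option maxRecDepth 100000
set_option maxHeartbeats 8000000

/-! Certificate MCLCp2: chunk 1 of the combination modulo 32 of the distinguished unknown 0. -/

namespace Cfsg.Agent.Lib.Helper6.MultD

def ysMCLCp2_0_1 : List ((ℕ × ℕ) × ℕ) := [((7, 0), 30), ((7, 11), 7), ((8, 0), 18), ((8, 1), 31), ((8, 6), 25), ((9, 1), 21), ((9, 40), 7), ((10, 1), 17), ((12, 16), 11), ((13, 3), 26), ((13, 15), 6), ((14, 1), 31), ((15, 0), 28), ((15, 8), 4), ((16, 1), 13), ((16, 8), 25), ((21, 1), 15), ((21, 7), 28), ((21, 12), 21), ((3, 14), 11), ((3, 19), 19), ((3, 24), 15), ((3, 29), 7), ((3, 30), 2), ((3, 46), 4), ((3, 72), 11), ((5, 5), 21), ((7, 3), 11), ((7, 4), 3), ((7, 6), 25), ((7, 27), 7), ((7, 46), 24), ((7, 66), 17), ((8, 27), 30), ((8, 32), 21), ((8, 74), 3), ((9, 0), 7), ((9, 2), 10), ((9, 3), 11), ((9, 5), 14), ((9, 7), 7), ((9, 11), 19), ((10, 4), 8), ((10, 7), 3), ((10, 9), 14), ((10, 19), 21), ((11, 15), 11), ((12, 4), 14), ((12, 50), 7), ((13, 1), 10), ((13, 9), 22), ((5, 91), 1), ((0, 1), 8), ((0, 2), 24), ((0, 4), 8), ((0, 5), 24), ((0, 9), 8), ((0, 11), 24), ((0, 18), 8), ((0, 23), 24), ((0, 43), 24), ((0, 68), 24), ((0, 99), 24), ((0, 120), 24), ((0, 125),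 24)]

def LMCLCp2_0_1 : ℕ := 0x20000000000000000000000000000000000000001a000000200000000100000040000000400000001500000061000000a00000004000000084000000000000002a000000000000009b0000003f0000002e0000000000000000000000320000000f0000002e0000000b000000030000004b0000003b0000000000000036000000000000002700000000000000400000000b000000240000002900000020000000780000000b000000340000000000000032000000270000002000000000000000940000002e00000016000000000000001a000000800000002b00000000000000030000003a0000000000000000000000000000004e0000005200000020000000200000000b0000000b00000015000000280000001f000000330000004a000000240000000b00000062000000320000004700000020000000b40000002000000060000000410000001a00000044000000200000002b000000040000008f0000001b0000005d000000200000005d0000004f0000000b0000006a000000330000000b0000001e0000008700000043000000620000006f0000003d000000480000008c0000001d0000002d000000600000004800000027000000520000004a0000008e0000007d000000dd0000008f000000510000004f000000410000009500000040000000a40000005d000000240000004b0000005a0000005100000052000000a8000000880000005e00000037000000a7000000ce000000650000003c000000bc0000013d0000007700000092000000b4000000f4000000be0000009b000001290000000000000000000000190000000000000038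00000025000000150000000f00000000000000070000003800000000000000150000000b000000190000000d00000000000000000000002e00000021000000200000001f000000150000003200000000000000470000002400000024000000000000001c00000040000000240000000b00000000000000010000000d000000000000001900000084000000000000006100000020000000280000000b00000061000000200000000d00000015000000350000000b0000000e000000030000003d0000006e00000020000000000000006e0000002f000000000000002f0000000000000000000000000000000d0000000e0000000d000000000000003c0000000a000000320000006100000040000000810000004000000020000000370000001c000000280000000b0000004e0000003a000000510000002e00000035000000150000005c000000200000003d000000000000002400000040000000220000001c0000003000000040000000470000002700000086000000280000005c0000003900000092000000640000008b0000005600000057000000620000006b00000079000000fc00000061000000470000009e000000520000009a0000005a000000a500000087000000770000008a0000010d00000079000000e0000000e70000012300000094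

def TMCLCp2_0_1 : ℕ := 17252

end Cfsg.Agent.Lib.Helper6.MultD
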