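import Mathlib
import Cfsg.Agent.Lib.Helper1.StemZP7
import Cfsg.Agent.Lib.Helper6.MultD.MCLCp2R0
import Cfsg.Agent.Lib.Helper6.MultD.MCLCp2Y0_0
import Cfsg.Agent.Lib.Helper6.MultD.MCLCp2Y0_1

set_option autoImplicit false
set_option maxRecDepth 100000
set_option maxHeartbeats 8000000

/-! Certificate MCLCp2 for the prime 2. -/

namespace Cfsg.Agent.Lib.Helper6.MultD

open Cfsg.Agent.Lib.Helper1

def specNMCLCp2 : ℕ := 0x88488078168968163260458f58351350950750448b48748548348248044a42041b4093c23ae39b3863843832851e51c81b61ae1ac1a219e19d19b19819318ed03c86b00a8ca87a81a0098398180880178878070168f68a6836105014a848140640140038b3802892872821d71a019919519418d18b18a18918614314112ac03b809007035805003812842802001b01961921901831361300e0c0080058120318011a11810f0de0cb0c408e3021851841821811161141121010be0bb0b90b50a90a109d09509308810d10b1091071051000b10ae0a709f09b08c08a086084082080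

def unkNMCLCp2 : ℕ := 0x44e25118843e1d0d8642e15098441e0d058240e0501803fdfcfd7e3edf4f97c3ddecf57a3cde4f1783bddced763add4e97439dcce572381bede6e36db2d86bb51a6d268b3d9ccd6632d94c96331586bf5dae16cb5592c15eae5429d4aa451269308f431f4f87b3d1e4ee763a9d0e672389c0de6e369b0d4693419cca6431988c2602f978ba5c2d968b2582b154a6512712c944421104803e1e8f07032168ac542813094461e0c8441e0e

def colNMCLCp2 : ℕ := 0x97969594939291908f8e8d8c8b8a898887868584838281807f7e7d7c7b7a797877767574737271706f6e6d6c6b6a69680000006766650064630062616000005f5e5d5c005b5a5958575655000054530052000000510000005000004f004e4d00004c004b4a490000000000484700464500440000000000000043004200000000000000004100000000000000004000000000000000003f3e3d3c3b003a393837363534333231302f002e2d2c2b002a292827262524232221201f1e1d001c1b001a001900001800001716000000000015001413120011100f0000000e00000000000d000000000c000b0a000900080700060000000005000000000400000000000000030002010000000000000000000000000000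

def trMCLCp2_0 : List (List ((ℕ × ℕ) × ℕ) × ℕ × ℕ) := [(ysMCLCp2_0_0, LMCLCp2_0_0, TMCLCp2_0_0), (ysMCLCp2_0_1, LMCLCp2_0_1, TMCLCp2_0_1)]

def relMCLCp2 : List (List ((ℕ × ℕ) × ℕ)) := [(trMCLCp2_0.map fun t => t.1).flatten]

/-- the certificate -/
def CMCLCp2 : StemZP.ZRCert where
  p := 2
  s := 5
  w := 5
  N := 151
  β := 1
  hmR := 30
  hmQ := 16
  bs := [251]
  es := [3]
  specs := fun i => ((specNMCLCp2 >>> (12 * i)) % 2 ^ 12 / 2 ^ 7, (specNMCLCp2 >>> (12 * i)) % 2 ^ 7)
  unk := fun c => (unkNMCLCp2 >>> (9 * c)) % 2 ^ 9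
  colT := fun b => (colNMCLCp2 >>> (8 * b)) % 2 ^ 8
  R := fun c => if c < 151 then (RLMCLCp2_0.getD ((c - 0) / 32) []).getD ((c - 0) % 32) 0 else 0
  rel := relMCLCp2

end Cfsg.Agent.Lib.Helper6.MultD
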