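import Mathlib
import Cfsg.Agent.Lib.Helper6.MultD.MCLCp2H
import Cfsg.Agent.Lib.Helper6.MultD.MCLCp2K0_0
import Cfsg.Agent.Lib.Helper6.MultD.MCLCp2K0_1

set_option autoImplicit false
set_option maxRecDepth 100000
set_option maxHeartbeats 8000000

/-! Certificate MCLCp2: the checks of the combinations modulo 32 and the full certificate. -/

namespace Cfsg.Agent.Lib.Helper6.MultD

open Cfsg.Agent.Lib.Helper1

open Cfsg.Agent.Lib.Helper6.Mult StemZP

theorem chunksMCLCp2_0 : ∀ t ∈ trMCLCp2_0, chunkOK DMCLCp2 32 t.1 t.2.1 t.2.2 = true := by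
  intro t ht
  simp only [trMCLCp2_0, List.mem_cons, List.not_mem_nil, or_false] at ht
  rcases ht with rfl | rfl
  · exact chunkMCLCp2_0_0
  · exact chunkMCLCp2_0_1

theorem hTMCLCp2_0 : (trMCLCp2_0.map fun t => t.2.2).sum < StemZD.X := by decide +kernel

theorem hdigMCLCp2_0 : ((List.range DMCLCp2.n).all fun c =>
    (trMCLCp2_0.map fun t => t.2.1).sum / StemZD.X ^ c % StemZD.X % 32 == if c = 251 then 8 else 0) = true := by
  decide +kernel

theorem chk_relMCLCp2_0 : chkRel DMCLCp2 CMCLCp2.toP (trMCLCp2_0.map fun t => t.1).flatten 251 3 = true :=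
  chkRel_of_chunks DMCLCp2 CMCLCp2.toP trMCLCp2_0 251 3 chunksMCLCp2_0 hTMCLCp2_0 hdigMCLCp2_0

theorem chk_certMCLCp2 : chkCertR DMCLCp2 CMCLCp2 = true := by
  apply chkCertR_of_main DMCLCp2 CMCLCp2 chk_mainMCLCp2
  show (List.range 1).all _ = true
  have e : List.range 1 = [0] := rfl
  rw [e]
  simp only [List.all_cons, List.all_nil, Bool.and_true, Bool.and_eq_true]
  exact chk_relMCLCp2_0

end Cfsg.Agent.Lib.Helper6.MultD
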