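import Mathlib

set_option autoImplicit false
set_option maxRecDepth 100000
set_option maxHeartbeats 8000000

/-! Certificate MCLCp3: chunk 0 of the combination modulo 9 of the distinguished unknown 0. -/

namespace Cfsg.Agent.Lib.Helper6.MultD

def ysMCLCp3_0_0 : List ((ℕ × ℕ) × ℕ) := [((1, 0), 2), ((1, 2), 3), ((1, 4), 5), ((1, 10), 8), ((1, 12), 6), ((1, 27), 7), ((1, 31), 8), ((1, 39), 2), ((1, 46), 2), ((2, 0), 2), ((2, 5), 6), ((2, 7), 2), ((2, 11), 3), ((2, 13), 1), ((1, 8), 4), ((1, 19), 1), ((1, 21), 8), ((1, 29), 8), ((1, 33), 1), ((1, 41), 4), ((1, 53), 6), ((1, 59), 6), ((2, 1), 5), ((2, 18), 7), ((2, 22), 3), ((1, 14), 5), ((1, 68), 4), ((1, 94), 6), ((2, 15), 5), ((2, 24), 7), ((2, 26), 2), ((3, 2), 7), ((3, 5), 8), ((2, 48), 1), ((3, 0), 2), ((3, 4), 5), ((6, 2), 7), ((2, 67), 1), ((4, 3), 8), ((11, 1), 4), ((16, 0), 7), ((4, 0), 5), ((7, 1), 5), ((18, 0), 8), ((24, 0), 6), ((3, 3), 7), ((3, 13), 5), ((3, 16), 4), ((3, 48), 6), ((4, 40), 5), ((5, 0), 2), ((7, 32), 6), ((10, 0), 4), ((11, 0), 6), ((14, 3), 3), ((16, 3), 1), ((16, 4), 5), ((16, 32), 4), ((16, 44), 8), ((23, 0), 8)]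

def LMCLCp3_0_0 : ℕ := 0x300000001000000000000000000000000000000000000000100000000000000140000000000000006000000000000000000000008000000050000000000000000000000070000000200000007000000090000001c000000070000000000000001000000050000000f0000000b0000000000000009000000000000000d00000011000000010000000700000000000000010000000000000000000000070000000100000017000000000000000e000000060000000700000000000000100000000b0000000100000000000000060000000e00000006000000110000000f000000070000000c00000005000000000000000d000000000000000000000000000000070000000a000000010000000000000005000000000000000000000010000000020000000a0000001a000000010000000700000007000000050000000b000000010000000f000000000000001200000006000000100000000a000000070000000c00000001000000130000000f0000000d000000000000000a000000050000000600000008000000010000000f0000000a0000001a00000007000000170000001c00000000000000060000001400000008000000070000000b0000000b0000001000000005000000070000001e000000110000000a0000000500000007000000010000000b0000001a000000070000001c0000000f0000000c0000000b000000100000000800000005000000160000000f0000000f00000018000000150000001c0000000c0000001000000010000000160000000f00000025000000270000001b0000002a0000002800000049000000080000000900000006000000040000000400000000000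000090000000600000009000000040000000c000000000000000400000000000000020000000000000000000000190000000900000010000000000000000900000008000000060000001600000007000000060000000600000009000000070000000000000006000000080000000000000006000000010000000600000001000000120000000800000006000000000000000d000000000000000600000002000000000000000d0000000000000018000000050000000800000000000000090000000d00000016000000140000001500000009000000040000000600000012000000120000000800000008000000010000000b000000010000000b000000110000000a0000000d00000006000000060000000d00000008000000000000001f0000000c00000009000000080000001400000005000000080000000d0000000a00000006000000080000000d00000018000000010000000100000001000000180000000d0000000a000000120000000a000000290000000f00000005000000170000000800000011000000080000002300000001000000230000000b0000000e000000180000000500000018000000170000001900000023000000240000000f00000022000000230000002d00000024000000320000003b0000002200000030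

def TMCLCp3_0_0 : ℕ := 3086

end Cfsg.Agent.Lib.Helper6.MultD
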