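import Mathlib

set_option autoImplicit false
set_option maxRecDepth 100000
set_option maxHeartbeats 8000000

/-! Certificate MCLCp3: chunk 1 of the combination modulo 9 of the distinguished unknown 0. -/

namespace Cfsg.Agent.Lib.Helper6.MultD

def ysMCLCp3_0_1 : List ((ℕ × ℕ) × ℕ) := [((3, 11), 3), ((3, 21), 6), ((3, 25), 4), ((7, 3), 5), ((7, 11), 7), ((8, 0), 6), ((8, 1), 4), ((8, 6), 8), ((13, 3), 7), ((13, 10), 8), ((14, 1), 6), ((16, 1), 6), ((16, 2), 3), ((16, 8), 8), ((19, 1), 5), ((21, 1), 3), ((22, 0), 3), ((3, 6), 5), ((3, 17), 7), ((3, 20), 5), ((3, 26), 4), ((3, 29), 2), ((3, 34), 2), ((3, 46), 1), ((6, 72), 2), ((7, 5), 1), ((7, 6), 3), ((7, 46), 4), ((7, 57), 7), ((7, 66), 7), ((9, 1), 6), ((9, 7), 8), ((9, 40), 4), ((10, 1), 4), ((10, 7), 1), ((11, 3), 8), ((13, 15), 3), ((15, 0), 4), ((15, 8), 5), ((16, 6), 2), ((17, 0), 1), ((17, 4), 8), ((18, 7), 1), ((19, 3), 4), ((21, 7), 7), ((21, 12), 8), ((22, 87), 6), ((23, 2), 1), ((24, 1), 3), ((25, 6), 7), ((25, 28), 3), ((25, 74), 8), ((26, 3), 1), ((26, 15), 5), ((3, 19), 2), ((3, 30), 4), ((3, 44), 6), ((3, 59), 4), ((5, 13), 7), ((16, 69), 1)]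

def LMCLCp3_0_1 : ℕ := 0xc0000000900000006000000080000000900000009000000000000000900000008000000090000001900000009000000030000000900000000000000010000000d00000009000000090000001d000000070000000200000000000000470000000b0000001200000008000000040000000c000000070000001200000000000000000000000e0000000a000000080000000b000000090000001a000000000000001200000002000000110000000d00000000000000280000000c0000000b00000009000000140000000700000008000000090000000c0000001f00000003000000130000000c0000001d000000180000000d000000000000000e0000000000000000000000090000001400000011000000080000000900000004000000090000000900000002000000190000001a0000001c000000110000000b000000260000000d000000070000001100000015000000090000001b000000030000000b00000008000000140000002100000008000000110000000300000017000000090000001a0000000d000000030000001c00000008000000030000001a0000002e000000260000002800000011000000000000001500000019000000010000000b00000022000000100000000b00000016000000260000000f0000002e00000035000000310000001d00000011000000340000003700000026000000110000001e0000000600000022000000140000001c0000001f00000044000000270000001e000000150000002a000000230000001800000014000000380000005f000000390000002c0000002a0000003f0000004b0000004d0000005000000001000000000000000300000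0050000000e00000000000000120000000c00000000000000050000000600000000000000050000000000000007000000000000000000000002000000120000000b0000001200000009000000010000000c000000050000001d000000030000000c00000000000000020000000900000003000000010000000900000003000000110000000c00000008000000120000000a0000001e000000090000000e000000000000001e00000019000000000000000e00000012000000030000000d00000001000000120000002400000017000000050000002200000006000000090000000e000000030000000000000009000000010000001300000008000000190000001100000007000000010000001a000000170000001e00000027000000170000000100000012000000050000000f0000001b000000010000001900000004000000130000000e000000230000000c0000001c0000000e0000000c0000001a0000001a00000008000000030000001700000011000000120000002300000004000000270000000d0000001600000013000000250000002500000013000000230000000a0000001900000028000000300000001f00000042000000280000002f0000001c0000001b0000002700000026000000400000003f0000002d0000005e0000003a000000530000003c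

def TMCLCp3_0_1 : ℕ := 5359

end Cfsg.Agent.Lib.Helper6.MultD
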