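import Mathlib

set_option autoImplicit false

/-! The subgroup `U3(5)` of the McLaughlin group: the generators and their tables. -/

namespace Cfsg.Agent.Lib.Helper6.MultD

/-- the generators of the subgroup as words in the letters of the model -/
def wsMCLUM : List (List ℕ) := [[3, 5, 9, 1, 6, 3, 5, 9, 1, 6], [0, 7, 5, 13, 5, 0, 0, 7, 5, 13, 5, 0, 0, 7, 5, 13, 5, 0, 0, 7, 5, 13, 5, 0, 0, 7, 5, 13, 5, 0, 0, 7, 5, 13, 5, 0]]

/-- the tables of the generators on the points -/
def pmNMCLUM : List ℕ := [0x38dbce66441de0d25718c6682271c8d8261e089e8bd03420dc7e308f47e53498143ebc40394be6a6bc2992451c2b608c046a451c6870bce24351b304da7f1c9c4f4ac538c1c0ab7a8ec00b1282183102638792c890713c581c5a30a22027f8dd3301212e9a0bb192d906047e0c572b07212d24780503d2e2577aa5ace71082146ec3ab29509a102060087533b536f74a3aa2084673c948176215e1e6209a3dd60334bf938e2152ccba9f828a20cd83bbf4f8fb089e4de586d1d8887b6dc356aaf090b4a4f677034e8662b1c0a234819683a5e13bc56ef82a0a4fa151d4389a4c85af8b2481191940dd21ae0cefa12314805b86318d68525031aa090c95402a5178b8c03e15b70cad9453a53af908331429569a78928b66a32121b0d1cd9eaa4c1042c470a32d10df51350b80b68afcc8c3483a16407,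 0x35ca6b03a23826be252419863751ca1a0b201e9b201013ad34710f0687277360894c216ebd5a2bf7d0a8865b5c91d2cd289120b8bc5392462657f411f6882686c286a4c9e51b054337162844d939d21c88a49bcc052b15cc41280f41c8f06bd858386a3e008064132202ff6d38c88d567b95f2a93597e162b0b991671026334b03c7e2e102543332c7cf7348c10ad8138488cf4303b9485d5a8dc227f00310ac360541ceaf2741bd22251da7830ca3b16a0c0f87275daaf54305e6970c99d3005259c09e80722b59cb65a24cfa575eae820c321165426e7e8e9d855819a1130f4a0fd562e5ba3164164fab818e05639e00350ebbc6708438b5c2db3142940a284b184051131cd84f0019f9ac782f07c64d0861b5061563949c47c22bc45e8b5d890689551a700ed3041ed14c914408c2df11aa85209]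

def pmMCLUM (i q : ℕ) : ℕ := (pmNMCLUM.getD i 0 >>> (9 * q)) % 2 ^ 9

end Cfsg.Agent.Lib.Helper6.MultD
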