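import Cfsg.Agent.Lib.Helper7.McLB9
import Cfsg.Agent.Lib.Helper6.MultD.MCLUM
import Cfsg.Agent.Lib.Helper6.Mult.PM2

set_option autoImplicit false
set_option maxRecDepth 100000

/-! The subgroup `U3(5)` of the McLaughlin group: the tables of its generators, and its model. -/

namespace Cfsg.Agent.Lib.Helper6.MultD

open Cfsg.Agent.Lib.Helper6.PM Cfsg.Agent.Lib.Helper1

theorem chk_tabMCLUM_0 : chkTab Cfsg.Agent.Lib.Helper7.McLB.mclS wsMCLUM pmMCLUM 0 = true := by decide +kernel

theorem chk_tabMCLUM_1 : chkTab Cfsg.Agent.Lib.Helper7.McLB.mclS wsMCLUM pmMCLUM 1 = true := by decide +kernel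

theorem tabMCLUM : TabFacts Cfsg.Agent.Lib.Helper7.McLB.mclS wsMCLUM pmMCLUM := by
  apply tabFacts_of_chk
  intro i hi
  have h' : i < 2 := hi
  interval_cases i
  · exact chk_tabMCLUM_0
  · exact chk_tabMCLUM_1

/-- the model of the subgroup `U3(5)` -/
noncomputable def mclU : PModel := sub Cfsg.Agent.Lib.Helper7.McLB.mclS wsMCLUM pmMCLUM tabMCLUM

end Cfsg.Agent.Lib.Helper6.MultD
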