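import Cfsg.Agent.Lib.Helper6.Mult.PM3
import Cfsg.Agent.Lib.Helper6.MultD.MCLUML
import Cfsg.Agent.Lib.Helper6.MultD.MCLCp3D

set_option autoImplicit false
set_option maxRecDepth 100000

/-! The subgroup `U3(5)` of the McLaughlin group on 126 sets of 50 points, data MCLCp3: the checks of the generators. -/

namespace Cfsg.Agent.Lib.Helper6.MultD

open Cfsg.Agent.Lib.Helper6.PM Cfsg.Agent.Lib.Helper1

theorem chk_tabMCLCp3_0 : chkTab mclU wsMCLCp3 pmMCLCp3 0 = true := by decide +kernel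

theorem chk_tabMCLCp3_1 : chkTab mclU wsMCLCp3 pmMCLCp3 1 = true := by decide +kernel

theorem chk_relPMCLCp3_0 : chkRelP mclU DMCLCp3 pmMCLCp3 0 = true := by decide +kernel

theorem chk_relPMCLCp3_1 : chkRelP mclU DMCLCp3 pmMCLCp3 1 = true := by decide +kernel

theorem chk_relPMCLCp3_2 : chkRelP mclU DMCLCp3 pmMCLCp3 2 = true := by decide +kernel

theorem chk_relPMCLCp3_3 : chkRelP mclU DMCLCp3 pmMCLCp3 3 = true := by decide +kernel

theorem chk_relPMCLCp3_4 : chkRelP mclU DMCLCp3 pmMCLCp3 4 = true := by decide +kernel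

theorem chk_relPMCLCp3_5 : chkRelP mclU DMCLCp3 pmMCLCp3 5 = true := by decide +kernel

theorem chk_relPMCLCp3_6 : chkRelP mclU DMCLCp3 pmMCLCp3 6 = true := by decide +kernel

theorem chk_relPMCLCp3_7 : chkRelP mclU DMCLCp3 pmMCLCp3 7 = true := by decide +kernel

theorem chk_relPMCLCp3_8 : chkRelP mclU DMCLCp3 pmMCLCp3 8 = true := by decide +kernel

theorem chk_relPMCLCp3_9 : chkRelP mclU DMCLCp3 pmMCLCp3 9 = true := by decide +kernel

theorem chk_relPMCLCp3_10 : chkRelP mclU DMCLCp3 pmMCLCp3 10 = true := by decide +kernel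

theorem chk_relPMCLCp3_11 : chkRelP mclU DMCLCp3 pmMCLCp3 11 = true := by decide +kernel

theorem chk_relPMCLCp3_12 : chkRelP mclU DMCLCp3 pmMCLCp3 12 = true := by decide +kernel

theorem chk_relPMCLCp3_13 : chkRelP mclU DMCLCp3 pmMCLCp3 13 = true := by decide +kernel

theorem chk_relPMCLCp3_14 : chkRelP mclU DMCLCp3 pmMCLCp3 14 = true := by decide +kernel

theorem chk_relPMCLCp3_15 : chkRelP mclU DMCLCp3 pmMCLCp3 15 = true := by decide +kernel

theorem chk_relPMCLCp3_16 : chkRelP mclU DMCLCp3 pmMCLCp3 16 = true := by decide +kernel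

theorem chk_relPMCLCp3_17 : chkRelP mclU DMCLCp3 pmMCLCp3 17 = true := by decide +kernel

theorem chk_relPMCLCp3_18 : chkRelP mclU DMCLCp3 pmMCLCp3 18 = true := by decide +kernel

theorem chk_relPMCLCp3_19 : chkRelP mclU DMCLCp3 pmMCLCp3 19 = true := by decide +kernel

theorem chk_relPMCLCp3_20 : chkRelP mclU DMCLCp3 pmMCLCp3 20 = true := by decide +kernel

theorem chk_relPMCLCp3_21 : chkRelP mclU DMCLCp3 pmMCLCp3 21 = true := by decide +kernel

theorem chk_relPMCLCp3_22 : chkRelP mclU DMCLCp3 pmMCLCp3 22 = true := by decide +kernel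

theorem chk_relPMCLCp3_23 : chkRelP mclU DMCLCp3 pmMCLCp3 23 = true := by decide +kernel

theorem chk_ordPMCLCp3_0 : chkOrdP mclU DMCLCp3 pmMCLCp3 0 = true := by decide +kernel

theorem chk_ordPMCLCp3_1 : chkOrdP mclU DMCLCp3 pmMCLCp3 1 = true := by decide +kernel

theorem chk_lwPMCLCp3_0 : chkLwP mclU wsMCLCp3 pmMCLCp3 lwMCLCp3 0 = true := by decide +kernel

theorem chk_lwPMCLCp3_1 : chkLwP mclU wsMCLCp3 pmMCLCp3 lwMCLCp3 1 = true := by decide +kernel

theorem coreMCLCp3 : CoreFacts mclU DMCLCp3 wsMCLCp3 pmMCLCp3 lwMCLCp3 := by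
  apply coreFacts_of_chk
  · rfl
  · intro i hi
    have h' : i < 2 := hi
    interval_cases i
    · exact chk_tabMCLCp3_0
    · exact chk_tabMCLCp3_1
  · intro r hr
    have h' : r < 24 := hr
    interval_cases r
    · exact chk_relPMCLCp3_0
    · exact chk_relPMCLCp3_1
    · exact chk_relPMCLCp3_2
    · exact chk_relPMCLCp3_3
    · exact chk_relPMCLCp3_4
    · exact chk_relPMCLCp3_5
    · exact chk_relPMCLCp3_6
    · exact chk_relPMCLCp3_7
    · exact chk_relPMCLCp3_8
    · exact chk_relPMCLCp3_9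
    · exact chk_relPMCLCp3_10
    · exact chk_relPMCLCp3_11
    · exact chk_relPMCLCp3_12
    · exact chk_relPMCLCp3_13
    · exact chk_relPMCLCp3_14
    · exact chk_relPMCLCp3_15
    · exact chk_relPMCLCp3_16
    · exact chk_relPMCLCp3_17
    · exact chk_relPMCLCp3_18
    · exact chk_relPMCLCp3_19
    · exact chk_relPMCLCp3_20
    · exact chk_relPMCLCp3_21
    · exact chk_relPMCLCp3_22
    · exact chk_relPMCLCp3_23
  · intro i hi
    have h' : i < 2 := hi
    interval_cases i
    · exact chk_ordPMCLCp3_0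
    · exact chk_ordPMCLCp3_1
  · intro c hc
    have h' : c < 2 := hc
    interval_cases c
    · exact chk_lwPMCLCp3_0
    · exact chk_lwPMCLCp3_1

end Cfsg.Agent.Lib.Helper6.MultD
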