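import Mathlib
import Cfsg.Agent.Lib.Helper1.StemZP7
import Cfsg.Agent.Lib.Helper6.MultD.MCLPp5R0

set_option autoImplicit false
set_option maxRecDepth 100000
set_option maxHeartbeats 8000000

/-! Certificate MCLPp5 for the prime 5. -/

namespace Cfsg.Agent.Lib.Helper6.MultD

open Cfsg.Agent.Lib.Helper1

def specNMCLPp5 : ℕ := 0x490523d48650bf41050183b84e4b388ccf73330c9d319cc573154c4c30e8c1928c48d6222885920ec829207c81b2054645a10a828a0326e789c6253880e200818604180620027829e097435c3370a187560cd80f583d609580548e5009271494122f48a9204432906a4054ee53ac8e5538b8cdc3188c1e2ad8a4128f8a20224882b200c653910222b8805e5e71d5c47701180358c530d4004e883938e093388c2f3018a1d283489e225085b20bc80a201064188a604e782dc06640d80559252f0497520838fce133830c2d3050c0c28848212080658a09e820a04a4978962206838a0017815e00705dc0a701dc037001a08588d20d482d2094044e963044a1420dc816200064ea23e2078811e026c45800584921a480cec43328c3630a4c052bdc86c20308051a2062e1884609a00a00368010383074c18282083d202c8021b8869f18a461568a54074804c0428f4a15209880619a862290a6208587cc943080c172051c3d4854a182130801185c60b70614043808811187c60a885a00018bc6013040c0218f0a04181c600203540111c041c119c45110ec43a10e0434109c2f8080043610ac41810202cf09b445b10f8416105041210382ab09c8260092023f08d4232104040a10184040a2026b099425608e422a08a0225100826a098c24408dc22c087c21b084c2111000223088421d085c215083c20d082c209081c205080c201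

def unkNMCLPp5 : ℕ := 0x8de368d6348ce328c6308be2e8b62c8ae2a8a62889e268962488e228862087e1e8761c86e1a8661885e168561484e118420f83a0d8320b82a0981e068160480e02806007fdfe7f5fc7e9f97e1f77d9f37c9f17bdee7b5ec7a9e97a1e6795e478de2781df775dc76dda761d7759d5751d3745d073dcc72dc9721c6715c470dc06fdbe6f1ba6e1b76d9b46cdb16c1ae6b5ac6adaa6a5a8695a3689a16819e6719b6659865d94649916358b61d866117f5f97d5d9755a568599635795b5594d5314951543505364cd314b526449114410f4390d4310b4290942107419054110340901400ff3f8fd3f0fb3e8f93e0f73d8f53d0f33c4f03bcee3b4ec3acea3a4e839ce6394e4388e1380df378dd370db35cd6354d434cd0338cb328c9310c3308c02fcbd2f0bb2e8b92e0b72d4b42ccb22c4b02bcae2b0ab294a32849f2789b26097250932449023c8e2348c22487218852047f1f87c1e8781d0721b86d1a869198611805f16852130410f43c0d4310b800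

def colNMCLPp5 : ℕ := 0x93496492391486411f8f476391b8d46631178b456291389446210f87436190b8542611078341609038100203007fbf9fafc7dbe9f2007c3ddecf57a3cde4f1783bddced003b1d6ea74ba0000073b99ca007238dc4e100381bede00375b8db6d36400d86b801acd56a34c00d268b419ece6680198cb6500000c9640018ec60031588c36100000c1602fc00be002f400bc5dae800b95c0016eb6002d568b3592c560af000015c0056ab156aa002a400a8538014ca55200000a30028942000000140004f80000004f274009c0000000004da693200000000000002612e00000000000000000000000012c95002500000498000000002480000488000000002400000000000000000011e8e000011a00000011800458011400000000000000000000002240000440010e00000010c0000000000000214000000000000000000000000000000000000000000211068240a00fe7e3e9f0f67a3c9e0ee763a9d0e672389c0de6e369b0d66a349a0ce6632800c86331184c05f2f174b85b2d164b05700158aa5429948a25027800000027134984b250000049001200000239188a00000000044219080041200007e3e1e8f0763a1c80070371b0d46833190c40030178000000000005c00168005800158a8000014800002813800002612800482311084401f000003c000e87036000000034000c86000170005800150000000140004c0000000482200000401e00000380000000001a0c058000000000280000000000000000240000000000008000000000000000000000000e00000000c05000000000000000800000000600000080000000000000000000000000000000000000000000000000000000000000000000000000000000000000000000000000000001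

def relMCLPp5 : List (List ((ℕ × ℕ) × ℕ)) := []

/-- the certificate -/
def CMCLPp5 : StemZP.ZRCert where
  p := 5
  s := 2
  w := 8
  N := 294
  β := 7
  hmR := 248
  hmQ := 224
  bs := []
  es := []
  specs := fun i => ((specNMCLPp5 >>> (14 * i)) % 2 ^ 14 / 2 ^ 9, (specNMCLPp5 >>> (14 * i)) % 2 ^ 9)
  unk := fun c => (unkNMCLPp5 >>> (10 * c)) % 2 ^ 10
  colT := fun b => (colNMCLPp5 >>> (9 * b)) % 2 ^ 9
  R := fun c => if c < 294 then (RLMCLPp5_0.getD ((c - 0) / 32) []).getD ((c - 0) % 32) 0 else 0
  rel := relMCLPp5

end Cfsg.Agent.Lib.Helper6.MultD
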