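import Mathlib
import Cfsg.Agent.Lib.Helper6.MultD.U62Ap2H
import Cfsg.Agent.Lib.Helper6.MultD.U62Ap2K0_0
import Cfsg.Agent.Lib.Helper6.MultD.U62Ap2K0_1
import Cfsg.Agent.Lib.Helper6.MultD.U62Ap2K1_0
import Cfsg.Agent.Lib.Helper6.MultD.U62Ap2K1_1

set_option autoImplicit false
set_option maxRecDepth 100000
set_option maxHeartbeats 8000000

/-! Certificate U62Ap2: the checks of the combinations modulo 4 and the full certificate. -/

namespace Cfsg.Agent.Lib.Helper6.MultD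

open Cfsg.Agent.Lib.Helper1

open Cfsg.Agent.Lib.Helper6.Mult StemZP

theorem chunksU62Ap2_0 : ∀ t ∈ trU62Ap2_0, chunkOK DU62Ap2 4 t.1 t.2.1 t.2.2 = true := by
  intro t ht
  simp only [trU62Ap2_0, List.mem_cons, List.not_mem_nil, or_false] at ht
  rcases ht with rfl | rfl
  · exact chunkU62Ap2_0_0
  · exact chunkU62Ap2_0_1

theorem hTU62Ap2_0 : (trU62Ap2_0.map fun t => t.2.2).sum < StemZD.X := by decide +kernel

theorem hdigU62Ap2_0 : ((List.range DU62Ap2.n).all fun c =>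
    (trU62Ap2_0.map fun t => t.2.1).sum / StemZD.X ^ c % StemZD.X % 4 == if c = 1343 then 2 else 0) = true := by
  decide +kernel

theorem chk_relU62Ap2_0 : chkRel DU62Ap2 CU62Ap2.toP (trU62Ap2_0.map fun t => t.1).flatten 1343 1 = true :=
  chkRel_of_chunks DU62Ap2 CU62Ap2.toP trU62Ap2_0 1343 1 chunksU62Ap2_0 hTU62Ap2_0 hdigU62Ap2_0

theorem chunksU62Ap2_1 : ∀ t ∈ trU62Ap2_1, chunkOK DU62Ap2 4 t.1 t.2.1 t.2.2 = true := by
  intro t ht
  simp only [trU62Ap2_1, List.mem_cons, List.not_mem_nil, or_false] at ht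
  rcases ht with rfl | rfl
  · exact chunkU62Ap2_1_0
  · exact chunkU62Ap2_1_1

theorem hTU62Ap2_1 : (trU62Ap2_1.map fun t => t.2.2).sum < StemZD.X := by decide +kernel

theorem hdigU62Ap2_1 : ((List.range DU62Ap2.n).all fun c =>
    (trU62Ap2_1.map fun t => t.2.1).sum / StemZD.X ^ c % StemZD.X % 4 == if c = 1353 then 2 else 0) = true := by
  decide +kernel

theorem chk_relU62Ap2_1 : chkRel DU62Ap2 CU62Ap2.toP (trU62Ap2_1.map fun t => t.1).flatten 1353 1 = true :=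
  chkRel_of_chunks DU62Ap2 CU62Ap2.toP trU62Ap2_1 1353 1 chunksU62Ap2_1 hTU62Ap2_1 hdigU62Ap2_1

theorem chk_certU62Ap2 : chkCertR DU62Ap2 CU62Ap2 = true := by
  apply chkCertR_of_main DU62Ap2 CU62Ap2 chk_mainU62Ap2
  show (List.range 2).all _ = true
  have e : List.range 2 = [0, 1] := rfl
  rw [e]
  simp only [List.all_cons, List.all_nil, Bool.and_true, Bool.and_eq_true]
  exact ⟨chk_relU62Ap2_0, chk_relU62Ap2_1⟩

end Cfsg.Agent.Lib.Helper6.MultD
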