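import Mathlib
import Cfsg.Agent.Lib.Helper6.MultD.U62Ap3D
import Cfsg.Agent.Lib.Helper6.MultD.U62Ap3C
import Cfsg.Agent.Lib.Helper6.Mult.Chunk

set_option autoImplicit false
set_option maxRecDepth 100000
set_option maxHeartbeats 8000000

/-! Certificate U62Ap3: the main check. -/

namespace Cfsg.Agent.Lib.Helper6.MultD

open Cfsg.Agent.Lib.Helper1

open Cfsg.Agent.Lib.Helper6.Mult

theorem chk_structU62Ap3 : DU62Ap3.chkStruct = true := by decide +kernel

theorem chk_mainU62Ap3 : chkCertRMain DU62Ap3 CU62Ap3 = true := by decide +kernel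

end Cfsg.Agent.Lib.Helper6.MultD
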