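import Mathlib
import Cfsg.Agent.Lib.Helper6.MultD.U62Ap3H
import Cfsg.Agent.Lib.Helper6.MultD.U62Ap3K0_0
import Cfsg.Agent.Lib.Helper6.MultD.U62Ap3K0_1

set_option autoImplicit false
set_option maxRecDepth 100000
set_option maxHeartbeats 8000000

/-! Certificate U62Ap3: the checks of the combinations modulo 9 and the full certificate. -/

namespace Cfsg.Agent.Lib.Helper6.MultD

open Cfsg.Agent.Lib.Helper1

open Cfsg.Agent.Lib.Helper6.Mult StemZP

theorem chunksU62Ap3_0 : ∀ t ∈ trU62Ap3_0, chunkOK DU62Ap3 9 t.1 t.2.1 t.2.2 = true := by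
  intro t ht
  simp only [trU62Ap3_0, List.mem_cons, List.not_mem_nil, or_false] at ht
  rcases ht with rfl | rfl
  · exact chunkU62Ap3_0_0
  · exact chunkU62Ap3_0_1

theorem hTU62Ap3_0 : (trU62Ap3_0.map fun t => t.2.2).sum < StemZD.X := by decide +kernel

theorem hdigU62Ap3_0 : ((List.range DU62Ap3.n).all fun c =>
    (trU62Ap3_0.map fun t => t.2.1).sum / StemZD.X ^ c % StemZD.X % 9 == if c = 1339 then 3 else 0) = true := by
  decide +kernel

theorem chk_relU62Ap3_0 : chkRel DU62Ap3 CU62Ap3.toP (trU62Ap3_0.map fun t => t.1).flatten 1339 1 = true :=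
  chkRel_of_chunks DU62Ap3 CU62Ap3.toP trU62Ap3_0 1339 1 chunksU62Ap3_0 hTU62Ap3_0 hdigU62Ap3_0

theorem chk_certU62Ap3 : chkCertR DU62Ap3 CU62Ap3 = true := by
  apply chkCertR_of_main DU62Ap3 CU62Ap3 chk_mainU62Ap3
  show (List.range 1).all _ = true
  have e : List.range 1 = [0] := rfl
  rw [e]
  simp only [List.all_cons, List.all_nil, Bool.and_true, Bool.and_eq_true]
  exact chk_relU62Ap3_0

end Cfsg.Agent.Lib.Helper6.MultD
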