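import Cfsg.Agent.Lib.Helper6.Mult.PM3
import Cfsg.Agent.Lib.Helper6.Mult.U62A
import Cfsg.Agent.Lib.Helper6.MultD.U62Ap3D

set_option autoImplicit false
set_option maxRecDepth 100000

/-! The presented group `U62` on 672 sets, data U62Ap3: the checks of the generators. -/

namespace Cfsg.Agent.Lib.Helper6.MultD

open Cfsg.Agent.Lib.Helper6.PM Cfsg.Agent.Lib.Helper6.U62M Cfsg.Agent.Lib.Helper1

theorem chk_tabU62Ap3_0 : chkTab u62Model wsU62Ap3 pmU62Ap3 0 = true := by decide +kernel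

theorem chk_tabU62Ap3_1 : chkTab u62Model wsU62Ap3 pmU62Ap3 1 = true := by decide +kernel

theorem chk_relPU62Ap3_0 : chkRelP u62Model DU62Ap3 pmU62Ap3 0 = true := by decide +kernel

theorem chk_relPU62Ap3_1 : chkRelP u62Model DU62Ap3 pmU62Ap3 1 = true := by decide +kernel

theorem chk_relPU62Ap3_2 : chkRelP u62Model DU62Ap3 pmU62Ap3 2 = true := by decide +kernel

theorem chk_relPU62Ap3_3 : chkRelP u62Model DU62Ap3 pmU62Ap3 3 = true := by decide +kernel

theorem chk_relPU62Ap3_4 : chkRelP u62Model DU62Ap3 pmU62Ap3 4 = true := by decide +kernel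

theorem chk_relPU62Ap3_5 : chkRelP u62Model DU62Ap3 pmU62Ap3 5 = true := by decide +kernel

theorem chk_relPU62Ap3_6 : chkRelP u62Model DU62Ap3 pmU62Ap3 6 = true := by decide +kernel

theorem chk_relPU62Ap3_7 : chkRelP u62Model DU62Ap3 pmU62Ap3 7 = true := by decide +kernel

theorem chk_relPU62Ap3_8 : chkRelP u62Model DU62Ap3 pmU62Ap3 8 = true := by decide +kernel

theorem chk_relPU62Ap3_9 : chkRelP u62Model DU62Ap3 pmU62Ap3 9 = true := by decide +kernel

theorem chk_relPU62Ap3_10 : chkRelP u62Model DU62Ap3 pmU62Ap3 10 = true := by decide +kernel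

theorem chk_relPU62Ap3_11 : chkRelP u62Model DU62Ap3 pmU62Ap3 11 = true := by decide +kernel

theorem chk_relPU62Ap3_12 : chkRelP u62Model DU62Ap3 pmU62Ap3 12 = true := by decide +kernel

theorem chk_relPU62Ap3_13 : chkRelP u62Model DU62Ap3 pmU62Ap3 13 = true := by decide +kernel

theorem chk_relPU62Ap3_14 : chkRelP u62Model DU62Ap3 pmU62Ap3 14 = true := by decide +kernel

theorem chk_relPU62Ap3_15 : chkRelP u62Model DU62Ap3 pmU62Ap3 15 = true := by decide +kernel

theorem chk_relPU62Ap3_16 : chkRelP u62Model DU62Ap3 pmU62Ap3 16 = true := by decide +kernel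

theorem chk_ordPU62Ap3_0 : chkOrdP u62Model DU62Ap3 pmU62Ap3 0 = true := by decide +kernel

theorem chk_ordPU62Ap3_1 : chkOrdP u62Model DU62Ap3 pmU62Ap3 1 = true := by decide +kernel

theorem chk_lwPU62Ap3_0 : chkLwP u62Model wsU62Ap3 pmU62Ap3 lwU62Ap3 0 = true := by decide +kernel

theorem chk_lwPU62Ap3_1 : chkLwP u62Model wsU62Ap3 pmU62Ap3 lwU62Ap3 1 = true := by decide +kernel

theorem chk_lwPU62Ap3_2 : chkLwP u62Model wsU62Ap3 pmU62Ap3 lwU62Ap3 2 = true := by decide +kernel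

theorem chk_lwPU62Ap3_3 : chkLwP u62Model wsU62Ap3 pmU62Ap3 lwU62Ap3 3 = true := by decide +kernel

theorem chk_lwPU62Ap3_4 : chkLwP u62Model wsU62Ap3 pmU62Ap3 lwU62Ap3 4 = true := by decide +kernel

theorem chk_lwPU62Ap3_5 : chkLwP u62Model wsU62Ap3 pmU62Ap3 lwU62Ap3 5 = true := by decide +kernel

theorem chk_lwPU62Ap3_6 : chkLwP u62Model wsU62Ap3 pmU62Ap3 lwU62Ap3 6 = true := by decide +kernel

theorem chk_lwPU62Ap3_7 : chkLwP u62Model wsU62Ap3 pmU62Ap3 lwU62Ap3 7 = true := by decide +kernel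

theorem coreU62Ap3 : CoreFacts u62Model DU62Ap3 wsU62Ap3 pmU62Ap3 lwU62Ap3 := by
  apply coreFacts_of_chk
  · rfl
  · intro i hi
    have h' : i < 2 := hi
    interval_cases i
    · exact chk_tabU62Ap3_0
    · exact chk_tabU62Ap3_1
  · intro r hr
    have h' : r < 17 := hr
    interval_cases r
    · exact chk_relPU62Ap3_0
    · exact chk_relPU62Ap3_1
    · exact chk_relPU62Ap3_2
    · exact chk_relPU62Ap3_3
    · exact chk_relPU62Ap3_4
    · exact chk_relPU62Ap3_5
    · exact chk_relPU62Ap3_6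
    · exact chk_relPU62Ap3_7
    · exact chk_relPU62Ap3_8
    · exact chk_relPU62Ap3_9
    · exact chk_relPU62Ap3_10
    · exact chk_relPU62Ap3_11
    · exact chk_relPU62Ap3_12
    · exact chk_relPU62Ap3_13
    · exact chk_relPU62Ap3_14
    · exact chk_relPU62Ap3_15
    · exact chk_relPU62Ap3_16
  · intro i hi
    have h' : i < 2 := hi
    interval_cases i
    · exact chk_ordPU62Ap3_0
    · exact chk_ordPU62Ap3_1
  · intro c hc
    have h' : c < 8 := hc
    interval_cases c
    · exact chk_lwPU62Ap3_0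
    · exact chk_lwPU62Ap3_1
    · exact chk_lwPU62Ap3_2
    · exact chk_lwPU62Ap3_3
    · exact chk_lwPU62Ap3_4
    · exact chk_lwPU62Ap3_5
    · exact chk_lwPU62Ap3_6
    · exact chk_lwPU62Ap3_7

end Cfsg.Agent.Lib.Helper6.MultD
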