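import Mathlib
import Cfsg.Agent.Lib.Helper6.MultD.U62Bp2HP
import Cfsg.Agent.Lib.Helper6.MultD.U62Bp2HS0
import Cfsg.Agent.Lib.Helper6.MultD.U62Bp2HS1
import Cfsg.Agent.Lib.Helper6.MultD.U62Bp2HS2
import Cfsg.Agent.Lib.Helper6.MultD.U62Bp2HS3
import Cfsg.Agent.Lib.Helper6.MultD.U62Bp2HS4
import Cfsg.Agent.Lib.Helper6.MultD.U62Bp2HS5
import Cfsg.Agent.Lib.Helper6.MultD.U62Bp2HS6
import Cfsg.Agent.Lib.Helper6.MultD.U62Bp2HS7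
import Cfsg.Agent.Lib.Helper6.MultD.U62Bp2HS8
import Cfsg.Agent.Lib.Helper6.MultD.U62Bp2HW0
import Cfsg.Agent.Lib.Helper6.MultD.U62Bp2HW1
import Cfsg.Agent.Lib.Helper6.MultD.U62Bp2HW2
import Cfsg.Agent.Lib.Helper6.MultD.U62Bp2HW3
import Cfsg.Agent.Lib.Helper6.MultD.U62Bp2HW4
import Cfsg.Agent.Lib.Helper6.MultD.U62Bp2HR0
import Cfsg.Agent.Lib.Helper6.MultD.U62Bp2HR1
import Cfsg.Agent.Lib.Helper6.MultD.U62Bp2HR2
import Cfsg.Agent.Lib.Helper6.MultD.U62Bp2HR3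
import Cfsg.Agent.Lib.Helper6.MultD.U62Bp2HR4
import Cfsg.Agent.Lib.Helper6.MultD.U62Bp2HR5
import Cfsg.Agent.Lib.Helper6.MultD.U62Bp2HR6
import Cfsg.Agent.Lib.Helper6.MultD.U62Bp2HR7
import Cfsg.Agent.Lib.Helper6.MultD.U62Bp2HR8
import Cfsg.Agent.Lib.Helper6.MultD.U62Bp2HR9
import Cfsg.Agent.Lib.Helper6.MultD.U62Bp2HR10
import Cfsg.Agent.Lib.Helper6.MultD.U62Bp2HR11
import Cfsg.Agent.Lib.Helper6.MultD.U62Bp2HR12
import Cfsg.Agent.Lib.Helper6.MultD.U62Bp2HR13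
import Cfsg.Agent.Lib.Helper6.MultD.U62Bp2HR14
import Cfsg.Agent.Lib.Helper6.MultD.U62Bp2HR15
import Cfsg.Agent.Lib.Helper6.MultD.U62Bp2HR16
import Cfsg.Agent.Lib.Helper6.MultD.U62Bp2HR17
import Cfsg.Agent.Lib.Helper6.MultD.U62Bp2HR18
import Cfsg.Agent.Lib.Helper6.MultD.U62Bp2HR19
import Cfsg.Agent.Lib.Helper6.MultD.U62Bp2HR20
import Cfsg.Agent.Lib.Helper6.MultD.U62Bp2HR21
import Cfsg.Agent.Lib.Helper6.MultD.U62Bp2HR22
import Cfsg.Agent.Lib.Helper6.MultD.U62Bp2HR23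
import Cfsg.Agent.Lib.Helper6.MultD.U62Bp2HR24
import Cfsg.Agent.Lib.Helper6.MultD.U62Bp2HR25
import Cfsg.Agent.Lib.Helper6.MultD.U62Bp2HR26
import Cfsg.Agent.Lib.Helper6.MultD.U62Bp2HR27
import Cfsg.Agent.Lib.Helper6.MultD.U62Bp2HR28
import Cfsg.Agent.Lib.Helper6.MultD.U62Bp2HR29
import Cfsg.Agent.Lib.Helper6.MultD.U62Bp2HR30
import Cfsg.Agent.Lib.Helper6.MultD.U62Bp2HR31
import Cfsg.Agent.Lib.Helper6.MultD.U62Bp2HR32
import Cfsg.Agent.Lib.Helper6.MultD.U62Bp2HR33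
import Cfsg.Agent.Lib.Helper6.MultD.U62Bp2HR34
import Cfsg.Agent.Lib.Helper6.MultD.U62Bp2HR35
import Cfsg.Agent.Lib.Helper6.MultD.U62Bp2HR36
import Cfsg.Agent.Lib.Helper6.MultD.U62Bp2HR37
import Cfsg.Agent.Lib.Helper6.MultD.U62Bp2HR38
import Cfsg.Agent.Lib.Helper6.MultD.U62Bp2HR39
import Cfsg.Agent.Lib.Helper6.MultD.U62Bp2HR40
import Cfsg.Agent.Lib.Helper6.MultD.U62Bp2HR41
import Cfsg.Agent.Lib.Helper6.MultD.U62Bp2HR42
import Cfsg.Agent.Lib.Helper6.MultD.U62Bp2HR43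
import Cfsg.Agent.Lib.Helper6.MultD.U62Bp2HR44
import Cfsg.Agent.Lib.Helper6.MultD.U62Bp2HR45
import Cfsg.Agent.Lib.Helper6.MultD.U62Bp2HR46
import Cfsg.Agent.Lib.Helper6.MultD.U62Bp2HR47
import Cfsg.Agent.Lib.Helper6.MultD.U62Bp2HR48
import Cfsg.Agent.Lib.Helper6.MultD.U62Bp2HR49
import Cfsg.Agent.Lib.Helper6.MultD.U62Bp2HR50
import Cfsg.Agent.Lib.Helper6.MultD.U62Bp2HR51
import Cfsg.Agent.Lib.Helper6.MultD.U62Bp2HR52
import Cfsg.Agent.Lib.Helper6.MultD.U62Bp2HR53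
import Cfsg.Agent.Lib.Helper6.MultD.U62Bp2HR54
import Cfsg.Agent.Lib.Helper6.MultD.U62Bp2HR55
import Cfsg.Agent.Lib.Helper6.MultD.U62Bp2HR56
import Cfsg.Agent.Lib.Helper6.MultD.U62Bp2HR57
import Cfsg.Agent.Lib.Helper6.MultD.U62Bp2HR58
import Cfsg.Agent.Lib.Helper6.MultD.U62Bp2HR59
import Cfsg.Agent.Lib.Helper6.MultD.U62Bp2HR60
import Cfsg.Agent.Lib.Helper6.MultD.U62Bp2HR61
import Cfsg.Agent.Lib.Helper6.MultD.U62Bp2HR62
import Cfsg.Agent.Lib.Helper6.MultD.U62Bp2HR63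
import Cfsg.Agent.Lib.Helper6.MultD.U62Bp2HR64
import Cfsg.Agent.Lib.Helper6.MultD.U62Bp2HR65
import Cfsg.Agent.Lib.Helper6.MultD.U62Bp2HR66
import Cfsg.Agent.Lib.Helper6.MultD.U62Bp2HR67

set_option autoImplicit false
set_option maxRecDepth 100000
set_option maxHeartbeats 8000000

/-! Certificate U62Bp2: the main check. -/

namespace Cfsg.Agent.Lib.Helper6.MultD

open Cfsg.Agent.Lib.Helper1

open Cfsg.Agent.Lib.Helper6.Mult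

theorem chk_hSU62Bp2 : ∀ k < 9, chkSpecChunk DU62Bp2 CU62Bp2 (k * 2000) 2000 = true := by
  intro k hk
  interval_cases k
  · exact chk_hSU62Bp2_0
  · exact chk_hSU62Bp2_1
  · exact chk_hSU62Bp2_2
  · exact chk_hSU62Bp2_3
  · exact chk_hSU62Bp2_4
  · exact chk_hSU62Bp2_5
  · exact chk_hSU62Bp2_6
  · exact chk_hSU62Bp2_7
  · exact chk_hSU62Bp2_8

theorem chk_hWU62Bp2 : ∀ k < 5, chkRowsChunk CU62Bp2 (k * 4000) 4000 = true := by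
  intro k hk
  interval_cases k
  · exact chk_hWU62Bp2_0
  · exact chk_hWU62Bp2_1
  · exact chk_hWU62Bp2_2
  · exact chk_hWU62Bp2_3
  · exact chk_hWU62Bp2_4

theorem chk_hRU62Bp2 : ∀ k < 68, chkRowRChunk DU62Bp2 CU62Bp2 (k * 250) 250 = true := by
  intro k hk
  interval_cases k
  · exact chk_hRU62Bp2_0
  · exact chk_hRU62Bp2_1
  · exact chk_hRU62Bp2_2
  · exact chk_hRU62Bp2_3
  · exact chk_hRU62Bp2_4
  · exact chk_hRU62Bp2_5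
  · exact chk_hRU62Bp2_6
  · exact chk_hRU62Bp2_7
  · exact chk_hRU62Bp2_8
  · exact chk_hRU62Bp2_9
  · exact chk_hRU62Bp2_10
  · exact chk_hRU62Bp2_11
  · exact chk_hRU62Bp2_12
  · exact chk_hRU62Bp2_13
  · exact chk_hRU62Bp2_14
  · exact chk_hRU62Bp2_15
  · exact chk_hRU62Bp2_16
  · exact chk_hRU62Bp2_17
  · exact chk_hRU62Bp2_18
  · exact chk_hRU62Bp2_19
  · exact chk_hRU62Bp2_20
  · exact chk_hRU62Bp2_21
  · exact chk_hRU62Bp2_22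
  · exact chk_hRU62Bp2_23
  · exact chk_hRU62Bp2_24
  · exact chk_hRU62Bp2_25
  · exact chk_hRU62Bp2_26
  · exact chk_hRU62Bp2_27
  · exact chk_hRU62Bp2_28
  · exact chk_hRU62Bp2_29
  · exact chk_hRU62Bp2_30
  · exact chk_hRU62Bp2_31
  · exact chk_hRU62Bp2_32
  · exact chk_hRU62Bp2_33
  · exact chk_hRU62Bp2_34
  · exact chk_hRU62Bp2_35
  · exact chk_hRU62Bp2_36
  · exact chk_hRU62Bp2_37
  · exact chk_hRU62Bp2_38
  · exact chk_hRU62Bp2_39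
  · exact chk_hRU62Bp2_40
  · exact chk_hRU62Bp2_41
  · exact chk_hRU62Bp2_42
  · exact chk_hRU62Bp2_43
  · exact chk_hRU62Bp2_44
  · exact chk_hRU62Bp2_45
  · exact chk_hRU62Bp2_46
  · exact chk_hRU62Bp2_47
  · exact chk_hRU62Bp2_48
  · exact chk_hRU62Bp2_49
  · exact chk_hRU62Bp2_50
  · exact chk_hRU62Bp2_51
  · exact chk_hRU62Bp2_52
  · exact chk_hRU62Bp2_53
  · exact chk_hRU62Bp2_54
  · exact chk_hRU62Bp2_55
  · exact chk_hRU62Bp2_56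
  · exact chk_hRU62Bp2_57
  · exact chk_hRU62Bp2_58
  · exact chk_hRU62Bp2_59
  · exact chk_hRU62Bp2_60
  · exact chk_hRU62Bp2_61
  · exact chk_hRU62Bp2_62
  · exact chk_hRU62Bp2_63
  · exact chk_hRU62Bp2_64
  · exact chk_hRU62Bp2_65
  · exact chk_hRU62Bp2_66
  · exact chk_hRU62Bp2_67

theorem chk_mainU62Bp2 : chkCertRMain DU62Bp2 CU62Bp2 = true :=
  chkCertRMain_of_chunks DU62Bp2 CU62Bp2 9 2000 5 4000 68 250 (by decide) (by decide) (by decide)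
    chk_preU62Bp2 chk_hSU62Bp2 chk_hWU62Bp2 chk_hRU62Bp2

end Cfsg.Agent.Lib.Helper6.MultD
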