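import Mathlib
import Cfsg.Agent.Lib.Helper6.MultD.U62Bp2H
import Cfsg.Agent.Lib.Helper6.MultD.U62Bp2K0_0
import Cfsg.Agent.Lib.Helper6.MultD.U62Bp2K0_1
import Cfsg.Agent.Lib.Helper6.MultD.U62Bp2K0_2
import Cfsg.Agent.Lib.Helper6.MultD.U62Bp2K0_3
import Cfsg.Agent.Lib.Helper6.MultD.U62Bp2K0_4
import Cfsg.Agent.Lib.Helper6.MultD.U62Bp2K0_5
import Cfsg.Agent.Lib.Helper6.MultD.U62Bp2K0_6
import Cfsg.Agent.Lib.Helper6.MultD.U62Bp2K0_7
import Cfsg.Agent.Lib.Helper6.MultD.U62Bp2K0_8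
import Cfsg.Agent.Lib.Helper6.MultD.U62Bp2K0_9
import Cfsg.Agent.Lib.Helper6.MultD.U62Bp2K0_10
import Cfsg.Agent.Lib.Helper6.MultD.U62Bp2K0_11
import Cfsg.Agent.Lib.Helper6.MultD.U62Bp2K0_12
import Cfsg.Agent.Lib.Helper6.MultD.U62Bp2K0_13
import Cfsg.Agent.Lib.Helper6.MultD.U62Bp2K0_14
import Cfsg.Agent.Lib.Helper6.MultD.U62Bp2K0_15
import Cfsg.Agent.Lib.Helper6.MultD.U62Bp2K0_16
import Cfsg.Agent.Lib.Helper6.MultD.U62Bp2K0_17
import Cfsg.Agent.Lib.Helper6.MultD.U62Bp2K0_18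
import Cfsg.Agent.Lib.Helper6.MultD.U62Bp2K0_19
import Cfsg.Agent.Lib.Helper6.MultD.U62Bp2K0_20
import Cfsg.Agent.Lib.Helper6.MultD.U62Bp2K0_21
import Cfsg.Agent.Lib.Helper6.MultD.U62Bp2K0_22
import Cfsg.Agent.Lib.Helper6.MultD.U62Bp2K0_23

set_option autoImplicit false
set_option maxRecDepth 100000
set_option maxHeartbeats 8000000

/-! Certificate U62Bp2: the checks of the combinations modulo 4 and the full certificate. -/

namespace Cfsg.Agent.Lib.Helper6.MultD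

open Cfsg.Agent.Lib.Helper1

open Cfsg.Agent.Lib.Helper6.Mult StemZP

theorem chunksU62Bp2_0 : ∀ t ∈ trU62Bp2_0, chunkOK DU62Bp2 4 t.1 t.2.1 t.2.2 = true := by
  intro t ht
  simp only [trU62Bp2_0, List.mem_cons, List.not_mem_nil, or_false] at ht
  rcases ht with rfl | rfl | rfl | rfl | rfl | rfl | rfl | rfl | rfl | rfl | rfl | rfl | rfl | rfl | rfl | rfl | rfl | rfl | rfl | rfl | rfl | rfl | rfl | rfl
  · exact chunkU62Bp2_0_0
  · exact chunkU62Bp2_0_1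
  · exact chunkU62Bp2_0_2
  · exact chunkU62Bp2_0_3
  · exact chunkU62Bp2_0_4
  · exact chunkU62Bp2_0_5
  · exact chunkU62Bp2_0_6
  · exact chunkU62Bp2_0_7
  · exact chunkU62Bp2_0_8
  · exact chunkU62Bp2_0_9
  · exact chunkU62Bp2_0_10
  · exact chunkU62Bp2_0_11
  · exact chunkU62Bp2_0_12
  · exact chunkU62Bp2_0_13
  · exact chunkU62Bp2_0_14
  · exact chunkU62Bp2_0_15
  · exact chunkU62Bp2_0_16
  · exact chunkU62Bp2_0_17
  · exact chunkU62Bp2_0_18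
  · exact chunkU62Bp2_0_19
  · exact chunkU62Bp2_0_20
  · exact chunkU62Bp2_0_21
  · exact chunkU62Bp2_0_22
  · exact chunkU62Bp2_0_23

theorem hTU62Bp2_0 : (trU62Bp2_0.map fun t => t.2.2).sum < StemZD.X := by decide +kernel

theorem hdigU62Bp2_0 : ((List.range DU62Bp2.n).all fun c =>
    (trU62Bp2_0.map fun t => t.2.1).sum / StemZD.X ^ c % StemZD.X % 4 == if c = 33790 then 2 else 0) = true := by
  decide +kernel

theorem chk_relU62Bp2_0 : chkRel DU62Bp2 CU62Bp2.toP (trU62Bp2_0.map fun t => t.1).flatten 33790 1 = true :=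
  chkRel_of_chunks DU62Bp2 CU62Bp2.toP trU62Bp2_0 33790 1 chunksU62Bp2_0 hTU62Bp2_0 hdigU62Bp2_0

theorem chk_certU62Bp2 : chkCertR DU62Bp2 CU62Bp2 = true := by
  apply chkCertR_of_main DU62Bp2 CU62Bp2 chk_mainU62Bp2
  show (List.range 1).all _ = true
  have e : List.range 1 = [0] := rfl
  rw [e]
  simp only [List.all_cons, List.all_nil, Bool.and_true, Bool.and_eq_true]
  exact chk_relU62Bp2_0

end Cfsg.Agent.Lib.Helper6.MultD
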