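import Mathlib
import Cfsg.Agent.Lib.Helper6.MultD.FI22Ap2HP
import Cfsg.Agent.Lib.Helper6.MultD.FI22Ap2HS0
import Cfsg.Agent.Lib.Helper6.MultD.FI22Ap2HS1
import Cfsg.Agent.Lib.Helper6.MultD.FI22Ap2HS2
import Cfsg.Agent.Lib.Helper6.MultD.FI22Ap2HW0
import Cfsg.Agent.Lib.Helper6.MultD.FI22Ap2HW1
import Cfsg.Agent.Lib.Helper6.MultD.FI22Ap2HW2
import Cfsg.Agent.Lib.Helper6.MultD.FI22Ap2HR0
import Cfsg.Agent.Lib.Helper6.MultD.FI22Ap2HR1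
import Cfsg.Agent.Lib.Helper6.MultD.FI22Ap2HR2
import Cfsg.Agent.Lib.Helper6.MultD.FI22Ap2HR3
import Cfsg.Agent.Lib.Helper6.MultD.FI22Ap2HR4
import Cfsg.Agent.Lib.Helper6.MultD.FI22Ap2HR5
import Cfsg.Agent.Lib.Helper6.MultD.FI22Ap2HR6
import Cfsg.Agent.Lib.Helper6.MultD.FI22Ap2HR7
import Cfsg.Agent.Lib.Helper6.MultD.FI22Ap2HR8

set_option autoImplicit false
set_option maxRecDepth 100000
set_option maxHeartbeats 8000000

/-! Certificate FI22Ap2: the main check. -/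

namespace Cfsg.Agent.Lib.Helper6.MultD

open Cfsg.Agent.Lib.Helper1

open Cfsg.Agent.Lib.Helper6.Mult

theorem chk_hSFI22Ap2 : ∀ k < 3, chkSpecChunk DFI22Ap2 CFI22Ap2 (k * 1200) 1200 = true := by
  intro k hk
  interval_cases k
  · exact chk_hSFI22Ap2_0
  · exact chk_hSFI22Ap2_1
  · exact chk_hSFI22Ap2_2

theorem chk_hWFI22Ap2 : ∀ k < 3, chkRowsChunk CFI22Ap2 (k * 1200) 1200 = true := by
  intro k hk
  interval_cases k
  · exact chk_hWFI22Ap2_0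
  · exact chk_hWFI22Ap2_1
  · exact chk_hWFI22Ap2_2

theorem chk_hRFI22Ap2 : ∀ k < 9, chkRowRChunk DFI22Ap2 CFI22Ap2 (k * 400) 400 = true := by
  intro k hk
  interval_cases k
  · exact chk_hRFI22Ap2_0
  · exact chk_hRFI22Ap2_1
  · exact chk_hRFI22Ap2_2
  · exact chk_hRFI22Ap2_3
  · exact chk_hRFI22Ap2_4
  · exact chk_hRFI22Ap2_5
  · exact chk_hRFI22Ap2_6
  · exact chk_hRFI22Ap2_7
  · exact chk_hRFI22Ap2_8

theorem chk_mainFI22Ap2 : chkCertRMain DFI22Ap2 CFI22Ap2 = true :=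
  chkCertRMain_of_chunks DFI22Ap2 CFI22Ap2 3 1200 3 1200 9 400 (by decide) (by decide) (by decide)
    chk_preFI22Ap2 chk_hSFI22Ap2 chk_hWFI22Ap2 chk_hRFI22Ap2

end Cfsg.Agent.Lib.Helper6.MultD
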