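import Mathlib
import Cfsg.Agent.Lib.Helper6.MultD.FI22Ap2H

set_option autoImplicit false
set_option maxRecDepth 100000
set_option maxHeartbeats 8000000

/-! Certificate FI22Ap2: the checks of the combinations modulo 4 and the full certificate. -/

namespace Cfsg.Agent.Lib.Helper6.MultD

open Cfsg.Agent.Lib.Helper1

open Cfsg.Agent.Lib.Helper6.Mult StemZP

theorem chk_certFI22Ap2 : chkCertR DFI22Ap2 CFI22Ap2 = true := by
  apply chkCertR_of_main DFI22Ap2 CFI22Ap2 chk_mainFI22Ap2
  show (List.range 0).all _ = true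
  rfl

end Cfsg.Agent.Lib.Helper6.MultD
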