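import Cfsg.Agent.Lib.Helper6.Mult.PM3
import Cfsg.Agent.Lib.Helper6.Mult.Fi22A
import Cfsg.Agent.Lib.Helper6.MultD.FI22Ap2D

set_option autoImplicit false
set_option maxRecDepth 100000

/-! The presented group `Fi22` on 3510 points, data FI22Ap2: the checks of the generators. -/

namespace Cfsg.Agent.Lib.Helper6.MultD

open Cfsg.Agent.Lib.Helper6.PM Cfsg.Agent.Lib.Helper6.Fi22M Cfsg.Agent.Lib.Helper1

theorem chk_tabFI22Ap2_0 : chkTab fi22Model wsFI22Ap2 pmFI22Ap2 0 = true := by decide +kernel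

theorem chk_tabFI22Ap2_1 : chkTab fi22Model wsFI22Ap2 pmFI22Ap2 1 = true := by decide +kernel

theorem chk_relPFI22Ap2_0 : chkRelP fi22Model DFI22Ap2 pmFI22Ap2 0 = true := by decide +kernel

theorem chk_relPFI22Ap2_1 : chkRelP fi22Model DFI22Ap2 pmFI22Ap2 1 = true := by decide +kernel

theorem chk_relPFI22Ap2_2 : chkRelP fi22Model DFI22Ap2 pmFI22Ap2 2 = true := by decide +kernel

theorem chk_relPFI22Ap2_3 : chkRelP fi22Model DFI22Ap2 pmFI22Ap2 3 = true := by decide +kernel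

theorem chk_relPFI22Ap2_4 : chkRelP fi22Model DFI22Ap2 pmFI22Ap2 4 = true := by decide +kernel

theorem chk_relPFI22Ap2_5 : chkRelP fi22Model DFI22Ap2 pmFI22Ap2 5 = true := by decide +kernel

theorem chk_relPFI22Ap2_6 : chkRelP fi22Model DFI22Ap2 pmFI22Ap2 6 = true := by decide +kernel

theorem chk_relPFI22Ap2_7 : chkRelP fi22Model DFI22Ap2 pmFI22Ap2 7 = true := by decide +kernel

theorem chk_relPFI22Ap2_8 : chkRelP fi22Model DFI22Ap2 pmFI22Ap2 8 = true := by decide +kernel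

theorem chk_relPFI22Ap2_9 : chkRelP fi22Model DFI22Ap2 pmFI22Ap2 9 = true := by decide +kernel

theorem chk_relPFI22Ap2_10 : chkRelP fi22Model DFI22Ap2 pmFI22Ap2 10 = true := by decide +kernel

theorem chk_relPFI22Ap2_11 : chkRelP fi22Model DFI22Ap2 pmFI22Ap2 11 = true := by decide +kernel

theorem chk_relPFI22Ap2_12 : chkRelP fi22Model DFI22Ap2 pmFI22Ap2 12 = true := by decide +kernel

theorem chk_relPFI22Ap2_13 : chkRelP fi22Model DFI22Ap2 pmFI22Ap2 13 = true := by decide +kernel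

theorem chk_relPFI22Ap2_14 : chkRelP fi22Model DFI22Ap2 pmFI22Ap2 14 = true := by decide +kernel

theorem chk_relPFI22Ap2_15 : chkRelP fi22Model DFI22Ap2 pmFI22Ap2 15 = true := by decide +kernel

theorem chk_relPFI22Ap2_16 : chkRelP fi22Model DFI22Ap2 pmFI22Ap2 16 = true := by decide +kernel

theorem chk_relPFI22Ap2_17 : chkRelP fi22Model DFI22Ap2 pmFI22Ap2 17 = true := by decide +kernel

theorem chk_relPFI22Ap2_18 : chkRelP fi22Model DFI22Ap2 pmFI22Ap2 18 = true := by decide +kernel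

theorem chk_relPFI22Ap2_19 : chkRelP fi22Model DFI22Ap2 pmFI22Ap2 19 = true := by decide +kernel

theorem chk_relPFI22Ap2_20 : chkRelP fi22Model DFI22Ap2 pmFI22Ap2 20 = true := by decide +kernel

theorem chk_relPFI22Ap2_21 : chkRelP fi22Model DFI22Ap2 pmFI22Ap2 21 = true := by decide +kernel

theorem chk_relPFI22Ap2_22 : chkRelP fi22Model DFI22Ap2 pmFI22Ap2 22 = true := by decide +kernel

theorem chk_relPFI22Ap2_23 : chkRelP fi22Model DFI22Ap2 pmFI22Ap2 23 = true := by decide +kernel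

theorem chk_ordPFI22Ap2_0 : chkOrdP fi22Model DFI22Ap2 pmFI22Ap2 0 = true := by decide +kernel

theorem chk_ordPFI22Ap2_1 : chkOrdP fi22Model DFI22Ap2 pmFI22Ap2 1 = true := by decide +kernel

theorem chk_lwPFI22Ap2_0 : chkLwP fi22Model wsFI22Ap2 pmFI22Ap2 lwFI22Ap2 0 = true := by decide +kernel

theorem chk_lwPFI22Ap2_1 : chkLwP fi22Model wsFI22Ap2 pmFI22Ap2 lwFI22Ap2 1 = true := by decide +kernel

theorem chk_lwPFI22Ap2_2 : chkLwP fi22Model wsFI22Ap2 pmFI22Ap2 lwFI22Ap2 2 = true := by decide +kernel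

theorem chk_lwPFI22Ap2_3 : chkLwP fi22Model wsFI22Ap2 pmFI22Ap2 lwFI22Ap2 3 = true := by decide +kernel

theorem chk_lwPFI22Ap2_4 : chkLwP fi22Model wsFI22Ap2 pmFI22Ap2 lwFI22Ap2 4 = true := by decide +kernel

theorem chk_lwPFI22Ap2_5 : chkLwP fi22Model wsFI22Ap2 pmFI22Ap2 lwFI22Ap2 5 = true := by decide +kernel

theorem chk_lwPFI22Ap2_6 : chkLwP fi22Model wsFI22Ap2 pmFI22Ap2 lwFI22Ap2 6 = true := by decide +kernel

theorem chk_lwPFI22Ap2_7 : chkLwP fi22Model wsFI22Ap2 pmFI22Ap2 lwFI22Ap2 7 = true := by decide +kernel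

theorem chk_lwPFI22Ap2_8 : chkLwP fi22Model wsFI22Ap2 pmFI22Ap2 lwFI22Ap2 8 = true := by decide +kernel

theorem coreFI22Ap2 : CoreFacts fi22Model DFI22Ap2 wsFI22Ap2 pmFI22Ap2 lwFI22Ap2 := by
  apply coreFacts_of_chk
  · rfl
  · intro i hi
    have h' : i < 2 := hi
    interval_cases i
    · exact chk_tabFI22Ap2_0
    · exact chk_tabFI22Ap2_1
  · intro r hr
    have h' : r < 24 := hr
    interval_cases r
    · exact chk_relPFI22Ap2_0
    · exact chk_relPFI22Ap2_1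
    · exact chk_relPFI22Ap2_2
    · exact chk_relPFI22Ap2_3
    · exact chk_relPFI22Ap2_4
    · exact chk_relPFI22Ap2_5
    · exact chk_relPFI22Ap2_6
    · exact chk_relPFI22Ap2_7
    · exact chk_relPFI22Ap2_8
    · exact chk_relPFI22Ap2_9
    · exact chk_relPFI22Ap2_10
    · exact chk_relPFI22Ap2_11
    · exact chk_relPFI22Ap2_12
    · exact chk_relPFI22Ap2_13
    · exact chk_relPFI22Ap2_14
    · exact chk_relPFI22Ap2_15
    · exact chk_relPFI22Ap2_16
    · exact chk_relPFI22Ap2_17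
    · exact chk_relPFI22Ap2_18
    · exact chk_relPFI22Ap2_19
    · exact chk_relPFI22Ap2_20
    · exact chk_relPFI22Ap2_21
    · exact chk_relPFI22Ap2_22
    · exact chk_relPFI22Ap2_23
  · intro i hi
    have h' : i < 2 := hi
    interval_cases i
    · exact chk_ordPFI22Ap2_0
    · exact chk_ordPFI22Ap2_1
  · intro c hc
    have h' : c < 9 := hc
    interval_cases c
    · exact chk_lwPFI22Ap2_0
    · exact chk_lwPFI22Ap2_1
    · exact chk_lwPFI22Ap2_2
    · exact chk_lwPFI22Ap2_3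
    · exact chk_lwPFI22Ap2_4
    · exact chk_lwPFI22Ap2_5
    · exact chk_lwPFI22Ap2_6
    · exact chk_lwPFI22Ap2_7
    · exact chk_lwPFI22Ap2_8

theorem chk_ptsFI22Ap2 : chkPts fi22Model DFI22Ap2 wsFI22Ap2 pmFI22Ap2 PLFI22Ap2 PLIFI22Ap2 = true := by decide +kernel

end Cfsg.Agent.Lib.Helper6.MultD
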