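import Mathlib
import Cfsg.Agent.Lib.Helper6.MultD.FI22Ap5HP
import Cfsg.Agent.Lib.Helper6.MultD.FI22Ap5HS0
import Cfsg.Agent.Lib.Helper6.MultD.FI22Ap5HS1
import Cfsg.Agent.Lib.Helper6.MultD.FI22Ap5HS2
import Cfsg.Agent.Lib.Helper6.MultD.FI22Ap5HW0
import Cfsg.Agent.Lib.Helper6.MultD.FI22Ap5HW1
import Cfsg.Agent.Lib.Helper6.MultD.FI22Ap5HW2
import Cfsg.Agent.Lib.Helper6.MultD.FI22Ap5HR0
import Cfsg.Agent.Lib.Helper6.MultD.FI22Ap5HR1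
import Cfsg.Agent.Lib.Helper6.MultD.FI22Ap5HR2
import Cfsg.Agent.Lib.Helper6.MultD.FI22Ap5HR3
import Cfsg.Agent.Lib.Helper6.MultD.FI22Ap5HR4
import Cfsg.Agent.Lib.Helper6.MultD.FI22Ap5HR5
import Cfsg.Agent.Lib.Helper6.MultD.FI22Ap5HR6
import Cfsg.Agent.Lib.Helper6.MultD.FI22Ap5HR7
import Cfsg.Agent.Lib.Helper6.MultD.FI22Ap5HR8

set_option autoImplicit false
set_option maxRecDepth 100000
set_option maxHeartbeats 8000000

/-! Certificate FI22Ap5: the main check. -/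

namespace Cfsg.Agent.Lib.Helper6.MultD

open Cfsg.Agent.Lib.Helper1

open Cfsg.Agent.Lib.Helper6.Mult

theorem chk_hSFI22Ap5 : ∀ k < 3, chkSpecChunk DFI22Ap5 CFI22Ap5 (k * 1200) 1200 = true := by
  intro k hk
  interval_cases k
  · exact chk_hSFI22Ap5_0
  · exact chk_hSFI22Ap5_1
  · exact chk_hSFI22Ap5_2

theorem chk_hWFI22Ap5 : ∀ k < 3, chkRowsChunk CFI22Ap5 (k * 1200) 1200 = true := by
  intro k hk
  interval_cases k
  · exact chk_hWFI22Ap5_0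
  · exact chk_hWFI22Ap5_1
  · exact chk_hWFI22Ap5_2

theorem chk_hRFI22Ap5 : ∀ k < 9, chkRowRChunk DFI22Ap5 CFI22Ap5 (k * 400) 400 = true := by
  intro k hk
  interval_cases k
  · exact chk_hRFI22Ap5_0
  · exact chk_hRFI22Ap5_1
  · exact chk_hRFI22Ap5_2
  · exact chk_hRFI22Ap5_3
  · exact chk_hRFI22Ap5_4
  · exact chk_hRFI22Ap5_5
  · exact chk_hRFI22Ap5_6
  · exact chk_hRFI22Ap5_7
  · exact chk_hRFI22Ap5_8

theorem chk_mainFI22Ap5 : chkCertRMain DFI22Ap5 CFI22Ap5 = true :=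
  chkCertRMain_of_chunks DFI22Ap5 CFI22Ap5 3 1200 3 1200 9 400 (by decide) (by decide) (by decide)
    chk_preFI22Ap5 chk_hSFI22Ap5 chk_hWFI22Ap5 chk_hRFI22Ap5

end Cfsg.Agent.Lib.Helper6.MultD
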