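import Cfsg.Agent.Lib.Helper6.Mult.PM3
import Cfsg.Agent.Lib.Helper6.Mult.Fi22A
import Cfsg.Agent.Lib.Helper6.MultD.FI22Ap5D

set_option autoImplicit false
set_option maxRecDepth 100000

/-! The presented group `Fi22` on 3510 points, data FI22Ap5: the checks of the generators. -/

namespace Cfsg.Agent.Lib.Helper6.MultD

open Cfsg.Agent.Lib.Helper6.PM Cfsg.Agent.Lib.Helper6.Fi22M Cfsg.Agent.Lib.Helper1

theorem chk_tabFI22Ap5_0 : chkTab fi22Model wsFI22Ap5 pmFI22Ap5 0 = true := by decide +kernel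

theorem chk_tabFI22Ap5_1 : chkTab fi22Model wsFI22Ap5 pmFI22Ap5 1 = true := by decide +kernel

theorem chk_relPFI22Ap5_0 : chkRelP fi22Model DFI22Ap5 pmFI22Ap5 0 = true := by decide +kernel

theorem chk_relPFI22Ap5_1 : chkRelP fi22Model DFI22Ap5 pmFI22Ap5 1 = true := by decide +kernel

theorem chk_relPFI22Ap5_2 : chkRelP fi22Model DFI22Ap5 pmFI22Ap5 2 = true := by decide +kernel

theorem chk_relPFI22Ap5_3 : chkRelP fi22Model DFI22Ap5 pmFI22Ap5 3 = true := by decide +kernel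

theorem chk_relPFI22Ap5_4 : chkRelP fi22Model DFI22Ap5 pmFI22Ap5 4 = true := by decide +kernel

theorem chk_relPFI22Ap5_5 : chkRelP fi22Model DFI22Ap5 pmFI22Ap5 5 = true := by decide +kernel

theorem chk_relPFI22Ap5_6 : chkRelP fi22Model DFI22Ap5 pmFI22Ap5 6 = true := by decide +kernel

theorem chk_relPFI22Ap5_7 : chkRelP fi22Model DFI22Ap5 pmFI22Ap5 7 = true := by decide +kernel

theorem chk_relPFI22Ap5_8 : chkRelP fi22Model DFI22Ap5 pmFI22Ap5 8 = true := by decide +kernel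

theorem chk_relPFI22Ap5_9 : chkRelP fi22Model DFI22Ap5 pmFI22Ap5 9 = true := by decide +kernel

theorem chk_relPFI22Ap5_10 : chkRelP fi22Model DFI22Ap5 pmFI22Ap5 10 = true := by decide +kernel

theorem chk_relPFI22Ap5_11 : chkRelP fi22Model DFI22Ap5 pmFI22Ap5 11 = true := by decide +kernel

theorem chk_relPFI22Ap5_12 : chkRelP fi22Model DFI22Ap5 pmFI22Ap5 12 = true := by decide +kernel

theorem chk_relPFI22Ap5_13 : chkRelP fi22Model DFI22Ap5 pmFI22Ap5 13 = true := by decide +kernel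

theorem chk_relPFI22Ap5_14 : chkRelP fi22Model DFI22Ap5 pmFI22Ap5 14 = true := by decide +kernel

theorem chk_relPFI22Ap5_15 : chkRelP fi22Model DFI22Ap5 pmFI22Ap5 15 = true := by decide +kernel

theorem chk_relPFI22Ap5_16 : chkRelP fi22Model DFI22Ap5 pmFI22Ap5 16 = true := by decide +kernel

theorem chk_relPFI22Ap5_17 : chkRelP fi22Model DFI22Ap5 pmFI22Ap5 17 = true := by decide +kernel

theorem chk_relPFI22Ap5_18 : chkRelP fi22Model DFI22Ap5 pmFI22Ap5 18 = true := by decide +kernel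

theorem chk_relPFI22Ap5_19 : chkRelP fi22Model DFI22Ap5 pmFI22Ap5 19 = true := by decide +kernel

theorem chk_relPFI22Ap5_20 : chkRelP fi22Model DFI22Ap5 pmFI22Ap5 20 = true := by decide +kernel

theorem chk_relPFI22Ap5_21 : chkRelP fi22Model DFI22Ap5 pmFI22Ap5 21 = true := by decide +kernel

theorem chk_relPFI22Ap5_22 : chkRelP fi22Model DFI22Ap5 pmFI22Ap5 22 = true := by decide +kernel

theorem chk_relPFI22Ap5_23 : chkRelP fi22Model DFI22Ap5 pmFI22Ap5 23 = true := by decide +kernel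

theorem chk_ordPFI22Ap5_0 : chkOrdP fi22Model DFI22Ap5 pmFI22Ap5 0 = true := by decide +kernel

theorem chk_ordPFI22Ap5_1 : chkOrdP fi22Model DFI22Ap5 pmFI22Ap5 1 = true := by decide +kernel

theorem chk_lwPFI22Ap5_0 : chkLwP fi22Model wsFI22Ap5 pmFI22Ap5 lwFI22Ap5 0 = true := by decide +kernel

theorem chk_lwPFI22Ap5_1 : chkLwP fi22Model wsFI22Ap5 pmFI22Ap5 lwFI22Ap5 1 = true := by decide +kernel

theorem chk_lwPFI22Ap5_2 : chkLwP fi22Model wsFI22Ap5 pmFI22Ap5 lwFI22Ap5 2 = true := by decide +kernel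

theorem chk_lwPFI22Ap5_3 : chkLwP fi22Model wsFI22Ap5 pmFI22Ap5 lwFI22Ap5 3 = true := by decide +kernel

theorem chk_lwPFI22Ap5_4 : chkLwP fi22Model wsFI22Ap5 pmFI22Ap5 lwFI22Ap5 4 = true := by decide +kernel

theorem chk_lwPFI22Ap5_5 : chkLwP fi22Model wsFI22Ap5 pmFI22Ap5 lwFI22Ap5 5 = true := by decide +kernel

theorem chk_lwPFI22Ap5_6 : chkLwP fi22Model wsFI22Ap5 pmFI22Ap5 lwFI22Ap5 6 = true := by decide +kernel

theorem chk_lwPFI22Ap5_7 : chkLwP fi22Model wsFI22Ap5 pmFI22Ap5 lwFI22Ap5 7 = true := by decide +kernel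

theorem chk_lwPFI22Ap5_8 : chkLwP fi22Model wsFI22Ap5 pmFI22Ap5 lwFI22Ap5 8 = true := by decide +kernel

theorem coreFI22Ap5 : CoreFacts fi22Model DFI22Ap5 wsFI22Ap5 pmFI22Ap5 lwFI22Ap5 := by
  apply coreFacts_of_chk
  · rfl
  · intro i hi
    have h' : i < 2 := hi
    interval_cases i
    · exact chk_tabFI22Ap5_0
    · exact chk_tabFI22Ap5_1
  · intro r hr
    have h' : r < 24 := hr
    interval_cases r
    · exact chk_relPFI22Ap5_0
    · exact chk_relPFI22Ap5_1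
    · exact chk_relPFI22Ap5_2
    · exact chk_relPFI22Ap5_3
    · exact chk_relPFI22Ap5_4
    · exact chk_relPFI22Ap5_5
    · exact chk_relPFI22Ap5_6
    · exact chk_relPFI22Ap5_7
    · exact chk_relPFI22Ap5_8
    · exact chk_relPFI22Ap5_9
    · exact chk_relPFI22Ap5_10
    · exact chk_relPFI22Ap5_11
    · exact chk_relPFI22Ap5_12
    · exact chk_relPFI22Ap5_13
    · exact chk_relPFI22Ap5_14
    · exact chk_relPFI22Ap5_15
    · exact chk_relPFI22Ap5_16
    · exact chk_relPFI22Ap5_17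
    · exact chk_relPFI22Ap5_18
    · exact chk_relPFI22Ap5_19
    · exact chk_relPFI22Ap5_20
    · exact chk_relPFI22Ap5_21
    · exact chk_relPFI22Ap5_22
    · exact chk_relPFI22Ap5_23
  · intro i hi
    have h' : i < 2 := hi
    interval_cases i
    · exact chk_ordPFI22Ap5_0
    · exact chk_ordPFI22Ap5_1
  · intro c hc
    have h' : c < 9 := hc
    interval_cases c
    · exact chk_lwPFI22Ap5_0
    · exact chk_lwPFI22Ap5_1
    · exact chk_lwPFI22Ap5_2
    · exact chk_lwPFI22Ap5_3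
    · exact chk_lwPFI22Ap5_4
    · exact chk_lwPFI22Ap5_5
    · exact chk_lwPFI22Ap5_6
    · exact chk_lwPFI22Ap5_7
    · exact chk_lwPFI22Ap5_8

theorem chk_ptsFI22Ap5 : chkPts fi22Model DFI22Ap5 wsFI22Ap5 pmFI22Ap5 PLFI22Ap5 PLIFI22Ap5 = true := by decide +kernel

end Cfsg.Agent.Lib.Helper6.MultD
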