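import Mathlib
import Cfsg.Agent.Lib.Helper6.MultD.O73Ap2H
import Cfsg.Agent.Lib.Helper6.MultD.O73Ap2K0
import Cfsg.Agent.Lib.Helper6.MultD.O73Ap2K1

set_option autoImplicit false
set_option maxRecDepth 100000
set_option maxHeartbeats 8000000

/-! Certificate O73Ap2: the check of the combination modulo 4 and the full certificate. -/

namespace Cfsg.Agent.Lib.Helper6.MultD

open Cfsg.Agent.Lib.Helper1

open Cfsg.Agent.Lib.Helper6.Mult StemZP

theorem chunksO73Ap2 : ∀ t ∈ trO73Ap2, chunkOK DO73Ap2 4 t.1 t.2.1 t.2.2 = true := by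
  intro t ht
  simp only [trO73Ap2, List.mem_cons, List.not_mem_nil, or_false] at ht
  rcases ht with rfl | rfl
  · exact chunkO73Ap2_0
  · exact chunkO73Ap2_1

theorem hTO73Ap2 : (trO73Ap2.map fun t => t.2.2).sum < StemZD.X := by decide +kernel

theorem hdigO73Ap2 : ((List.range DO73Ap2.n).all fun c =>
    (trO73Ap2.map fun t => t.2.1).sum / StemZD.X ^ c % StemZD.X % 4 == if c = 3023 then 2 else 0) = true := by
  decide +kernel

theorem chk_relO73Ap2 : chkRel DO73Ap2 CO73Ap2.toP (trO73Ap2.map fun t => t.1).flatten 3023 1 = true :=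
  chkRel_of_chunks DO73Ap2 CO73Ap2.toP trO73Ap2 3023 1 chunksO73Ap2 hTO73Ap2 hdigO73Ap2

theorem chk_certO73Ap2 : chkCertR DO73Ap2 CO73Ap2 = true := by
  apply chkCertR_of_main DO73Ap2 CO73Ap2 chk_mainO73Ap2
  show (List.range 1).all _ = true
  simp only [List.range_one, List.all_cons, List.all_nil, Bool.and_true]
  exact chk_relO73Ap2

end Cfsg.Agent.Lib.Helper6.MultD
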