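import Cfsg.Agent.Lib.Helper6.Mult.PM3
import Cfsg.Agent.Lib.Helper6.Mult.O73A
import Cfsg.Agent.Lib.Helper6.MultD.O73Ap3D

set_option autoImplicit false
set_option maxRecDepth 100000

/-! The presented group `O73` on 378 sets, data O73Ap3: the checks of the generators. -/

namespace Cfsg.Agent.Lib.Helper6.MultD

open Cfsg.Agent.Lib.Helper6.PM Cfsg.Agent.Lib.Helper6.O73M Cfsg.Agent.Lib.Helper1

theorem chk_tabO73Ap3_0 : chkTab o73Model wsO73Ap3 pmO73Ap3 0 = true := by decide +kernel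

theorem chk_tabO73Ap3_1 : chkTab o73Model wsO73Ap3 pmO73Ap3 1 = true := by decide +kernel

theorem chk_tabO73Ap3_2 : chkTab o73Model wsO73Ap3 pmO73Ap3 2 = true := by decide +kernel

theorem chk_tabO73Ap3_3 : chkTab o73Model wsO73Ap3 pmO73Ap3 3 = true := by decide +kernel

theorem chk_tabO73Ap3_4 : chkTab o73Model wsO73Ap3 pmO73Ap3 4 = true := by decide +kernel

theorem chk_tabO73Ap3_5 : chkTab o73Model wsO73Ap3 pmO73Ap3 5 = true := by decide +kernel

theorem chk_tabO73Ap3_6 : chkTab o73Model wsO73Ap3 pmO73Ap3 6 = true := by decide +kernel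

theorem chk_tabO73Ap3_7 : chkTab o73Model wsO73Ap3 pmO73Ap3 7 = true := by decide +kernel

theorem chk_relPO73Ap3_0 : chkRelP o73Model DO73Ap3 pmO73Ap3 0 = true := by decide +kernel

theorem chk_relPO73Ap3_1 : chkRelP o73Model DO73Ap3 pmO73Ap3 1 = true := by decide +kernel

theorem chk_relPO73Ap3_2 : chkRelP o73Model DO73Ap3 pmO73Ap3 2 = true := by decide +kernel

theorem chk_relPO73Ap3_3 : chkRelP o73Model DO73Ap3 pmO73Ap3 3 = true := by decide +kernel

theorem chk_relPO73Ap3_4 : chkRelP o73Model DO73Ap3 pmO73Ap3 4 = true := by decide +kernel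

theorem chk_relPO73Ap3_5 : chkRelP o73Model DO73Ap3 pmO73Ap3 5 = true := by decide +kernel

theorem chk_relPO73Ap3_6 : chkRelP o73Model DO73Ap3 pmO73Ap3 6 = true := by decide +kernel

theorem chk_relPO73Ap3_7 : chkRelP o73Model DO73Ap3 pmO73Ap3 7 = true := by decide +kernel

theorem chk_relPO73Ap3_8 : chkRelP o73Model DO73Ap3 pmO73Ap3 8 = true := by decide +kernel

theorem chk_relPO73Ap3_9 : chkRelP o73Model DO73Ap3 pmO73Ap3 9 = true := by decide +kernel

theorem chk_relPO73Ap3_10 : chkRelP o73Model DO73Ap3 pmO73Ap3 10 = true := by decide +kernel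

theorem chk_relPO73Ap3_11 : chkRelP o73Model DO73Ap3 pmO73Ap3 11 = true := by decide +kernel

theorem chk_relPO73Ap3_12 : chkRelP o73Model DO73Ap3 pmO73Ap3 12 = true := by decide +kernel

theorem chk_relPO73Ap3_13 : chkRelP o73Model DO73Ap3 pmO73Ap3 13 = true := by decide +kernel

theorem chk_relPO73Ap3_14 : chkRelP o73Model DO73Ap3 pmO73Ap3 14 = true := by decide +kernel

theorem chk_relPO73Ap3_15 : chkRelP o73Model DO73Ap3 pmO73Ap3 15 = true := by decide +kernel

theorem chk_relPO73Ap3_16 : chkRelP o73Model DO73Ap3 pmO73Ap3 16 = true := by decide +kernel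

theorem chk_relPO73Ap3_17 : chkRelP o73Model DO73Ap3 pmO73Ap3 17 = true := by decide +kernel

theorem chk_relPO73Ap3_18 : chkRelP o73Model DO73Ap3 pmO73Ap3 18 = true := by decide +kernel

theorem chk_relPO73Ap3_19 : chkRelP o73Model DO73Ap3 pmO73Ap3 19 = true := by decide +kernel

theorem chk_relPO73Ap3_20 : chkRelP o73Model DO73Ap3 pmO73Ap3 20 = true := by decide +kernel

theorem chk_relPO73Ap3_21 : chkRelP o73Model DO73Ap3 pmO73Ap3 21 = true := by decide +kernel

theorem chk_relPO73Ap3_22 : chkRelP o73Model DO73Ap3 pmO73Ap3 22 = true := by decide +kernel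

theorem chk_relPO73Ap3_23 : chkRelP o73Model DO73Ap3 pmO73Ap3 23 = true := by decide +kernel

theorem chk_relPO73Ap3_24 : chkRelP o73Model DO73Ap3 pmO73Ap3 24 = true := by decide +kernel

theorem chk_relPO73Ap3_25 : chkRelP o73Model DO73Ap3 pmO73Ap3 25 = true := by decide +kernel

theorem chk_relPO73Ap3_26 : chkRelP o73Model DO73Ap3 pmO73Ap3 26 = true := by decide +kernel

theorem chk_relPO73Ap3_27 : chkRelP o73Model DO73Ap3 pmO73Ap3 27 = true := by decide +kernel

theorem chk_relPO73Ap3_28 : chkRelP o73Model DO73Ap3 pmO73Ap3 28 = true := by decide +kernel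

theorem chk_relPO73Ap3_29 : chkRelP o73Model DO73Ap3 pmO73Ap3 29 = true := by decide +kernel

theorem chk_relPO73Ap3_30 : chkRelP o73Model DO73Ap3 pmO73Ap3 30 = true := by decide +kernel

theorem chk_relPO73Ap3_31 : chkRelP o73Model DO73Ap3 pmO73Ap3 31 = true := by decide +kernel

theorem chk_ordPO73Ap3_0 : chkOrdP o73Model DO73Ap3 pmO73Ap3 0 = true := by decide +kernel

theorem chk_ordPO73Ap3_1 : chkOrdP o73Model DO73Ap3 pmO73Ap3 1 = true := by decide +kernel

theorem chk_ordPO73Ap3_2 : chkOrdP o73Model DO73Ap3 pmO73Ap3 2 = true := by decide +kernel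

theorem chk_ordPO73Ap3_3 : chkOrdP o73Model DO73Ap3 pmO73Ap3 3 = true := by decide +kernel

theorem chk_ordPO73Ap3_4 : chkOrdP o73Model DO73Ap3 pmO73Ap3 4 = true := by decide +kernel

theorem chk_ordPO73Ap3_5 : chkOrdP o73Model DO73Ap3 pmO73Ap3 5 = true := by decide +kernel

theorem chk_ordPO73Ap3_6 : chkOrdP o73Model DO73Ap3 pmO73Ap3 6 = true := by decide +kernel

theorem chk_ordPO73Ap3_7 : chkOrdP o73Model DO73Ap3 pmO73Ap3 7 = true := by decide +kernel

theorem chk_lwPO73Ap3_0 : chkLwP o73Model wsO73Ap3 pmO73Ap3 lwO73Ap3 0 = true := by decide +kernel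

theorem chk_lwPO73Ap3_1 : chkLwP o73Model wsO73Ap3 pmO73Ap3 lwO73Ap3 1 = true := by decide +kernel

theorem chk_lwPO73Ap3_2 : chkLwP o73Model wsO73Ap3 pmO73Ap3 lwO73Ap3 2 = true := by decide +kernel

theorem chk_lwPO73Ap3_3 : chkLwP o73Model wsO73Ap3 pmO73Ap3 lwO73Ap3 3 = true := by decide +kernel

theorem chk_lwPO73Ap3_4 : chkLwP o73Model wsO73Ap3 pmO73Ap3 lwO73Ap3 4 = true := by decide +kernel

theorem chk_lwPO73Ap3_5 : chkLwP o73Model wsO73Ap3 pmO73Ap3 lwO73Ap3 5 = true := by decide +kernel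

theorem chk_lwPO73Ap3_6 : chkLwP o73Model wsO73Ap3 pmO73Ap3 lwO73Ap3 6 = true := by decide +kernel

theorem chk_lwPO73Ap3_7 : chkLwP o73Model wsO73Ap3 pmO73Ap3 lwO73Ap3 7 = true := by decide +kernel

theorem coreO73Ap3 : CoreFacts o73Model DO73Ap3 wsO73Ap3 pmO73Ap3 lwO73Ap3 := by
  apply coreFacts_of_chk
  · rfl
  · intro i hi
    have h' : i < 8 := hi
    interval_cases i
    · exact chk_tabO73Ap3_0
    · exact chk_tabO73Ap3_1
    · exact chk_tabO73Ap3_2
    · exact chk_tabO73Ap3_3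
    · exact chk_tabO73Ap3_4
    · exact chk_tabO73Ap3_5
    · exact chk_tabO73Ap3_6
    · exact chk_tabO73Ap3_7
  · intro r hr
    have h' : r < 32 := hr
    interval_cases r
    · exact chk_relPO73Ap3_0
    · exact chk_relPO73Ap3_1
    · exact chk_relPO73Ap3_2
    · exact chk_relPO73Ap3_3
    · exact chk_relPO73Ap3_4
    · exact chk_relPO73Ap3_5
    · exact chk_relPO73Ap3_6
    · exact chk_relPO73Ap3_7
    · exact chk_relPO73Ap3_8
    · exact chk_relPO73Ap3_9
    · exact chk_relPO73Ap3_10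
    · exact chk_relPO73Ap3_11
    · exact chk_relPO73Ap3_12
    · exact chk_relPO73Ap3_13
    · exact chk_relPO73Ap3_14
    · exact chk_relPO73Ap3_15
    · exact chk_relPO73Ap3_16
    · exact chk_relPO73Ap3_17
    · exact chk_relPO73Ap3_18
    · exact chk_relPO73Ap3_19
    · exact chk_relPO73Ap3_20
    · exact chk_relPO73Ap3_21
    · exact chk_relPO73Ap3_22
    · exact chk_relPO73Ap3_23
    · exact chk_relPO73Ap3_24
    · exact chk_relPO73Ap3_25
    · exact chk_relPO73Ap3_26
    · exact chk_relPO73Ap3_27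
    · exact chk_relPO73Ap3_28
    · exact chk_relPO73Ap3_29
    · exact chk_relPO73Ap3_30
    · exact chk_relPO73Ap3_31
  · intro i hi
    have h' : i < 8 := hi
    interval_cases i
    · exact chk_ordPO73Ap3_0
    · exact chk_ordPO73Ap3_1
    · exact chk_ordPO73Ap3_2
    · exact chk_ordPO73Ap3_3
    · exact chk_ordPO73Ap3_4
    · exact chk_ordPO73Ap3_5
    · exact chk_ordPO73Ap3_6
    · exact chk_ordPO73Ap3_7
  · intro c hc
    have h' : c < 8 := hc
    interval_cases c
    · exact chk_lwPO73Ap3_0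
    · exact chk_lwPO73Ap3_1
    · exact chk_lwPO73Ap3_2
    · exact chk_lwPO73Ap3_3
    · exact chk_lwPO73Ap3_4
    · exact chk_lwPO73Ap3_5
    · exact chk_lwPO73Ap3_6
    · exact chk_lwPO73Ap3_7

end Cfsg.Agent.Lib.Helper6.MultD
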