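import Cfsg.Agent.Lib.Helper6.Mult.O73A
import Cfsg.Agent.Lib.Helper6.MultD.O73LM
import Cfsg.Agent.Lib.Helper6.Mult.PM2

set_option autoImplicit false
set_option maxRecDepth 100000

/-! The subgroups `L4(3)` and `U4(2)` of the presented group `O73`: the tables of their generators, and their models. -/

namespace Cfsg.Agent.Lib.Helper6.MultD

open Cfsg.Agent.Lib.Helper6.PM Cfsg.Agent.Lib.Helper6.O73M Cfsg.Agent.Lib.Helper1

theorem chk_tabO73LM_0 : chkTab o73Model wsO73LM pmO73LM 0 = true := by decide +kernel

theorem chk_tabO73LM_1 : chkTab o73Model wsO73LM pmO73LM 1 = true := by decide +kernel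

theorem chk_tabO73LM_2 : chkTab o73Model wsO73LM pmO73LM 2 = true := by decide +kernel

theorem chk_tabO73LM_3 : chkTab o73Model wsO73LM pmO73LM 3 = true := by decide +kernel

theorem chk_tabO73LM_4 : chkTab o73Model wsO73LM pmO73LM 4 = true := by decide +kernel

theorem chk_tabO73LM_5 : chkTab o73Model wsO73LM pmO73LM 5 = true := by decide +kernel

theorem chk_tabO73LM_6 : chkTab o73Model wsO73LM pmO73LM 6 = true := by decide +kernel

theorem tabO73LM : TabFacts o73Model wsO73LM pmO73LM := by
  apply tabFacts_of_chk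
  intro i hi
  have h' : i < 7 := hi
  interval_cases i
  · exact chk_tabO73LM_0
  · exact chk_tabO73LM_1
  · exact chk_tabO73LM_2
  · exact chk_tabO73LM_3
  · exact chk_tabO73LM_4
  · exact chk_tabO73LM_5
  · exact chk_tabO73LM_6

/-- the model of the subgroup `L4(3)` -/
noncomputable def o73L : PModel := sub o73Model wsO73LM pmO73LM tabO73LM

end Cfsg.Agent.Lib.Helper6.MultD
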