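import Cfsg.Agent.Lib.Helper6.Mult.PM3
import Cfsg.Agent.Lib.Helper6.MultD.O73LML
import Cfsg.Agent.Lib.Helper6.MultD.O73Bp3D

set_option autoImplicit false
set_option maxRecDepth 100000

/-! The subgroup `L4(3)` of the presented group `O73` on 117 sets, data O73Bp3: the checks of the generators. -/

namespace Cfsg.Agent.Lib.Helper6.MultD

open Cfsg.Agent.Lib.Helper6.PM Cfsg.Agent.Lib.Helper6.O73M Cfsg.Agent.Lib.Helper1

theorem chk_tabO73Bp3_0 : chkTab o73L wsO73Bp3 pmO73Bp3 0 = true := by decide +kernel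

theorem chk_tabO73Bp3_1 : chkTab o73L wsO73Bp3 pmO73Bp3 1 = true := by decide +kernel

theorem chk_tabO73Bp3_2 : chkTab o73L wsO73Bp3 pmO73Bp3 2 = true := by decide +kernel

theorem chk_tabO73Bp3_3 : chkTab o73L wsO73Bp3 pmO73Bp3 3 = true := by decide +kernel

theorem chk_tabO73Bp3_4 : chkTab o73L wsO73Bp3 pmO73Bp3 4 = true := by decide +kernel

theorem chk_tabO73Bp3_5 : chkTab o73L wsO73Bp3 pmO73Bp3 5 = true := by decide +kernel

theorem chk_relPO73Bp3_0 : chkRelP o73L DO73Bp3 pmO73Bp3 0 = true := by decide +kernel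

theorem chk_relPO73Bp3_1 : chkRelP o73L DO73Bp3 pmO73Bp3 1 = true := by decide +kernel

theorem chk_relPO73Bp3_2 : chkRelP o73L DO73Bp3 pmO73Bp3 2 = true := by decide +kernel

theorem chk_relPO73Bp3_3 : chkRelP o73L DO73Bp3 pmO73Bp3 3 = true := by decide +kernel

theorem chk_relPO73Bp3_4 : chkRelP o73L DO73Bp3 pmO73Bp3 4 = true := by decide +kernel

theorem chk_relPO73Bp3_5 : chkRelP o73L DO73Bp3 pmO73Bp3 5 = true := by decide +kernel

theorem chk_relPO73Bp3_6 : chkRelP o73L DO73Bp3 pmO73Bp3 6 = true := by decide +kernel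

theorem chk_relPO73Bp3_7 : chkRelP o73L DO73Bp3 pmO73Bp3 7 = true := by decide +kernel

theorem chk_relPO73Bp3_8 : chkRelP o73L DO73Bp3 pmO73Bp3 8 = true := by decide +kernel

theorem chk_relPO73Bp3_9 : chkRelP o73L DO73Bp3 pmO73Bp3 9 = true := by decide +kernel

theorem chk_relPO73Bp3_10 : chkRelP o73L DO73Bp3 pmO73Bp3 10 = true := by decide +kernel

theorem chk_relPO73Bp3_11 : chkRelP o73L DO73Bp3 pmO73Bp3 11 = true := by decide +kernel

theorem chk_relPO73Bp3_12 : chkRelP o73L DO73Bp3 pmO73Bp3 12 = true := by decide +kernel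

theorem chk_relPO73Bp3_13 : chkRelP o73L DO73Bp3 pmO73Bp3 13 = true := by decide +kernel

theorem chk_relPO73Bp3_14 : chkRelP o73L DO73Bp3 pmO73Bp3 14 = true := by decide +kernel

theorem chk_relPO73Bp3_15 : chkRelP o73L DO73Bp3 pmO73Bp3 15 = true := by decide +kernel

theorem chk_relPO73Bp3_16 : chkRelP o73L DO73Bp3 pmO73Bp3 16 = true := by decide +kernel

theorem chk_relPO73Bp3_17 : chkRelP o73L DO73Bp3 pmO73Bp3 17 = true := by decide +kernel

theorem chk_relPO73Bp3_18 : chkRelP o73L DO73Bp3 pmO73Bp3 18 = true := by decide +kernel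

theorem chk_relPO73Bp3_19 : chkRelP o73L DO73Bp3 pmO73Bp3 19 = true := by decide +kernel

theorem chk_relPO73Bp3_20 : chkRelP o73L DO73Bp3 pmO73Bp3 20 = true := by decide +kernel

theorem chk_relPO73Bp3_21 : chkRelP o73L DO73Bp3 pmO73Bp3 21 = true := by decide +kernel

theorem chk_relPO73Bp3_22 : chkRelP o73L DO73Bp3 pmO73Bp3 22 = true := by decide +kernel

theorem chk_relPO73Bp3_23 : chkRelP o73L DO73Bp3 pmO73Bp3 23 = true := by decide +kernel

theorem chk_relPO73Bp3_24 : chkRelP o73L DO73Bp3 pmO73Bp3 24 = true := by decide +kernel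

theorem chk_relPO73Bp3_25 : chkRelP o73L DO73Bp3 pmO73Bp3 25 = true := by decide +kernel

theorem chk_relPO73Bp3_26 : chkRelP o73L DO73Bp3 pmO73Bp3 26 = true := by decide +kernel

theorem chk_relPO73Bp3_27 : chkRelP o73L DO73Bp3 pmO73Bp3 27 = true := by decide +kernel

theorem chk_relPO73Bp3_28 : chkRelP o73L DO73Bp3 pmO73Bp3 28 = true := by decide +kernel

theorem chk_ordPO73Bp3_0 : chkOrdP o73L DO73Bp3 pmO73Bp3 0 = true := by decide +kernel

theorem chk_ordPO73Bp3_1 : chkOrdP o73L DO73Bp3 pmO73Bp3 1 = true := by decide +kernel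

theorem chk_ordPO73Bp3_2 : chkOrdP o73L DO73Bp3 pmO73Bp3 2 = true := by decide +kernel

theorem chk_ordPO73Bp3_3 : chkOrdP o73L DO73Bp3 pmO73Bp3 3 = true := by decide +kernel

theorem chk_ordPO73Bp3_4 : chkOrdP o73L DO73Bp3 pmO73Bp3 4 = true := by decide +kernel

theorem chk_ordPO73Bp3_5 : chkOrdP o73L DO73Bp3 pmO73Bp3 5 = true := by decide +kernel

theorem chk_lwPO73Bp3_0 : chkLwP o73L wsO73Bp3 pmO73Bp3 lwO73Bp3 0 = true := by decide +kernel

theorem chk_lwPO73Bp3_1 : chkLwP o73L wsO73Bp3 pmO73Bp3 lwO73Bp3 1 = true := by decide +kernel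

theorem chk_lwPO73Bp3_2 : chkLwP o73L wsO73Bp3 pmO73Bp3 lwO73Bp3 2 = true := by decide +kernel

theorem chk_lwPO73Bp3_3 : chkLwP o73L wsO73Bp3 pmO73Bp3 lwO73Bp3 3 = true := by decide +kernel

theorem chk_lwPO73Bp3_4 : chkLwP o73L wsO73Bp3 pmO73Bp3 lwO73Bp3 4 = true := by decide +kernel

theorem chk_lwPO73Bp3_5 : chkLwP o73L wsO73Bp3 pmO73Bp3 lwO73Bp3 5 = true := by decide +kernel

theorem chk_lwPO73Bp3_6 : chkLwP o73L wsO73Bp3 pmO73Bp3 lwO73Bp3 6 = true := by decide +kernel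

theorem coreO73Bp3 : CoreFacts o73L DO73Bp3 wsO73Bp3 pmO73Bp3 lwO73Bp3 := by
  apply coreFacts_of_chk
  · rfl
  · intro i hi
    have h' : i < 6 := hi
    interval_cases i
    · exact chk_tabO73Bp3_0
    · exact chk_tabO73Bp3_1
    · exact chk_tabO73Bp3_2
    · exact chk_tabO73Bp3_3
    · exact chk_tabO73Bp3_4
    · exact chk_tabO73Bp3_5
  · intro r hr
    have h' : r < 29 := hr
    interval_cases r
    · exact chk_relPO73Bp3_0
    · exact chk_relPO73Bp3_1
    · exact chk_relPO73Bp3_2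
    · exact chk_relPO73Bp3_3
    · exact chk_relPO73Bp3_4
    · exact chk_relPO73Bp3_5
    · exact chk_relPO73Bp3_6
    · exact chk_relPO73Bp3_7
    · exact chk_relPO73Bp3_8
    · exact chk_relPO73Bp3_9
    · exact chk_relPO73Bp3_10
    · exact chk_relPO73Bp3_11
    · exact chk_relPO73Bp3_12
    · exact chk_relPO73Bp3_13
    · exact chk_relPO73Bp3_14
    · exact chk_relPO73Bp3_15
    · exact chk_relPO73Bp3_16
    · exact chk_relPO73Bp3_17
    · exact chk_relPO73Bp3_18
    · exact chk_relPO73Bp3_19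
    · exact chk_relPO73Bp3_20
    · exact chk_relPO73Bp3_21
    · exact chk_relPO73Bp3_22
    · exact chk_relPO73Bp3_23
    · exact chk_relPO73Bp3_24
    · exact chk_relPO73Bp3_25
    · exact chk_relPO73Bp3_26
    · exact chk_relPO73Bp3_27
    · exact chk_relPO73Bp3_28
  · intro i hi
    have h' : i < 6 := hi
    interval_cases i
    · exact chk_ordPO73Bp3_0
    · exact chk_ordPO73Bp3_1
    · exact chk_ordPO73Bp3_2
    · exact chk_ordPO73Bp3_3
    · exact chk_ordPO73Bp3_4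
    · exact chk_ordPO73Bp3_5
  · intro c hc
    have h' : c < 7 := hc
    interval_cases c
    · exact chk_lwPO73Bp3_0
    · exact chk_lwPO73Bp3_1
    · exact chk_lwPO73Bp3_2
    · exact chk_lwPO73Bp3_3
    · exact chk_lwPO73Bp3_4
    · exact chk_lwPO73Bp3_5
    · exact chk_lwPO73Bp3_6

end Cfsg.Agent.Lib.Helper6.MultD
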