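import Cfsg.Agent.Lib.Helper6.Mult.PM7
import Cfsg.Agent.Lib.Helper6.MultD.O73LML
import Cfsg.Agent.Lib.Helper6.MultD.O73Bp3D

set_option autoImplicit false
set_option maxRecDepth 100000

/-! The subgroup `L4(3)` of the presented group `O73` on 117 sets, data O73Bp3: the checks of the action on the sets. -/

namespace Cfsg.Agent.Lib.Helper6.MultD

open Cfsg.Agent.Lib.Helper6.PM Cfsg.Agent.Lib.Helper6.O73M Cfsg.Agent.Lib.Helper1

/-- a table recovering the index of a set from its mask -/
def invNO73Bp3 : ℕ := 0x14c000000280000000000000000be00032000000000000000000000000000000000005800000020000000000000000000000000000000150000000000006e00000000002c800000000000000000000000000000000000000000007a000630000000000000000000000001a000000000000000000000000000000000000000000000002900000000000000000000000000000000000000000000001c0000000000de00000000000000000000000000000002b00009000002e80019c00000000000000b0000000004201400d8032000000000009c00000000001e14000000000001c4000000000000000000000060cc000000000b80000000000000000000a00000000600000000000000000000000000000000000000058000000000000000000154000000000000000000000001aa700000000000a400000000000000000000000000000000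04400000000000001e00000000000000000000000013c0000000000000800001b4000000001f0000500000003f060000082000000000030120000000000000000e80e400000000000000000000002b007400045000000000000180000047900000000000000000000006c000000230000100260000000000000000c4000000000000017000000000000000000000000001a800000000000002d00000000000000000000098000008400000000000000000000000000007ad000000000000000000000000000000000258d01a400000000000000000000000000000000000000000000000000000000000e80000000000000000000d60000000000000000000000000000000000000000000000000000005e0000000000007000000e000000000000000000000000000000006100000000001180000000000d8000ca039800000000000000000ec000b988000011000000cc0004802b80000000000000000000039000000000000000000000000000000000000000000000000000000000124000000000000940000000000004ed880000010a2000000154000000004d18000000000000000000000000430002500a8000000000000000000000000000000d000000000008800000000000002f00d0000000000000000003e1c01b800000000006402000000000000e00000000000000000000058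

def invO73Bp3 (a : ℕ) : ℕ := (invNO73Bp3 >>> (7 * (a % 945))) % 2 ^ 7

theorem chk_setsO73Bp3_0 : chkSetsB o73L pmO73Bp3 masksO73Bp3 DO73Bp3.m DO73Bp3.pi 0 = true := by decide +kernel

theorem chk_setsO73Bp3_1 : chkSetsB o73L pmO73Bp3 masksO73Bp3 DO73Bp3.m DO73Bp3.pi 1 = true := by decide +kernel

theorem chk_setsO73Bp3_2 : chkSetsB o73L pmO73Bp3 masksO73Bp3 DO73Bp3.m DO73Bp3.pi 2 = true := by decide +kernel

theorem chk_setsO73Bp3_3 : chkSetsB o73L pmO73Bp3 masksO73Bp3 DO73Bp3.m DO73Bp3.pi 3 = true := by decide +kernel

theorem chk_setsO73Bp3_4 : chkSetsB o73L pmO73Bp3 masksO73Bp3 DO73Bp3.m DO73Bp3.pi 4 = true := by decide +kernel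

theorem chk_setsO73Bp3_5 : chkSetsB o73L pmO73Bp3 masksO73Bp3 DO73Bp3.m DO73Bp3.pi 5 = true := by decide +kernel

theorem chk_setsO73Bp3 : ∀ i < wsO73Bp3.length, chkSets o73L pmO73Bp3 masksO73Bp3 DO73Bp3.m DO73Bp3.pi i = true := by
  intro i hi
  apply chkSets_of_B
  have h' : i < 6 := hi
  interval_cases i
  · exact chk_setsO73Bp3_0
  · exact chk_setsO73Bp3_1
  · exact chk_setsO73Bp3_2
  · exact chk_setsO73Bp3_3
  · exact chk_setsO73Bp3_4
  · exact chk_setsO73Bp3_5

theorem chk_distinctO73Bp3 : chkDistinct o73L masksO73Bp3 DO73Bp3.m = true :=
  chkDistinct_of_invB o73L masksO73Bp3 DO73Bp3.m invO73Bp3 (by decide +kernel)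

end Cfsg.Agent.Lib.Helper6.MultD
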