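import Mathlib

set_option autoImplicit false
set_option maxRecDepth 100000
set_option maxHeartbeats 8000000

/-! Certificate FI23Hp3: rows 0..56 of the right inverse, packed in base 2^6. -/

namespace Cfsg.Agent.Lib.Helper6.MultD

def RLFI23Hp3_0 : List (List ℕ) := [[0x2000,
  0x1,
  0x80000,
  0x42000000080000000040000000000000000000000002000001,
  0x81000000040000000080000000000000000000000002000002,
  0x80000000,
  0x2000000001000000000000000000002000000001,
  0x1000000002000000000000000000002000000002,
  0x80000000000,
  0x80000000040000000000000000002000000000001,
  0x40000000080000000000000000002000000000002,
  0x80000000000000,
  0x2000000001000000000000000002000000000000001,
  0x1000000002000000000000000002000000000000002,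
  0x80000000000000000,
  0x80000000040000000000000002000000000000000001,
  0x40000000080000000000000002000000000000000002,
  0x80000000000000000000,
  0x2000000001000000000000002000000000000000000001,
  0x1000000002000000000000002000000000000000000002,
  0x80000000000000000000000,
  0x80000000040000000000002000000000000000000000001,
  0x40000000080000000000002000000000000000000000002,
  0x80000000000000000000000000,
  0x81000000042000000080000000040002000000000000000000000000001,
  0x42000000081000000040000000080002000000000000000000000000002,
  0x40,
  0x80000000000000000000000000000,
  0x1000000001000000000000000000000000000000,
  0x40000000040000000000000000000000000000000,
  0x1000000001000000000000000000000000000000000,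
  0x40000000040000000000000000000000000000000000],
  [0x1000000001000000000000000000000000000000000000,
  0x40000000040000000000000000000000000000000000000,
  0x2000000000000000000000000000000000000000000000000,
  0x2000000000000000000000000000000000000000000000000000,
  0x80000000000000000000000000000000000000000000000000000,
  0x2000000000000000000000000000000000000000000000000000000,
  0x80000000000000000000000000000000000000000000000000000000,
  0x2000000000000000000000000000000000000000000000000000000000,
  0x2000000000000000000000000000000000000000000000000000000000000,
  0x80000000000000000000000000000000000000000000000000000000000000,
  0x2000000000000000000000000000000000000000000000000000000000000000,
  0x80000000000000000000000000000000000000000000000000000000000000000,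
  0x2000000000000000000000000000000000000000000000000000000000000000000,
  0x80000000000000000000000000000000000000000000000000000000000000000000,
  0x2000000000000000000000000000000000000000000000000000000000000000000000,
  0x80000000000000000000000000000000000000000000000000000000000000000000000,
  0x2000000000000000000000000000000000000000000000000000000000000000000000000,
  0x80000000000000000000000000000000000000000000000000000000000000000000000000,
  0x2000000000000000000000000000000000000000000000000000000000000000000000000000,
  0x80000000000000000000000000000000000000000000000000000000000000000000000000000,
  0x2000000000000000000000000000000000000000000000000000000000000000000000000000000,
  0x80000000000000000000000000000000000000000000000000000000000000000000000000000000,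
  0x2000000000000000000000000000000000000000000000000000000000000000000000000000000000,
  0x80000000000000000000000000000000000000000000000000000000000000000000000000000000000,
  0x2000000000000000000000000000000000000000000000000000000080000000000040000000000000000]]

end Cfsg.Agent.Lib.Helper6.MultD
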