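import Mathlib
import Cfsg.Agent.Lib.Helper1.StemZP7
import Cfsg.Agent.Lib.Helper6.MultD.FI23Hp3R0

set_option autoImplicit false
set_option maxRecDepth 100000
set_option maxHeartbeats 8000000

/-! Certificate FI23Hp3 for the prime 3. -/

namespace Cfsg.Agent.Lib.Helper6.MultD

open Cfsg.Agent.Lib.Helper1

def specNFI23Hp3 : ℕ := 0x9c9894908c8884807c7874706c6864605c595854504c484544423e3a36322e413d3935312d2a252421201d1c1918151411100d0c0908042805

def unkNFI23Hp3 : ℕ := 0x3ae78df6d74cf2c70beeb6caeaa689e69648e28607de75c69961759551349140f38d30b289207185103080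

def colNFI23Hp3 : ℕ := 0x39e37db5d33cb1c2fbadb2baa9a279a59238a181f79d71b01a6585d65544d24503ce34c2ca2481c61440c2001

def relFI23Hp3 : List (List ((ℕ × ℕ) × ℕ)) := []

/-- the certificate -/
def CFI23Hp3 : StemZP.ZRCert where
  p := 3
  s := 2
  w := 6
  N := 57
  β := 3
  hmR := 60
  hmQ := 48
  bs := []
  es := []
  specs := fun i => ((specNFI23Hp3 >>> (8 * i)) % 2 ^ 8 / 2 ^ 2, (specNFI23Hp3 >>> (8 * i)) % 2 ^ 2)
  unk := fun c => (unkNFI23Hp3 >>> (6 * c)) % 2 ^ 6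
  colT := fun b => (colNFI23Hp3 >>> (6 * b)) % 2 ^ 6
  R := fun c => if c < 57 then (RLFI23Hp3_0.getD ((c - 0) / 32) []).getD ((c - 0) % 32) 0 else 0
  rel := relFI23Hp3

end Cfsg.Agent.Lib.Helper6.MultD
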