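import Cfsg.Agent.Lib.Helper6.Mult.Fi23A
import Cfsg.Agent.Lib.Helper6.MultD.FI23HM
import Cfsg.Agent.Lib.Helper6.Mult.PM11

set_option autoImplicit false
set_option maxRecDepth 100000
set_option Elab.async false

/-! The subgroup `O8+(3):S3` of the presented group `Fi23`: the table of its last generator (part 0) -/

namespace Cfsg.Agent.Lib.Helper6.MultD

open Cfsg.Agent.Lib.Helper6.PM Cfsg.Agent.Lib.Helper6.Fi23M Cfsg.Agent.Lib.Helper1 Cfsg.Agent.Lib.Helper6.TC Cfsg.Agent.Lib.Helper6.TCD

theorem chk_tab9FI23H_c0 : allBR (tabAt fi23Model wsFI23H pmFI23H 9) 0 2112 = true := by decide +kernel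

theorem chk_tab9FI23H_c1 : allBR (tabAt fi23Model wsFI23H pmFI23H 9) 2112 2112 = true := by decide +kernel

theorem chk_tab9FI23H_c2 : allBR (tabAt fi23Model wsFI23H pmFI23H 9) 4224 2112 = true := by decide +kernel

theorem chk_tab9FI23H_c3 : allBR (tabAt fi23Model wsFI23H pmFI23H 9) 6336 2112 = true := by decide +kernel

theorem chk_tab9FI23H_c4 : allBR (tabAt fi23Model wsFI23H pmFI23H 9) 8448 2112 = true := by decide +kernel

theorem chk_tab9FI23H_c5 : allBR (tabAt fi23Model wsFI23H pmFI23H 9) 10560 2112 = true := by decide +kernel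

theorem chk_tab9FI23H_c6 : allBR (tabAt fi23Model wsFI23H pmFI23H 9) 12672 2112 = true := by decide +kernel

theorem chk_tab9FI23H_c7 : allBR (tabAt fi23Model wsFI23H pmFI23H 9) 14784 2112 = true := by decide +kernel

theorem chk_tab9FI23H_c8 : allBR (tabAt fi23Model wsFI23H pmFI23H 9) 16896 2112 = true := by decide +kernel

theorem chk_tab9FI23H_c9 : allBR (tabAt fi23Model wsFI23H pmFI23H 9) 19008 2112 = true := by decide +kernel

theorem chk_tab9FI23H_c10 : allBR (tabAt fi23Model wsFI23H pmFI23H 9) 21120 2112 = true := by decide +kernel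

theorem chk_tab9FI23H_c11 : allBR (tabAt fi23Model wsFI23H pmFI23H 9) 23232 2112 = true := by decide +kernel

theorem chk_tab9FI23H_c12 : allBR (tabAt fi23Model wsFI23H pmFI23H 9) 25344 2112 = true := by decide +kernel

theorem chk_tab9FI23H_c13 : allBR (tabAt fi23Model wsFI23H pmFI23H 9) 27456 2112 = true := by decide +kernel

end Cfsg.Agent.Lib.Helper6.MultD
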