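import Cfsg.Agent.Lib.Helper6.Mult.Fi23A
import Cfsg.Agent.Lib.Helper6.MultD.FI23HM
import Cfsg.Agent.Lib.Helper6.Mult.PM11

set_option autoImplicit false
set_option maxRecDepth 100000
set_option Elab.async false

/-! The subgroup `O8+(3):S3` of the presented group `Fi23`: the table of its last generator (part 1) -/

namespace Cfsg.Agent.Lib.Helper6.MultD

open Cfsg.Agent.Lib.Helper6.PM Cfsg.Agent.Lib.Helper6.Fi23M Cfsg.Agent.Lib.Helper1 Cfsg.Agent.Lib.Helper6.TC Cfsg.Agent.Lib.Helper6.TCD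

theorem chk_tab9FI23H_c14 : allBR (tabAt fi23Model wsFI23H pmFI23H 9) 29568 2103 = true := by decide +kernel

end Cfsg.Agent.Lib.Helper6.MultD
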