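import Cfsg.Agent.Lib.Helper6.Mult.Fi23A
import Cfsg.Agent.Lib.Helper6.MultD.FI23HM
import Cfsg.Agent.Lib.Helper6.Mult.PM11
import Cfsg.Agent.Lib.Helper6.MultD.FI23HML9_0
import Cfsg.Agent.Lib.Helper6.MultD.FI23HML9_1

set_option autoImplicit false
set_option maxRecDepth 100000
set_option Elab.async false

/-! The subgroup `O8+(3):S3` of the presented group `Fi23`: the tables of its generators, and its model. -/

namespace Cfsg.Agent.Lib.Helper6.MultD

open Cfsg.Agent.Lib.Helper6.PM Cfsg.Agent.Lib.Helper6.Fi23M Cfsg.Agent.Lib.Helper1 Cfsg.Agent.Lib.Helper6.TC Cfsg.Agent.Lib.Helper6.TCD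

theorem chk_tabFI23H_0 : chkTab fi23Model wsFI23H pmFI23H 0 = true := by decide +kernel

theorem chk_tabFI23H_1 : chkTab fi23Model wsFI23H pmFI23H 1 = true := by decide +kernel

theorem chk_tabFI23H_2 : chkTab fi23Model wsFI23H pmFI23H 2 = true := by decide +kernel

theorem chk_tabFI23H_3 : chkTab fi23Model wsFI23H pmFI23H 3 = true := by decide +kernel

theorem chk_tabFI23H_4 : chkTab fi23Model wsFI23H pmFI23H 4 = true := by decide +kernel

theorem chk_tabFI23H_5 : chkTab fi23Model wsFI23H pmFI23H 5 = true := by decide +kernel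

theorem chk_tabFI23H_6 : chkTab fi23Model wsFI23H pmFI23H 6 = true := by decide +kernel

theorem chk_tabFI23H_7 : chkTab fi23Model wsFI23H pmFI23H 7 = true := by decide +kernel

theorem chk_tabFI23H_8 : chkTab fi23Model wsFI23H pmFI23H 8 = true := by decide +kernel

theorem chk_tab9FI23H_cuts : chkCuts 31671 [(0, 2112), (2112, 2112), (4224, 2112), (6336, 2112), (8448, 2112), (10560, 2112), (12672, 2112), (14784, 2112), (16896, 2112), (19008, 2112), (21120, 2112), (23232, 2112), (25344, 2112), (27456, 2112), (29568, 2103)] = true := by decide +kernel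

theorem chk_tab9FI23H : ∀ q < 31671, (tabAt fi23Model wsFI23H pmFI23H 9) q = true := by
  apply forall_of_allBR _ _ _ chk_tab9FI23H_cuts
  intro c hc
  simp only [List.mem_cons, List.mem_nil_iff, or_false] at hc
  rcases hc with rfl | rfl | rfl | rfl | rfl | rfl | rfl | rfl | rfl | rfl | rfl | rfl | rfl | rfl | rfl
  · exact chk_tab9FI23H_c0
  · exact chk_tab9FI23H_c1
  · exact chk_tab9FI23H_c2
  · exact chk_tab9FI23H_c3
  · exact chk_tab9FI23H_c4
  · exact chk_tab9FI23H_c5
  · exact chk_tab9FI23H_c6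
  · exact chk_tab9FI23H_c7
  · exact chk_tab9FI23H_c8
  · exact chk_tab9FI23H_c9
  · exact chk_tab9FI23H_c10
  · exact chk_tab9FI23H_c11
  · exact chk_tab9FI23H_c12
  · exact chk_tab9FI23H_c13
  · exact chk_tab9FI23H_c14

theorem chk_tabFI23H_9 : chkTab fi23Model wsFI23H pmFI23H 9 = true :=
  chkTab_of_forall _ _ _ _ (by decide +kernel) chk_tab9FI23H

theorem tabFI23H : TabFacts fi23Model wsFI23H pmFI23H := by
  apply tabFacts_of_chk
  intro i hi
  have h' : i < 10 := hi
  interval_cases i
  · exact chk_tabFI23H_0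
  · exact chk_tabFI23H_1
  · exact chk_tabFI23H_2
  · exact chk_tabFI23H_3
  · exact chk_tabFI23H_4
  · exact chk_tabFI23H_5
  · exact chk_tabFI23H_6
  · exact chk_tabFI23H_7
  · exact chk_tabFI23H_8
  · exact chk_tabFI23H_9

/-- the model of the subgroup -/
noncomputable def fi23H : PModel := sub fi23Model wsFI23H pmFI23H tabFI23H

end Cfsg.Agent.Lib.Helper6.MultD
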