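import Cfsg.Agent.Lib.Helper6.Mult.PM3
import Cfsg.Agent.Lib.Helper6.MultD.FI23HML
import Cfsg.Agent.Lib.Helper6.MultD.FI23Hp3D

set_option autoImplicit false
set_option maxRecDepth 100000
set_option Elab.async false

/-! The subgroup `O8+(3):S3` of the presented group `Fi23` on 3 sets, data FI23Hp3: the checks of the generators. -/

namespace Cfsg.Agent.Lib.Helper6.MultD

open Cfsg.Agent.Lib.Helper6.PM Cfsg.Agent.Lib.Helper6.Fi23M Cfsg.Agent.Lib.Helper1

theorem chk_tabFI23Hp3_0 : chkTab fi23H wsFI23Hp3 pmFI23Hp3 0 = true := by decide +kernel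

theorem chk_tabFI23Hp3_1 : chkTab fi23H wsFI23Hp3 pmFI23Hp3 1 = true := by decide +kernel

theorem chk_tabFI23Hp3_2 : chkTab fi23H wsFI23Hp3 pmFI23Hp3 2 = true := by decide +kernel

theorem chk_tabFI23Hp3_3 : chkTab fi23H wsFI23Hp3 pmFI23Hp3 3 = true := by decide +kernel

theorem chk_tabFI23Hp3_4 : chkTab fi23H wsFI23Hp3 pmFI23Hp3 4 = true := by decide +kernel

theorem chk_tabFI23Hp3_5 : chkTab fi23H wsFI23Hp3 pmFI23Hp3 5 = true := by decide +kernel

theorem chk_tabFI23Hp3_6 : chkTab fi23H wsFI23Hp3 pmFI23Hp3 6 = true := by decide +kernel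

theorem chk_tabFI23Hp3_7 : chkTab fi23H wsFI23Hp3 pmFI23Hp3 7 = true := by decide +kernel

theorem chk_tabFI23Hp3_8 : chkTab fi23H wsFI23Hp3 pmFI23Hp3 8 = true := by decide +kernel

theorem chk_tabFI23Hp3_9 : chkTab fi23H wsFI23Hp3 pmFI23Hp3 9 = true := by decide +kernel

theorem chk_relPFI23Hp3_0 : chkRelP fi23H DFI23Hp3 pmFI23Hp3 0 = true := by decide +kernel

theorem chk_relPFI23Hp3_1 : chkRelP fi23H DFI23Hp3 pmFI23Hp3 1 = true := by decide +kernel

theorem chk_relPFI23Hp3_2 : chkRelP fi23H DFI23Hp3 pmFI23Hp3 2 = true := by decide +kernel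

theorem chk_relPFI23Hp3_3 : chkRelP fi23H DFI23Hp3 pmFI23Hp3 3 = true := by decide +kernel

theorem chk_relPFI23Hp3_4 : chkRelP fi23H DFI23Hp3 pmFI23Hp3 4 = true := by decide +kernel

theorem chk_relPFI23Hp3_5 : chkRelP fi23H DFI23Hp3 pmFI23Hp3 5 = true := by decide +kernel

theorem chk_relPFI23Hp3_6 : chkRelP fi23H DFI23Hp3 pmFI23Hp3 6 = true := by decide +kernel

theorem chk_relPFI23Hp3_7 : chkRelP fi23H DFI23Hp3 pmFI23Hp3 7 = true := by decide +kernel

theorem chk_relPFI23Hp3_8 : chkRelP fi23H DFI23Hp3 pmFI23Hp3 8 = true := by decide +kernel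

theorem chk_relPFI23Hp3_9 : chkRelP fi23H DFI23Hp3 pmFI23Hp3 9 = true := by decide +kernel

theorem chk_relPFI23Hp3_10 : chkRelP fi23H DFI23Hp3 pmFI23Hp3 10 = true := by decide +kernel

theorem chk_relPFI23Hp3_11 : chkRelP fi23H DFI23Hp3 pmFI23Hp3 11 = true := by decide +kernel

theorem chk_relPFI23Hp3_12 : chkRelP fi23H DFI23Hp3 pmFI23Hp3 12 = true := by decide +kernel

theorem chk_relPFI23Hp3_13 : chkRelP fi23H DFI23Hp3 pmFI23Hp3 13 = true := by decide +kernel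

theorem chk_relPFI23Hp3_14 : chkRelP fi23H DFI23Hp3 pmFI23Hp3 14 = true := by decide +kernel

theorem chk_relPFI23Hp3_15 : chkRelP fi23H DFI23Hp3 pmFI23Hp3 15 = true := by decide +kernel

theorem chk_relPFI23Hp3_16 : chkRelP fi23H DFI23Hp3 pmFI23Hp3 16 = true := by decide +kernel

theorem chk_relPFI23Hp3_17 : chkRelP fi23H DFI23Hp3 pmFI23Hp3 17 = true := by decide +kernel

theorem chk_relPFI23Hp3_18 : chkRelP fi23H DFI23Hp3 pmFI23Hp3 18 = true := by decide +kernel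

theorem chk_relPFI23Hp3_19 : chkRelP fi23H DFI23Hp3 pmFI23Hp3 19 = true := by decide +kernel

theorem chk_relPFI23Hp3_20 : chkRelP fi23H DFI23Hp3 pmFI23Hp3 20 = true := by decide +kernel

theorem chk_relPFI23Hp3_21 : chkRelP fi23H DFI23Hp3 pmFI23Hp3 21 = true := by decide +kernel

theorem chk_relPFI23Hp3_22 : chkRelP fi23H DFI23Hp3 pmFI23Hp3 22 = true := by decide +kernel

theorem chk_relPFI23Hp3_23 : chkRelP fi23H DFI23Hp3 pmFI23Hp3 23 = true := by decide +kernel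

theorem chk_relPFI23Hp3_24 : chkRelP fi23H DFI23Hp3 pmFI23Hp3 24 = true := by decide +kernel

theorem chk_relPFI23Hp3_25 : chkRelP fi23H DFI23Hp3 pmFI23Hp3 25 = true := by decide +kernel

theorem chk_relPFI23Hp3_26 : chkRelP fi23H DFI23Hp3 pmFI23Hp3 26 = true := by decide +kernel

theorem chk_relPFI23Hp3_27 : chkRelP fi23H DFI23Hp3 pmFI23Hp3 27 = true := by decide +kernel

theorem chk_relPFI23Hp3_28 : chkRelP fi23H DFI23Hp3 pmFI23Hp3 28 = true := by decide +kernel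

theorem chk_ordPFI23Hp3_0 : chkOrdP fi23H DFI23Hp3 pmFI23Hp3 0 = true := by decide +kernel

theorem chk_ordPFI23Hp3_1 : chkOrdP fi23H DFI23Hp3 pmFI23Hp3 1 = true := by decide +kernel

theorem chk_ordPFI23Hp3_2 : chkOrdP fi23H DFI23Hp3 pmFI23Hp3 2 = true := by decide +kernel

theorem chk_ordPFI23Hp3_3 : chkOrdP fi23H DFI23Hp3 pmFI23Hp3 3 = true := by decide +kernel

theorem chk_ordPFI23Hp3_4 : chkOrdP fi23H DFI23Hp3 pmFI23Hp3 4 = true := by decide +kernel

theorem chk_ordPFI23Hp3_5 : chkOrdP fi23H DFI23Hp3 pmFI23Hp3 5 = true := by decide +kernel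

theorem chk_ordPFI23Hp3_6 : chkOrdP fi23H DFI23Hp3 pmFI23Hp3 6 = true := by decide +kernel

theorem chk_ordPFI23Hp3_7 : chkOrdP fi23H DFI23Hp3 pmFI23Hp3 7 = true := by decide +kernel

theorem chk_ordPFI23Hp3_8 : chkOrdP fi23H DFI23Hp3 pmFI23Hp3 8 = true := by decide +kernel

theorem chk_ordPFI23Hp3_9 : chkOrdP fi23H DFI23Hp3 pmFI23Hp3 9 = true := by decide +kernel

theorem chk_lwPFI23Hp3_0 : chkLwP fi23H wsFI23Hp3 pmFI23Hp3 lwFI23Hp3 0 = true := by decide +kernel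

theorem chk_lwPFI23Hp3_1 : chkLwP fi23H wsFI23Hp3 pmFI23Hp3 lwFI23Hp3 1 = true := by decide +kernel

theorem chk_lwPFI23Hp3_2 : chkLwP fi23H wsFI23Hp3 pmFI23Hp3 lwFI23Hp3 2 = true := by decide +kernel

theorem chk_lwPFI23Hp3_3 : chkLwP fi23H wsFI23Hp3 pmFI23Hp3 lwFI23Hp3 3 = true := by decide +kernel

theorem chk_lwPFI23Hp3_4 : chkLwP fi23H wsFI23Hp3 pmFI23Hp3 lwFI23Hp3 4 = true := by decide +kernel

theorem chk_lwPFI23Hp3_5 : chkLwP fi23H wsFI23Hp3 pmFI23Hp3 lwFI23Hp3 5 = true := by decide +kernel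

theorem chk_lwPFI23Hp3_6 : chkLwP fi23H wsFI23Hp3 pmFI23Hp3 lwFI23Hp3 6 = true := by decide +kernel

theorem chk_lwPFI23Hp3_7 : chkLwP fi23H wsFI23Hp3 pmFI23Hp3 lwFI23Hp3 7 = true := by decide +kernel

theorem chk_lwPFI23Hp3_8 : chkLwP fi23H wsFI23Hp3 pmFI23Hp3 lwFI23Hp3 8 = true := by decide +kernel

theorem chk_lwPFI23Hp3_9 : chkLwP fi23H wsFI23Hp3 pmFI23Hp3 lwFI23Hp3 9 = true := by decide +kernel

theorem coreFI23Hp3 : CoreFacts fi23H DFI23Hp3 wsFI23Hp3 pmFI23Hp3 lwFI23Hp3 := by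
  apply coreFacts_of_chk
  · rfl
  · intro i hi
    have h' : i < 10 := hi
    interval_cases i
    · exact chk_tabFI23Hp3_0
    · exact chk_tabFI23Hp3_1
    · exact chk_tabFI23Hp3_2
    · exact chk_tabFI23Hp3_3
    · exact chk_tabFI23Hp3_4
    · exact chk_tabFI23Hp3_5
    · exact chk_tabFI23Hp3_6
    · exact chk_tabFI23Hp3_7
    · exact chk_tabFI23Hp3_8
    · exact chk_tabFI23Hp3_9
  · intro r hr
    have h' : r < 29 := hr
    interval_cases r
    · exact chk_relPFI23Hp3_0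
    · exact chk_relPFI23Hp3_1
    · exact chk_relPFI23Hp3_2
    · exact chk_relPFI23Hp3_3
    · exact chk_relPFI23Hp3_4
    · exact chk_relPFI23Hp3_5
    · exact chk_relPFI23Hp3_6
    · exact chk_relPFI23Hp3_7
    · exact chk_relPFI23Hp3_8
    · exact chk_relPFI23Hp3_9
    · exact chk_relPFI23Hp3_10
    · exact chk_relPFI23Hp3_11
    · exact chk_relPFI23Hp3_12
    · exact chk_relPFI23Hp3_13
    · exact chk_relPFI23Hp3_14
    · exact chk_relPFI23Hp3_15
    · exact chk_relPFI23Hp3_16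
    · exact chk_relPFI23Hp3_17
    · exact chk_relPFI23Hp3_18
    · exact chk_relPFI23Hp3_19
    · exact chk_relPFI23Hp3_20
    · exact chk_relPFI23Hp3_21
    · exact chk_relPFI23Hp3_22
    · exact chk_relPFI23Hp3_23
    · exact chk_relPFI23Hp3_24
    · exact chk_relPFI23Hp3_25
    · exact chk_relPFI23Hp3_26
    · exact chk_relPFI23Hp3_27
    · exact chk_relPFI23Hp3_28
  · intro i hi
    have h' : i < 10 := hi
    interval_cases i
    · exact chk_ordPFI23Hp3_0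
    · exact chk_ordPFI23Hp3_1
    · exact chk_ordPFI23Hp3_2
    · exact chk_ordPFI23Hp3_3
    · exact chk_ordPFI23Hp3_4
    · exact chk_ordPFI23Hp3_5
    · exact chk_ordPFI23Hp3_6
    · exact chk_ordPFI23Hp3_7
    · exact chk_ordPFI23Hp3_8
    · exact chk_ordPFI23Hp3_9
  · intro c hc
    have h' : c < 10 := hc
    interval_cases c
    · exact chk_lwPFI23Hp3_0
    · exact chk_lwPFI23Hp3_1
    · exact chk_lwPFI23Hp3_2
    · exact chk_lwPFI23Hp3_3
    · exact chk_lwPFI23Hp3_4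
    · exact chk_lwPFI23Hp3_5
    · exact chk_lwPFI23Hp3_6
    · exact chk_lwPFI23Hp3_7
    · exact chk_lwPFI23Hp3_8
    · exact chk_lwPFI23Hp3_9

end Cfsg.Agent.Lib.Helper6.MultD
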