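import Cfsg.Agent.Lib.Helper6.Mult.PM7
import Cfsg.Agent.Lib.Helper6.MultD.FI23HML
import Cfsg.Agent.Lib.Helper6.MultD.FI23Hp3D

set_option autoImplicit false
set_option maxRecDepth 100000

/-! The subgroup `O8+(3):S3` of the presented group `Fi23` on 3 sets, data FI23Hp3: the checks of the action on the sets. -/

namespace Cfsg.Agent.Lib.Helper6.MultD

open Cfsg.Agent.Lib.Helper6.PM Cfsg.Agent.Lib.Helper6.Fi23M Cfsg.Agent.Lib.Helper1

theorem chk_setsFI23Hp3_0 : chkSetsB fi23H pmFI23Hp3 masksFI23Hp3 DFI23Hp3.m DFI23Hp3.pi 0 = true := by decide +kernel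

theorem chk_setsFI23Hp3_1 : chkSetsB fi23H pmFI23Hp3 masksFI23Hp3 DFI23Hp3.m DFI23Hp3.pi 1 = true := by decide +kernel

theorem chk_setsFI23Hp3_2 : chkSetsB fi23H pmFI23Hp3 masksFI23Hp3 DFI23Hp3.m DFI23Hp3.pi 2 = true := by decide +kernel

theorem chk_setsFI23Hp3_3 : chkSetsB fi23H pmFI23Hp3 masksFI23Hp3 DFI23Hp3.m DFI23Hp3.pi 3 = true := by decide +kernel

theorem chk_setsFI23Hp3_4 : chkSetsB fi23H pmFI23Hp3 masksFI23Hp3 DFI23Hp3.m DFI23Hp3.pi 4 = true := by decide +kernel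

theorem chk_setsFI23Hp3_5 : chkSetsB fi23H pmFI23Hp3 masksFI23Hp3 DFI23Hp3.m DFI23Hp3.pi 5 = true := by decide +kernel

theorem chk_setsFI23Hp3_6 : chkSetsB fi23H pmFI23Hp3 masksFI23Hp3 DFI23Hp3.m DFI23Hp3.pi 6 = true := by decide +kernel

theorem chk_setsFI23Hp3_7 : chkSetsB fi23H pmFI23Hp3 masksFI23Hp3 DFI23Hp3.m DFI23Hp3.pi 7 = true := by decide +kernel

theorem chk_setsFI23Hp3_8 : chkSetsB fi23H pmFI23Hp3 masksFI23Hp3 DFI23Hp3.m DFI23Hp3.pi 8 = true := by decide +kernel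

theorem chk_setsFI23Hp3_9 : chkSetsB fi23H pmFI23Hp3 masksFI23Hp3 DFI23Hp3.m DFI23Hp3.pi 9 = true := by decide +kernel

theorem chk_setsFI23Hp3 : ∀ i < wsFI23Hp3.length, chkSets fi23H pmFI23Hp3 masksFI23Hp3 DFI23Hp3.m DFI23Hp3.pi i = true := by
  intro i hi
  apply chkSets_of_B
  have h' : i < 10 := hi
  interval_cases i
  · exact chk_setsFI23Hp3_0
  · exact chk_setsFI23Hp3_1
  · exact chk_setsFI23Hp3_2
  · exact chk_setsFI23Hp3_3
  · exact chk_setsFI23Hp3_4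
  · exact chk_setsFI23Hp3_5
  · exact chk_setsFI23Hp3_6
  · exact chk_setsFI23Hp3_7
  · exact chk_setsFI23Hp3_8
  · exact chk_setsFI23Hp3_9

theorem chk_distinctFI23Hp3 : chkDistinct fi23H masksFI23Hp3 DFI23Hp3.m = true := by decide +kernel

end Cfsg.Agent.Lib.Helper6.MultD
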