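import Cfsg.Agent.Lib.Helper6.MultD.FI23XD

set_option autoImplicit false
set_option maxRecDepth 100000
set_option Elab.async false

/-! The subgroup `O8+(3):S3` of the presented group `Fi23`: miscellaneous checks (part 0) -/

namespace Cfsg.Agent.Lib.Helper6.MultD

open Cfsg.Agent.Lib.Helper6.PM Cfsg.Agent.Lib.Helper6.Fi23M Cfsg.Agent.Lib.Helper1 Cfsg.Agent.Lib.Helper6.TC Cfsg.Agent.Lib.Helper6.TCD

theorem chk_longA23_c0 : allBR (fLongA23) 0 31671 = true := by decide +kernel

theorem chk_longB23_c0 : allBR (fLongB23) 0 25000 = true := by decide +kernel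

theorem chk_longB23_c1 : allBR (fLongB23) 25000 6671 = true := by decide +kernel

theorem chk_fixT23_0_c0 : allBR (fFix23 0) 0 31671 = true := by decide +kernel

theorem chk_fixT23_1_c0 : allBR (fFix23 1) 0 31671 = true := by decide +kernel

theorem chk_fixT23_2_c0 : allBR (fFix23 2) 0 31671 = true := by decide +kernel

theorem chk_fixT23_3_c0 : allBR (fFix23 3) 0 31671 = true := by decide +kernel

theorem chk_fixT23_4_c0 : allBR (fFix23 4) 0 31671 = true := by decide +kernel

theorem chk_fixT23_5_c0 : allBR (fFix23 5) 0 31671 = true := by decide +kernel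

theorem chk_fixT23_6_c0 : allBR (fFix23 6) 0 31671 = true := by decide +kernel

theorem chk_fixT23_7_c0 : allBR (fFix23 7) 0 31671 = true := by decide +kernel

theorem chk_fixT23_8_c0 : allBR (fFix23 8) 0 31671 = true := by decide +kernel

theorem chk_sch23_0_0_c0 : allBR (fSch23 0 0) 0 31671 = true := by decide +kernel

theorem chk_sch23_0_1_c0 : allBR (fSch23 0 1) 0 31671 = true := by decide +kernel

theorem chk_sch23_0_2_c0 : allBR (fSch23 0 2) 0 31671 = true := by decide +kernel

theorem chk_sch23_0_3_c0 : allBR (fSch23 0 3) 0 31671 = true := by decide +kernel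

theorem chk_sch23_0_4_c0 : allBR (fSch23 0 4) 0 31671 = true := by decide +kernel

theorem chk_sch23_0_5_c0 : allBR (fSch23 0 5) 0 31671 = true := by decide +kernel

theorem chk_sch23_0_6_c0 : allBR (fSch23 0 6) 0 31671 = true := by decide +kernel

theorem chk_sch23_0_7_c0 : allBR (fSch23 0 7) 0 31671 = true := by decide +kernel

theorem chk_sch23_0_8_c0 : allBR (fSch23 0 8) 0 31671 = true := by decide +kernel

theorem chk_sch23_0_9_c0 : allBR (fSch23 0 9) 0 31671 = true := by decide +kernel

theorem chk_sch23_1_0_c0 : allBR (fSch23 1 0) 0 4166 = true := by decide +kernel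

theorem chk_sch23_1_0_c1 : allBR (fSch23 1 0) 4166 4166 = true := by decide +kernel

theorem chk_sch23_1_0_c2 : allBR (fSch23 1 0) 8332 4166 = true := by decide +kernel

theorem chk_sch23_1_0_c3 : allBR (fSch23 1 0) 12498 4166 = true := by decide +kernel

theorem chk_sch23_1_0_c4 : allBR (fSch23 1 0) 16664 4166 = true := by decide +kernel

theorem chk_sch23_1_0_c5 : allBR (fSch23 1 0) 20830 4166 = true := by decide +kernel

end Cfsg.Agent.Lib.Helper6.MultD
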