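import Cfsg.Agent.Lib.Helper6.MultD.FI23XD

set_option autoImplicit false
set_option maxRecDepth 100000
set_option Elab.async false

/-! The subgroup `O8+(3):S3` of the presented group `Fi23`: miscellaneous checks (part 1) -/

namespace Cfsg.Agent.Lib.Helper6.MultD

open Cfsg.Agent.Lib.Helper6.PM Cfsg.Agent.Lib.Helper6.Fi23M Cfsg.Agent.Lib.Helper1 Cfsg.Agent.Lib.Helper6.TC Cfsg.Agent.Lib.Helper6.TCD

theorem chk_sch23_1_0_c6 : allBR (fSch23 1 0) 24996 4166 = true := by decide +kernel

theorem chk_sch23_1_0_c7 : allBR (fSch23 1 0) 29162 2509 = true := by decide +kernel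

theorem chk_sch23_1_1_c0 : allBR (fSch23 1 1) 0 3333 = true := by decide +kernel

theorem chk_sch23_1_1_c1 : allBR (fSch23 1 1) 3333 3333 = true := by decide +kernel

theorem chk_sch23_1_1_c2 : allBR (fSch23 1 1) 6666 3333 = true := by decide +kernel

theorem chk_sch23_1_1_c3 : allBR (fSch23 1 1) 9999 3333 = true := by decide +kernel

theorem chk_sch23_1_1_c4 : allBR (fSch23 1 1) 13332 3333 = true := by decide +kernel

theorem chk_sch23_1_1_c5 : allBR (fSch23 1 1) 16665 3333 = true := by decide +kernel

theorem chk_sch23_1_1_c6 : allBR (fSch23 1 1) 19998 3333 = true := by decide +kernel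

theorem chk_sch23_1_1_c7 : allBR (fSch23 1 1) 23331 3333 = true := by decide +kernel

theorem chk_sch23_1_1_c8 : allBR (fSch23 1 1) 26664 3333 = true := by decide +kernel

theorem chk_sch23_1_1_c9 : allBR (fSch23 1 1) 29997 1674 = true := by decide +kernel

theorem chk_sch23_1_2_c0 : allBR (fSch23 1 2) 0 3846 = true := by decide +kernel

theorem chk_sch23_1_2_c1 : allBR (fSch23 1 2) 3846 3846 = true := by decide +kernel

theorem chk_sch23_1_2_c2 : allBR (fSch23 1 2) 7692 3846 = true := by decide +kernel

end Cfsg.Agent.Lib.Helper6.MultD
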