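import Cfsg.Agent.Lib.Helper6.MultD.FI23XD

set_option autoImplicit false
set_option maxRecDepth 100000
set_option Elab.async false

/-! The subgroup `O8+(3):S3` of the presented group `Fi23`: miscellaneous checks (part 2) -/

namespace Cfsg.Agent.Lib.Helper6.MultD

open Cfsg.Agent.Lib.Helper6.PM Cfsg.Agent.Lib.Helper6.Fi23M Cfsg.Agent.Lib.Helper1 Cfsg.Agent.Lib.Helper6.TC Cfsg.Agent.Lib.Helper6.TCD

theorem chk_sch23_1_2_c3 : allBR (fSch23 1 2) 11538 3846 = true := by decide +kernel

theorem chk_sch23_1_2_c4 : allBR (fSch23 1 2) 15384 3846 = true := by decide +kernel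

theorem chk_sch23_1_2_c5 : allBR (fSch23 1 2) 19230 3846 = true := by decide +kernel

theorem chk_sch23_1_2_c6 : allBR (fSch23 1 2) 23076 3846 = true := by decide +kernel

theorem chk_sch23_1_2_c7 : allBR (fSch23 1 2) 26922 3846 = true := by decide +kernel

theorem chk_sch23_1_2_c8 : allBR (fSch23 1 2) 30768 903 = true := by decide +kernel

theorem chk_sch23_1_3_c0 : allBR (fSch23 1 3) 0 3750 = true := by decide +kernel

theorem chk_sch23_1_3_c1 : allBR (fSch23 1 3) 3750 3750 = true := by decide +kernel

theorem chk_sch23_1_3_c2 : allBR (fSch23 1 3) 7500 3750 = true := by decide +kernel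

theorem chk_sch23_1_3_c3 : allBR (fSch23 1 3) 11250 3750 = true := by decide +kernel

theorem chk_sch23_1_3_c4 : allBR (fSch23 1 3) 15000 3750 = true := by decide +kernel

theorem chk_sch23_1_3_c5 : allBR (fSch23 1 3) 18750 3750 = true := by decide +kernel

theorem chk_sch23_1_3_c6 : allBR (fSch23 1 3) 22500 3750 = true := by decide +kernel

theorem chk_sch23_1_3_c7 : allBR (fSch23 1 3) 26250 3750 = true := by decide +kernel

theorem chk_sch23_1_3_c8 : allBR (fSch23 1 3) 30000 1671 = true := by decide +kernel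

end Cfsg.Agent.Lib.Helper6.MultD
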