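import Cfsg.Agent.Lib.Helper6.MultD.FI23XD

set_option autoImplicit false
set_option maxRecDepth 100000
set_option Elab.async false

/-! The subgroup `O8+(3):S3` of the presented group `Fi23`: miscellaneous checks (part 3) -/

namespace Cfsg.Agent.Lib.Helper6.MultD

open Cfsg.Agent.Lib.Helper6.PM Cfsg.Agent.Lib.Helper6.Fi23M Cfsg.Agent.Lib.Helper1 Cfsg.Agent.Lib.Helper6.TC Cfsg.Agent.Lib.Helper6.TCD

theorem chk_sch23_1_4_c0 : allBR (fSch23 1 4) 0 4545 = true := by decide +kernel

theorem chk_sch23_1_4_c1 : allBR (fSch23 1 4) 4545 4545 = true := by decide +kernel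

theorem chk_sch23_1_4_c2 : allBR (fSch23 1 4) 9090 4545 = true := by decide +kernel

theorem chk_sch23_1_4_c3 : allBR (fSch23 1 4) 13635 4545 = true := by decide +kernel

theorem chk_sch23_1_4_c4 : allBR (fSch23 1 4) 18180 4545 = true := by decide +kernel

theorem chk_sch23_1_4_c5 : allBR (fSch23 1 4) 22725 4545 = true := by decide +kernel

theorem chk_sch23_1_4_c6 : allBR (fSch23 1 4) 27270 4401 = true := by decide +kernel

theorem chk_sch23_1_5_c0 : allBR (fSch23 1 5) 0 31671 = true := by decide +kernel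

theorem chk_sch23_1_6_c0 : allBR (fSch23 1 6) 0 3333 = true := by decide +kernel

theorem chk_sch23_1_6_c1 : allBR (fSch23 1 6) 3333 3333 = true := by decide +kernel

theorem chk_sch23_1_6_c2 : allBR (fSch23 1 6) 6666 3333 = true := by decide +kernel

theorem chk_sch23_1_6_c3 : allBR (fSch23 1 6) 9999 3333 = true := by decide +kernel

theorem chk_sch23_1_6_c4 : allBR (fSch23 1 6) 13332 3333 = true := by decide +kernel

theorem chk_sch23_1_6_c5 : allBR (fSch23 1 6) 16665 3333 = true := by decide +kernel

end Cfsg.Agent.Lib.Helper6.MultD
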