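import Cfsg.Agent.Lib.Helper6.MultD.FI23XD

set_option autoImplicit false
set_option maxRecDepth 100000
set_option Elab.async false

/-! The subgroup `O8+(3):S3` of the presented group `Fi23`: miscellaneous checks (part 5) -/

namespace Cfsg.Agent.Lib.Helper6.MultD

open Cfsg.Agent.Lib.Helper6.PM Cfsg.Agent.Lib.Helper6.Fi23M Cfsg.Agent.Lib.Helper1 Cfsg.Agent.Lib.Helper6.TC Cfsg.Agent.Lib.Helper6.TCD

theorem chk_sch23_1_8_c1 : allBR (fSch23 1 8) 3846 3846 = true := by decide +kernel

theorem chk_sch23_1_8_c2 : allBR (fSch23 1 8) 7692 3846 = true := by decide +kernel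

theorem chk_sch23_1_8_c3 : allBR (fSch23 1 8) 11538 3846 = true := by decide +kernel

theorem chk_sch23_1_8_c4 : allBR (fSch23 1 8) 15384 3846 = true := by decide +kernel

theorem chk_sch23_1_8_c5 : allBR (fSch23 1 8) 19230 3846 = true := by decide +kernel

theorem chk_sch23_1_8_c6 : allBR (fSch23 1 8) 23076 3846 = true := by decide +kernel

theorem chk_sch23_1_8_c7 : allBR (fSch23 1 8) 26922 3846 = true := by decide +kernel

theorem chk_sch23_1_8_c8 : allBR (fSch23 1 8) 30768 903 = true := by decide +kernel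

theorem chk_sch23_1_9_c0 : allBR (fSch23 1 9) 0 31671 = true := by decide +kernel

theorem chk_sch23_2_5_c0 : allBR (fSch23 2 5) 0 31671 = true := by decide +kernel

theorem chk_sch23_2_9_c0 : allBR (fSch23 2 9) 0 25000 = true := by decide +kernel

theorem chk_sch23_2_9_c1 : allBR (fSch23 2 9) 25000 6671 = true := by decide +kernel

end Cfsg.Agent.Lib.Helper6.MultD
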