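import Cfsg.Agent.Lib.Helper6.MultD.FI23XD
import Cfsg.Agent.Lib.Helper6.MultD.FI23X_0
import Cfsg.Agent.Lib.Helper6.MultD.FI23X_1
import Cfsg.Agent.Lib.Helper6.MultD.FI23X_2
import Cfsg.Agent.Lib.Helper6.MultD.FI23X_3
import Cfsg.Agent.Lib.Helper6.MultD.FI23X_4
import Cfsg.Agent.Lib.Helper6.MultD.FI23X_5

set_option autoImplicit false
set_option maxRecDepth 100000
set_option Elab.async false

/-! The subgroup `O8+(3):S3` of the presented group `Fi23`: miscellaneous checks. -/

namespace Cfsg.Agent.Lib.Helper6.MultD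

open Cfsg.Agent.Lib.Helper6.PM Cfsg.Agent.Lib.Helper6.Fi23M Cfsg.Agent.Lib.Helper1 Cfsg.Agent.Lib.Helper6.TC Cfsg.Agent.Lib.Helper6.TCD

/-- the images of the 45 first relators of the presented group `Y422` are rotations of relators of the
presented group `Fi23` -/
theorem chk_rot23 : ((TCP.Y422.base.take 45).all fun b => TCP.Fi23.base.any fun b' =>
    (List.range 6).any fun i => b.flatMap cw23 == b'.rotate i) = true := by decide +kernel

/-- the two last relators, in the auxiliary elements -/
theorem chk_long23 : TCP.Y422.base.drop 45 =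
    [expand wsFI23Q [6, 15, 7, 15], expand wsFI23Q [16, 6, 16, 6, 16, 6]] := by decide +kernel

theorem chk_longA23_cuts : chkCuts 31671 [(0, 31671)] = true := by decide +kernel

theorem chk_longA23 : ∀ q < 31671, (fLongA23) q = true := by
  apply forall_of_allBR _ _ _ chk_longA23_cuts
  intro c hc
  simp only [List.mem_cons, List.mem_nil_iff, or_false] at hc
  rw [hc]
  exact chk_longA23_c0

theorem chk_longB23_cuts : chkCuts 31671 [(0, 25000), (25000, 6671)] = true := by decide +kernel

theorem chk_longB23 : ∀ q < 31671, (fLongB23) q = true := by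
  apply forall_of_allBR _ _ _ chk_longB23_cuts
  intro c hc
  simp only [List.mem_cons, List.mem_nil_iff, or_false] at hc
  rcases hc with rfl | rfl
  · exact chk_longB23_c0
  · exact chk_longB23_c1

theorem chk_beta23 : ((List.range 9).all fun c => (List.range 1080).all fun q =>
    beta23 (Y422a.px c q) == wappS Fi23a.px (cw23 c) (beta23 q)) = true := by decide +kernel

theorem chk_binv23 : ((List.range 1080).all fun q =>
    binv23 (beta23 q) == q && decide (beta23 q < 31671)) = true := by decide +kernel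

theorem chk_fixT23_0_cuts : chkCuts 31671 [(0, 31671)] = true := by decide +kernel

theorem chk_fixT23_0 : ∀ q < 31671, (fFix23 0) q = true := by
  apply forall_of_allBR _ _ _ chk_fixT23_0_cuts
  intro c hc
  simp only [List.mem_cons, List.mem_nil_iff, or_false] at hc
  rw [hc]
  exact chk_fixT23_0_c0

theorem chk_fixT23_1_cuts : chkCuts 31671 [(0, 31671)] = true := by decide +kernel

theorem chk_fixT23_1 : ∀ q < 31671, (fFix23 1) q = true := by
  apply forall_of_allBR _ _ _ chk_fixT23_1_cuts
  intro c hc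
  simp only [List.mem_cons, List.mem_nil_iff, or_false] at hc
  rw [hc]
  exact chk_fixT23_1_c0

theorem chk_fixT23_2_cuts : chkCuts 31671 [(0, 31671)] = true := by decide +kernel

theorem chk_fixT23_2 : ∀ q < 31671, (fFix23 2) q = true := by
  apply forall_of_allBR _ _ _ chk_fixT23_2_cuts
  intro c hc
  simp only [List.mem_cons, List.mem_nil_iff, or_false] at hc
  rw [hc]
  exact chk_fixT23_2_c0

theorem chk_fixT23_3_cuts : chkCuts 31671 [(0, 31671)] = true := by decide +kernel

theorem chk_fixT23_3 : ∀ q < 31671, (fFix23 3) q = true := by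
  apply forall_of_allBR _ _ _ chk_fixT23_3_cuts
  intro c hc
  simp only [List.mem_cons, List.mem_nil_iff, or_false] at hc
  rw [hc]
  exact chk_fixT23_3_c0

theorem chk_fixT23_4_cuts : chkCuts 31671 [(0, 31671)] = true := by decide +kernel

theorem chk_fixT23_4 : ∀ q < 31671, (fFix23 4) q = true := by
  apply forall_of_allBR _ _ _ chk_fixT23_4_cuts
  intro c hc
  simp only [List.mem_cons, List.mem_nil_iff, or_false] at hc
  rw [hc]
  exact chk_fixT23_4_c0

theorem chk_fixT23_5_cuts : chkCuts 31671 [(0, 31671)] = true := by decide +kernel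

theorem chk_fixT23_5 : ∀ q < 31671, (fFix23 5) q = true := by
  apply forall_of_allBR _ _ _ chk_fixT23_5_cuts
  intro c hc
  simp only [List.mem_cons, List.mem_nil_iff, or_false] at hc
  rw [hc]
  exact chk_fixT23_5_c0

theorem chk_fixT23_6_cuts : chkCuts 31671 [(0, 31671)] = true := by decide +kernel

theorem chk_fixT23_6 : ∀ q < 31671, (fFix23 6) q = true := by
  apply forall_of_allBR _ _ _ chk_fixT23_6_cuts
  intro c hc
  simp only [List.mem_cons, List.mem_nil_iff, or_false] at hc
  rw [hc]
  exact chk_fixT23_6_c0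

theorem chk_fixT23_7_cuts : chkCuts 31671 [(0, 31671)] = true := by decide +kernel

theorem chk_fixT23_7 : ∀ q < 31671, (fFix23 7) q = true := by
  apply forall_of_allBR _ _ _ chk_fixT23_7_cuts
  intro c hc
  simp only [List.mem_cons, List.mem_nil_iff, or_false] at hc
  rw [hc]
  exact chk_fixT23_7_c0

theorem chk_fixT23_8_cuts : chkCuts 31671 [(0, 31671)] = true := by decide +kernel

theorem chk_fixT23_8 : ∀ q < 31671, (fFix23 8) q = true := by
  apply forall_of_allBR _ _ _ chk_fixT23_8_cuts
  intro c hc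
  simp only [List.mem_cons, List.mem_nil_iff, or_false] at hc
  rw [hc]
  exact chk_fixT23_8_c0

theorem chk_sch23_0_0_cuts : chkCuts 31671 [(0, 31671)] = true := by decide +kernel

theorem chk_sch23_0_0 : ∀ q < 31671, (fSch23 0 0) q = true := by
  apply forall_of_allBR _ _ _ chk_sch23_0_0_cuts
  intro c hc
  simp only [List.mem_cons, List.mem_nil_iff, or_false] at hc
  rw [hc]
  exact chk_sch23_0_0_c0

theorem chk_sch23_0_1_cuts : chkCuts 31671 [(0, 31671)] = true := by decide +kernel

theorem chk_sch23_0_1 : ∀ q < 31671, (fSch23 0 1) q = true := by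
  apply forall_of_allBR _ _ _ chk_sch23_0_1_cuts
  intro c hc
  simp only [List.mem_cons, List.mem_nil_iff, or_false] at hc
  rw [hc]
  exact chk_sch23_0_1_c0

theorem chk_sch23_0_2_cuts : chkCuts 31671 [(0, 31671)] = true := by decide +kernel

theorem chk_sch23_0_2 : ∀ q < 31671, (fSch23 0 2) q = true := by
  apply forall_of_allBR _ _ _ chk_sch23_0_2_cuts
  intro c hc
  simp only [List.mem_cons, List.mem_nil_iff, or_false] at hc
  rw [hc]
  exact chk_sch23_0_2_c0

theorem chk_sch23_0_3_cuts : chkCuts 31671 [(0, 31671)] = true := by decide +kernel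

theorem chk_sch23_0_3 : ∀ q < 31671, (fSch23 0 3) q = true := by
  apply forall_of_allBR _ _ _ chk_sch23_0_3_cuts
  intro c hc
  simp only [List.mem_cons, List.mem_nil_iff, or_false] at hc
  rw [hc]
  exact chk_sch23_0_3_c0

theorem chk_sch23_0_4_cuts : chkCuts 31671 [(0, 31671)] = true := by decide +kernel

theorem chk_sch23_0_4 : ∀ q < 31671, (fSch23 0 4) q = true := by
  apply forall_of_allBR _ _ _ chk_sch23_0_4_cuts
  intro c hc
  simp only [List.mem_cons, List.mem_nil_iff, or_false] at hc
  rw [hc]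
  exact chk_sch23_0_4_c0

theorem chk_sch23_0_5_cuts : chkCuts 31671 [(0, 31671)] = true := by decide +kernel

theorem chk_sch23_0_5 : ∀ q < 31671, (fSch23 0 5) q = true := by
  apply forall_of_allBR _ _ _ chk_sch23_0_5_cuts
  intro c hc
  simp only [List.mem_cons, List.mem_nil_iff, or_false] at hc
  rw [hc]
  exact chk_sch23_0_5_c0

theorem chk_sch23_0_6_cuts : chkCuts 31671 [(0, 31671)] = true := by decide +kernel

theorem chk_sch23_0_6 : ∀ q < 31671, (fSch23 0 6) q = true := by
  apply forall_of_allBR _ _ _ chk_sch23_0_6_cuts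
  intro c hc
  simp only [List.mem_cons, List.mem_nil_iff, or_false] at hc
  rw [hc]
  exact chk_sch23_0_6_c0

theorem chk_sch23_0_7_cuts : chkCuts 31671 [(0, 31671)] = true := by decide +kernel

theorem chk_sch23_0_7 : ∀ q < 31671, (fSch23 0 7) q = true := by
  apply forall_of_allBR _ _ _ chk_sch23_0_7_cuts
  intro c hc
  simp only [List.mem_cons, List.mem_nil_iff, or_false] at hc
  rw [hc]
  exact chk_sch23_0_7_c0

theorem chk_sch23_0_8_cuts : chkCuts 31671 [(0, 31671)] = true := by decide +kernel

theorem chk_sch23_0_8 : ∀ q < 31671, (fSch23 0 8) q = true := by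
  apply forall_of_allBR _ _ _ chk_sch23_0_8_cuts
  intro c hc
  simp only [List.mem_cons, List.mem_nil_iff, or_false] at hc
  rw [hc]
  exact chk_sch23_0_8_c0

theorem chk_sch23_0_9_cuts : chkCuts 31671 [(0, 31671)] = true := by decide +kernel

theorem chk_sch23_0_9 : ∀ q < 31671, (fSch23 0 9) q = true := by
  apply forall_of_allBR _ _ _ chk_sch23_0_9_cuts
  intro c hc
  simp only [List.mem_cons, List.mem_nil_iff, or_false] at hc
  rw [hc]
  exact chk_sch23_0_9_c0

theorem chk_sch23_1_0_cuts : chkCuts 31671 [(0, 4166), (4166, 4166), (8332, 4166), (12498, 4166), (16664, 4166), (20830, 4166), (24996, 4166), (29162, 2509)] = true := by decide +kernel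

theorem chk_sch23_1_0 : ∀ q < 31671, (fSch23 1 0) q = true := by
  apply forall_of_allBR _ _ _ chk_sch23_1_0_cuts
  intro c hc
  simp only [List.mem_cons, List.mem_nil_iff, or_false] at hc
  rcases hc with rfl | rfl | rfl | rfl | rfl | rfl | rfl | rfl
  · exact chk_sch23_1_0_c0
  · exact chk_sch23_1_0_c1
  · exact chk_sch23_1_0_c2
  · exact chk_sch23_1_0_c3
  · exact chk_sch23_1_0_c4
  · exact chk_sch23_1_0_c5
  · exact chk_sch23_1_0_c6
  · exact chk_sch23_1_0_c7

theorem chk_sch23_1_1_cuts : chkCuts 31671 [(0, 3333), (3333, 3333), (6666, 3333), (9999, 3333), (13332, 3333), (16665, 3333), (19998, 3333), (23331, 3333), (26664, 3333), (29997, 1674)] = true := by decide +kernel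

theorem chk_sch23_1_1 : ∀ q < 31671, (fSch23 1 1) q = true := by
  apply forall_of_allBR _ _ _ chk_sch23_1_1_cuts
  intro c hc
  simp only [List.mem_cons, List.mem_nil_iff, or_false] at hc
  rcases hc with rfl | rfl | rfl | rfl | rfl | rfl | rfl | rfl | rfl | rfl
  · exact chk_sch23_1_1_c0
  · exact chk_sch23_1_1_c1
  · exact chk_sch23_1_1_c2
  · exact chk_sch23_1_1_c3
  · exact chk_sch23_1_1_c4
  · exact chk_sch23_1_1_c5
  · exact chk_sch23_1_1_c6
  · exact chk_sch23_1_1_c7
  · exact chk_sch23_1_1_c8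
  · exact chk_sch23_1_1_c9

theorem chk_sch23_1_2_cuts : chkCuts 31671 [(0, 3846), (3846, 3846), (7692, 3846), (11538, 3846), (15384, 3846), (19230, 3846), (23076, 3846), (26922, 3846), (30768, 903)] = true := by decide +kernel

theorem chk_sch23_1_2 : ∀ q < 31671, (fSch23 1 2) q = true := by
  apply forall_of_allBR _ _ _ chk_sch23_1_2_cuts
  intro c hc
  simp only [List.mem_cons, List.mem_nil_iff, or_false] at hc
  rcases hc with rfl | rfl | rfl | rfl | rfl | rfl | rfl | rfl | rfl
  · exact chk_sch23_1_2_c0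
  · exact chk_sch23_1_2_c1
  · exact chk_sch23_1_2_c2
  · exact chk_sch23_1_2_c3
  · exact chk_sch23_1_2_c4
  · exact chk_sch23_1_2_c5
  · exact chk_sch23_1_2_c6
  · exact chk_sch23_1_2_c7
  · exact chk_sch23_1_2_c8

theorem chk_sch23_1_3_cuts : chkCuts 31671 [(0, 3750), (3750, 3750), (7500, 3750), (11250, 3750), (15000, 3750), (18750, 3750), (22500, 3750), (26250, 3750), (30000, 1671)] = true := by decide +kernel

theorem chk_sch23_1_3 : ∀ q < 31671, (fSch23 1 3) q = true := by
  apply forall_of_allBR _ _ _ chk_sch23_1_3_cuts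
  intro c hc
  simp only [List.mem_cons, List.mem_nil_iff, or_false] at hc
  rcases hc with rfl | rfl | rfl | rfl | rfl | rfl | rfl | rfl | rfl
  · exact chk_sch23_1_3_c0
  · exact chk_sch23_1_3_c1
  · exact chk_sch23_1_3_c2
  · exact chk_sch23_1_3_c3
  · exact chk_sch23_1_3_c4
  · exact chk_sch23_1_3_c5
  · exact chk_sch23_1_3_c6
  · exact chk_sch23_1_3_c7
  · exact chk_sch23_1_3_c8

theorem chk_sch23_1_4_cuts : chkCuts 31671 [(0, 4545), (4545, 4545), (9090, 4545), (13635, 4545), (18180, 4545), (22725, 4545), (27270, 4401)] = true := by decide +kernel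

theorem chk_sch23_1_4 : ∀ q < 31671, (fSch23 1 4) q = true := by
  apply forall_of_allBR _ _ _ chk_sch23_1_4_cuts
  intro c hc
  simp only [List.mem_cons, List.mem_nil_iff, or_false] at hc
  rcases hc with rfl | rfl | rfl | rfl | rfl | rfl | rfl
  · exact chk_sch23_1_4_c0
  · exact chk_sch23_1_4_c1
  · exact chk_sch23_1_4_c2
  · exact chk_sch23_1_4_c3
  · exact chk_sch23_1_4_c4
  · exact chk_sch23_1_4_c5
  · exact chk_sch23_1_4_c6

theorem chk_sch23_1_5_cuts : chkCuts 31671 [(0, 31671)] = true := by decide +kernel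

theorem chk_sch23_1_5 : ∀ q < 31671, (fSch23 1 5) q = true := by
  apply forall_of_allBR _ _ _ chk_sch23_1_5_cuts
  intro c hc
  simp only [List.mem_cons, List.mem_nil_iff, or_false] at hc
  rw [hc]
  exact chk_sch23_1_5_c0

theorem chk_sch23_1_6_cuts : chkCuts 31671 [(0, 3333), (3333, 3333), (6666, 3333), (9999, 3333), (13332, 3333), (16665, 3333), (19998, 3333), (23331, 3333), (26664, 3333), (29997, 1674)] = true := by decide +kernel

theorem chk_sch23_1_6 : ∀ q < 31671, (fSch23 1 6) q = true := by
  apply forall_of_allBR _ _ _ chk_sch23_1_6_cuts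
  intro c hc
  simp only [List.mem_cons, List.mem_nil_iff, or_false] at hc
  rcases hc with rfl | rfl | rfl | rfl | rfl | rfl | rfl | rfl | rfl | rfl
  · exact chk_sch23_1_6_c0
  · exact chk_sch23_1_6_c1
  · exact chk_sch23_1_6_c2
  · exact chk_sch23_1_6_c3
  · exact chk_sch23_1_6_c4
  · exact chk_sch23_1_6_c5
  · exact chk_sch23_1_6_c6
  · exact chk_sch23_1_6_c7
  · exact chk_sch23_1_6_c8
  · exact chk_sch23_1_6_c9

theorem chk_sch23_1_7_cuts : chkCuts 31671 [(0, 3333), (3333, 3333), (6666, 3333), (9999, 3333), (13332, 3333), (16665, 3333), (19998, 3333), (23331, 3333), (26664, 3333), (29997, 1674)] = true := by decide +kernel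

theorem chk_sch23_1_7 : ∀ q < 31671, (fSch23 1 7) q = true := by
  apply forall_of_allBR _ _ _ chk_sch23_1_7_cuts
  intro c hc
  simp only [List.mem_cons, List.mem_nil_iff, or_false] at hc
  rcases hc with rfl | rfl | rfl | rfl | rfl | rfl | rfl | rfl | rfl | rfl
  · exact chk_sch23_1_7_c0
  · exact chk_sch23_1_7_c1
  · exact chk_sch23_1_7_c2
  · exact chk_sch23_1_7_c3
  · exact chk_sch23_1_7_c4
  · exact chk_sch23_1_7_c5
  · exact chk_sch23_1_7_c6
  · exact chk_sch23_1_7_c7
  · exact chk_sch23_1_7_c8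
  · exact chk_sch23_1_7_c9

theorem chk_sch23_1_8_cuts : chkCuts 31671 [(0, 3846), (3846, 3846), (7692, 3846), (11538, 3846), (15384, 3846), (19230, 3846), (23076, 3846), (26922, 3846), (30768, 903)] = true := by decide +kernel

theorem chk_sch23_1_8 : ∀ q < 31671, (fSch23 1 8) q = true := by
  apply forall_of_allBR _ _ _ chk_sch23_1_8_cuts
  intro c hc
  simp only [List.mem_cons, List.mem_nil_iff, or_false] at hc
  rcases hc with rfl | rfl | rfl | rfl | rfl | rfl | rfl | rfl | rfl
  · exact chk_sch23_1_8_c0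
  · exact chk_sch23_1_8_c1
  · exact chk_sch23_1_8_c2
  · exact chk_sch23_1_8_c3
  · exact chk_sch23_1_8_c4
  · exact chk_sch23_1_8_c5
  · exact chk_sch23_1_8_c6
  · exact chk_sch23_1_8_c7
  · exact chk_sch23_1_8_c8

theorem chk_sch23_1_9_cuts : chkCuts 31671 [(0, 31671)] = true := by decide +kernel

theorem chk_sch23_1_9 : ∀ q < 31671, (fSch23 1 9) q = true := by
  apply forall_of_allBR _ _ _ chk_sch23_1_9_cuts
  intro c hc
  simp only [List.mem_cons, List.mem_nil_iff, or_false] at hc
  rw [hc]
  exact chk_sch23_1_9_c0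

theorem chk_sch23_2_5_cuts : chkCuts 31671 [(0, 31671)] = true := by decide +kernel

theorem chk_sch23_2_5 : ∀ q < 31671, (fSch23 2 5) q = true := by
  apply forall_of_allBR _ _ _ chk_sch23_2_5_cuts
  intro c hc
  simp only [List.mem_cons, List.mem_nil_iff, or_false] at hc
  rw [hc]
  exact chk_sch23_2_5_c0

theorem chk_sch23_2_9_cuts : chkCuts 31671 [(0, 25000), (25000, 6671)] = true := by decide +kernel

theorem chk_sch23_2_9 : ∀ q < 31671, (fSch23 2 9) q = true := by
  apply forall_of_allBR _ _ _ chk_sch23_2_9_cuts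
  intro c hc
  simp only [List.mem_cons, List.mem_nil_iff, or_false] at hc
  rcases hc with rfl | rfl
  · exact chk_sch23_2_9_c0
  · exact chk_sch23_2_9_c1

/-- the letters of these words -/
theorem chk_schW23 : ((List.range 3).all fun j => (List.range 10).all fun s =>
    (expand wsFI23Q ((schWQ23.getD j []).getD s [])).all fun c => decide (c < 9)) = true := by decide +kernel

end Cfsg.Agent.Lib.Helper6.MultD
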