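import Cfsg.Agent.Lib.Helper6.Mult.HeA
import Cfsg.Agent.Lib.Helper6.MultD.HESM

set_option autoImplicit false
set_option maxRecDepth 100000

/-! The subgroup `S4(4)` of the presented group `He`: the tables of its generators, and its model. -/

namespace Cfsg.Agent.Lib.Helper6.MultD

open Cfsg.Agent.Lib.Helper6.PM Cfsg.Agent.Lib.Helper6.HeM Cfsg.Agent.Lib.Helper1

theorem chk_tabHESM_0 : chkTab heModel wsHESM pmHESM 0 = true := by decide +kernel

theorem chk_tabHESM_1 : chkTab heModel wsHESM pmHESM 1 = true := by decide +kernel

theorem chk_tabHESM_2 : chkTab heModel wsHESM pmHESM 2 = true := by decide +kernel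

theorem chk_tabHESM_3 : chkTab heModel wsHESM pmHESM 3 = true := by decide +kernel

theorem chk_tabHESM_4 : chkTab heModel wsHESM pmHESM 4 = true := by decide +kernel

theorem chk_tabHESM_5 : chkTab heModel wsHESM pmHESM 5 = true := by decide +kernel

theorem chk_tabHESM_6 : chkTab heModel wsHESM pmHESM 6 = true := by decide +kernel

theorem chk_tabHESM_7 : chkTab heModel wsHESM pmHESM 7 = true := by decide +kernel

theorem tabHESM : TabFacts heModel wsHESM pmHESM := by
  apply tabFacts_of_chk
  intro i hi
  have h' : i < 8 := hi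
  interval_cases i
  · exact chk_tabHESM_0
  · exact chk_tabHESM_1
  · exact chk_tabHESM_2
  · exact chk_tabHESM_3
  · exact chk_tabHESM_4
  · exact chk_tabHESM_5
  · exact chk_tabHESM_6
  · exact chk_tabHESM_7

/-- the model of the subgroup `S4(4)` -/
noncomputable def heS : PModel := sub heModel wsHESM pmHESM tabHESM

end Cfsg.Agent.Lib.Helper6.MultD
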