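import Cfsg.Agent.Lib.Helper6.Mult.HeA
import Cfsg.Agent.Lib.Helper6.MultD.HEp2D

set_option autoImplicit false
set_option maxRecDepth 100000

/-! The presented group `He` on 2058 points, data HEp2: the checks of the generators. -/

namespace Cfsg.Agent.Lib.Helper6.MultD

open Cfsg.Agent.Lib.Helper6.PM Cfsg.Agent.Lib.Helper6.HeM Cfsg.Agent.Lib.Helper1

theorem chk_tabHEp2_0 : chkTab heModel wsHEp2 pmHEp2 0 = true := by decide +kernel

theorem chk_tabHEp2_1 : chkTab heModel wsHEp2 pmHEp2 1 = true := by decide +kernel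

theorem chk_relPHEp2_0 : chkRelP heModel DHEp2 pmHEp2 0 = true := by decide +kernel

theorem chk_relPHEp2_1 : chkRelP heModel DHEp2 pmHEp2 1 = true := by decide +kernel

theorem chk_relPHEp2_2 : chkRelP heModel DHEp2 pmHEp2 2 = true := by decide +kernel

theorem chk_relPHEp2_3 : chkRelP heModel DHEp2 pmHEp2 3 = true := by decide +kernel

theorem chk_ordPHEp2_0 : chkOrdP heModel DHEp2 pmHEp2 0 = true := by decide +kernel

theorem chk_ordPHEp2_1 : chkOrdP heModel DHEp2 pmHEp2 1 = true := by decide +kernel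

theorem chk_lwPHEp2_0 : chkLwP heModel wsHEp2 pmHEp2 lwHEp2 0 = true := by decide +kernel

theorem chk_lwPHEp2_1 : chkLwP heModel wsHEp2 pmHEp2 lwHEp2 1 = true := by decide +kernel

theorem chk_lwPHEp2_2 : chkLwP heModel wsHEp2 pmHEp2 lwHEp2 2 = true := by decide +kernel

theorem chk_lwPHEp2_3 : chkLwP heModel wsHEp2 pmHEp2 lwHEp2 3 = true := by decide +kernel

theorem chk_lwPHEp2_4 : chkLwP heModel wsHEp2 pmHEp2 lwHEp2 4 = true := by decide +kernel

theorem chk_lwPHEp2_5 : chkLwP heModel wsHEp2 pmHEp2 lwHEp2 5 = true := by decide +kernel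

theorem chk_lwPHEp2_6 : chkLwP heModel wsHEp2 pmHEp2 lwHEp2 6 = true := by decide +kernel

theorem coreHEp2 : CoreFacts heModel DHEp2 wsHEp2 pmHEp2 lwHEp2 := by
  apply coreFacts_of_chk
  · rfl
  · intro i hi
    have h' : i < 2 := hi
    interval_cases i
    · exact chk_tabHEp2_0
    · exact chk_tabHEp2_1
  · intro r hr
    have h' : r < 4 := hr
    interval_cases r
    · exact chk_relPHEp2_0
    · exact chk_relPHEp2_1
    · exact chk_relPHEp2_2
    · exact chk_relPHEp2_3
  · intro i hi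
    have h' : i < 2 := hi
    interval_cases i
    · exact chk_ordPHEp2_0
    · exact chk_ordPHEp2_1
  · intro c hc
    have h' : c < 7 := hc
    interval_cases c
    · exact chk_lwPHEp2_0
    · exact chk_lwPHEp2_1
    · exact chk_lwPHEp2_2
    · exact chk_lwPHEp2_3
    · exact chk_lwPHEp2_4
    · exact chk_lwPHEp2_5
    · exact chk_lwPHEp2_6

theorem chk_ptsHEp2 : chkPts heModel DHEp2 wsHEp2 pmHEp2 PLHEp2 PLIHEp2 = true := by decide +kernel

end Cfsg.Agent.Lib.Helper6.MultD
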