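import Mathlib

set_option autoImplicit false
set_option maxRecDepth 100000
set_option maxHeartbeats 8000000

/-! Certificate HELp2: chunk 0 of the combination modulo 4. -/

namespace Cfsg.Agent.Lib.Helper6.MultD

def ysHELp2_0 : List ((ℕ × ℕ) × ℕ) := [((1, 2), 1), ((1, 4), 3), ((1, 7), 2), ((1, 9), 2), ((1, 12), 2), ((1, 14), 2), ((1, 25), 2), ((1, 28), 3), ((1, 29), 3), ((1, 32), 3), ((1, 33), 2), ((1, 41), 1), ((1, 43), 1), ((1, 46), 3), ((1, 48), 2), ((1, 49), 2), ((1, 54), 1), ((1, 60), 3), ((1, 68), 3), ((1, 118), 2), ((1, 17), 1), ((1, 24), 1), ((1, 38), 3), ((1, 63), 2), ((1, 66), 3), ((1, 84), 1), ((1, 98), 1), ((1, 100), 2), ((1, 129), 2), ((3, 0), 2), ((3, 2), 1), ((3, 4), 2), ((3, 6), 2), ((3, 7), 2), ((3, 14), 3), ((3, 21), 2), ((3, 25), 3), ((3, 28), 1), ((3, 29), 3), ((3, 33), 2), ((3, 43), 2), ((3, 54), 2), ((3, 68), 2), ((3, 120), 2), ((1, 79), 2), ((1, 89), 3), ((1, 124), 2), ((3, 1), 1), ((3, 18), 1), ((3, 22), 2), ((3, 24), 2), ((3, 26), 3)]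

def LHELp2_0 : ℕ := 0x28000000020000000000000000000000000000000000000000000000000000000000000000000000000000000000000000000000000000000000000000000000020000000000000000000000000000000000000000000000000000000000000000000000000000000000000000000000000000000000000000000000000000000200000000000000000000000000000000000000000000000000000000000000000000000000000000000000000000000000000002000000000000000000000000000000000000000000000000000000000000000000000000000000000000000000000000000000000000000000000002000000000000000000000000000000000000000000000000000000000000000200000000000000000000000200000000000000000000000000000000000000000000000000000003000000000000000100000000000000020000000300000000000000030000000000000000000000000000000200000000000000020000000000000002000000000000000000000001000000000000000000000000000000000000000300000000000000020000000000000000000000000000000300000001000000000000000300000003000000040000000200000002000000020000000200000000000000010000000000000002000000000000000300000000000000000000000100000000000000000000000100000002000000020000000200000002000000000000000100000001000000020000000200000000000000020000000000000002000000020000000400000002000000020000000200000002000000020000000000000001000000000000000200000000000000020000000000000002000000010000000000000001000000000000000000000000000000000000000000000000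0000000000000000000000000000000300000003000000010000000200000003000000010000000200000003000000000000000000000000000000030000000200000001000000030000000000000002000000050000000200000001000000020000000200000000000000030000000200000003000000000000000000000001000000010000000300000004000000030000000000000000000000050000000200000003000000020000000200000002000000030000000300000003000000020000000300000003000000010000000300000003000000000000000300000003000000020000000200000004000000040000000300000003000000000000000600000004000000020000000600000003000000060000000300000003000000030000000200000006000000050000000200000002000000040000000700000001000000030000000300000006000000030000000400000002000000020000000000000004000000040000000200000003000000050000000400000004000000020000000100000005000000050000000600000003000000040000000600000003000000060000000500000002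

def THELp2_0 : ℕ := 438

end Cfsg.Agent.Lib.Helper6.MultD
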