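import Mathlib

set_option autoImplicit false
set_option maxRecDepth 100000
set_option maxHeartbeats 8000000

/-! Certificate HELp2: chunk 1 of the combination modulo 4. -/

namespace Cfsg.Agent.Lib.Helper6.MultD

def ysHELp2_1 : List ((ℕ × ℕ) × ℕ) := [((3, 34), 2), ((3, 41), 3), ((3, 48), 2), ((3, 52), 3), ((3, 55), 2), ((3, 66), 1), ((3, 69), 3), ((3, 74), 1), ((3, 77), 2), ((3, 80), 3), ((3, 83), 2), ((3, 84), 1), ((3, 96), 1), ((3, 100), 2), ((3, 103), 3), ((3, 112), 2), ((3, 118), 1), ((3, 129), 2), ((3, 30), 2), ((3, 36), 1), ((3, 63), 2), ((3, 64), 2), ((3, 81), 2), ((3, 85), 2), ((3, 115), 1), ((3, 122), 3), ((3, 125), 2), ((3, 130), 3), ((5, 0), 2), ((6, 1), 3), ((2, 1), 2), ((5, 1), 2), ((5, 2), 3), ((5, 4), 2), ((6, 2), 2), ((7, 2), 2), ((8, 2), 1), ((5, 10), 1), ((5, 11), 1), ((5, 13), 3), ((6, 6), 3), ((7, 4), 2), ((8, 7), 1), ((8, 15), 2), ((2, 22), 2), ((2, 26), 2), ((5, 3), 1), ((5, 69), 1), ((7, 3), 1), ((7, 7), 2), ((7, 27), 1), ((0, 134), 2)]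

def LHELp2_1 : ℕ := 0x80000000c00000004000000140000000000000038000000020000000200000004000000040000000400000004000000040000000000000004000000040000000400000004000000040000000c00000004000000020000000400000004000000000000000400000004000000040000000400000004000000080000000400000004000000040000000400000008000000040000000600000008000000080000000400000004000000040000000400000004000000040000000800000004000000040000000800000002000000040000000800000004000000040000000000000008000000080000000400000004000000080000000c00000004000000000000000c000000020000000400000008000000040000000800000000000000040000000c000000060000000400000008000000020000000400000008000000000000000400000004000000040000000100000004000000030000000c0000000a000000050000000c000000010000000800000008000000080000000200000004000000020000000c0000000e000000000000000800000003000000080000000400000000000000080000000500000010000000060000000800000000000000080000000d0000000b0000000400000009000000090000000400000002000000060000000600000002000000100000000f00000008000000060000000800000009000000080000001000000003000000080000000c0000000700000012000000120000000a00000012000000100000001b0000000f0000000e0000000200000000000000020000000000000006000000020000000400000002000000020000000600000002000000020000000400000003000000000000000600000004000000060000000400000002000000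03000000000000000300000004000000000000000400000000000000040000000000000000000000000000000400000001000000010000000300000006000000050000000700000002000000050000000400000004000000040000000500000002000000030000000500000004000000060000000300000002000000070000000200000002000000040000000100000002000000050000000400000008000000030000000300000011000000040000000500000000000000080000000300000006000000090000000200000002000000020000000500000005000000090000000a0000000500000005000000070000000500000001000000040000000100000005000000060000000a000000040000000000000005000000090000000000000002000000080000000a0000000a00000001000000060000000d00000005000000050000000200000002000000030000000a0000000600000004000000090000000700000001000000050000000a00000009000000000000000a0000000a00000000000000000000000400000006000000050000000b00000004000000080000000e000000070000000700000003000000060000000d000000080000000a000000050000000a0000000300000002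

def THELp2_1 : ℕ := 1584

end Cfsg.Agent.Lib.Helper6.MultD
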