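import Mathlib
import Cfsg.Agent.Lib.Helper1.StemZP7
import Cfsg.Agent.Lib.Helper6.MultD.HELp2R0
import Cfsg.Agent.Lib.Helper6.MultD.HELp2Y0
import Cfsg.Agent.Lib.Helper6.MultD.HELp2Y1

set_option autoImplicit false
set_option maxRecDepth 100000
set_option maxHeartbeats 8000000

/-! Certificate HELp2 for the prime 2. -/

namespace Cfsg.Agent.Lib.Helper6.MultD

open Cfsg.Agent.Lib.Helper1

def specNHELp2 : ℕ := 0x70970770370054550e50321a21681180f80770460651150d50b50a50980480270260250450250120120060150040038237d37a37335535134b34033f32431e38137637036a36736436236035f35735435335034d34a34534233c33733433032e32c32932231a31831631331231130f30330117c16f16915915114f37834433633132b32732132031d31c31931530e30c30930730630430230018116416215d15414213f13b12611811117817617015f15714514413c13613113012e12b12912712112011d11c11911510e10c109107106104102100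

def unkNHELp2 : ℕ := 0x456291389446210f87436190b8542611078341609037fbf5f8fb7cbd9eaf479bc5e0ee76ba5cce471b89c0de6eb69acd468b419ece65b258cc56130580bd5dae96eb5592c560ad562ad4ea651a7d38994c255269046a1d0c854220d047f3e9f0f4793b9d4e873391c4de6d361acd46933998ca6330980bc5c2d968b25529948a25027934984b2511884401f8f472371a0cc642c1208c441e0d8682c130903c1403

def colNHELp2 : ℕ := 0x8f8e8d8c8b8a898887868584838281807f7e7d0000007c007b7a7900780000777675740073720071700000006f00006e006d6c6b006a006968000067000000660065000064636261000060005f00005e5d00005c5b5a00005900585700005600550000545352000051504f0000004e4d00004c0000004b00004a0000494800004700460000450000440000000000434241403f3e00003d003c3b003a39003800373635343300320031302f2e2d002c2b2a0029002827002600252423220000002100201f1e1d1c001b1a1918000000170000001600151400130000001200110000100f0e00000000000d000000000000000c0b0a00000009000008070000000600000504000003000000000200000000000001000000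

def trHELp2 : List (List ((ℕ × ℕ) × ℕ) × ℕ × ℕ) := [(ysHELp2_0, LHELp2_0, THELp2_0), (ysHELp2_1, LHELp2_1, THELp2_1)]

def relHELp2 : List (List ((ℕ × ℕ) × ℕ)) := [(trHELp2.map fun t => t.1).flatten]

/-- the certificate -/
def CHELp2 : StemZP.ZRCert where
  p := 2
  s := 2
  w := 5
  N := 143
  β := 1
  hmR := 30
  hmQ := 16
  bs := [270]
  es := [1]
  specs := fun i => ((specNHELp2 >>> (12 * i)) % 2 ^ 12 / 2 ^ 8, (specNHELp2 >>> (12 * i)) % 2 ^ 8)
  unk := fun c => (unkNHELp2 >>> (9 * c)) % 2 ^ 9
  colT := fun b => (colNHELp2 >>> (8 * b)) % 2 ^ 8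
  R := fun c => if c < 143 then (RLHELp2_0.getD ((c - 0) / 32) []).getD ((c - 0) % 32) 0 else 0
  rel := relHELp2

end Cfsg.Agent.Lib.Helper6.MultD
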