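import Cfsg.Agent.Lib.Helper6.MultD.HELML
import Cfsg.Agent.Lib.Helper6.MultD.HELp2D

set_option autoImplicit false
set_option maxRecDepth 100000

/-! The subgroup `L2(16)` of the presented group `He` on 136 points: the checks of the generators. -/

namespace Cfsg.Agent.Lib.Helper6.MultD

open Cfsg.Agent.Lib.Helper6.PM Cfsg.Agent.Lib.Helper6.HeM Cfsg.Agent.Lib.Helper1

theorem chk_tabHELp2_0 : chkTab heL wsHELp2 pmHELp2 0 = true := by decide +kernel

theorem chk_tabHELp2_1 : chkTab heL wsHELp2 pmHELp2 1 = true := by decide +kernel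

theorem chk_relPHELp2_0 : chkRelP heL DHELp2 pmHELp2 0 = true := by decide +kernel

theorem chk_relPHELp2_1 : chkRelP heL DHELp2 pmHELp2 1 = true := by decide +kernel

theorem chk_relPHELp2_2 : chkRelP heL DHELp2 pmHELp2 2 = true := by decide +kernel

theorem chk_relPHELp2_3 : chkRelP heL DHELp2 pmHELp2 3 = true := by decide +kernel

theorem chk_relPHELp2_4 : chkRelP heL DHELp2 pmHELp2 4 = true := by decide +kernel

theorem chk_relPHELp2_5 : chkRelP heL DHELp2 pmHELp2 5 = true := by decide +kernel

theorem chk_ordPHELp2_0 : chkOrdP heL DHELp2 pmHELp2 0 = true := by decide +kernel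

theorem chk_ordPHELp2_1 : chkOrdP heL DHELp2 pmHELp2 1 = true := by decide +kernel

theorem chk_lwPHELp2_0 : chkLwP heL wsHELp2 pmHELp2 lwHELp2 0 = true := by decide +kernel

theorem chk_lwPHELp2_1 : chkLwP heL wsHELp2 pmHELp2 lwHELp2 1 = true := by decide +kernel

theorem coreHELp2 : CoreFacts heL DHELp2 wsHELp2 pmHELp2 lwHELp2 := by
  apply coreFacts_of_chk
  · rfl
  · intro i hi
    have h' : i < 2 := hi
    interval_cases i
    · exact chk_tabHELp2_0
    · exact chk_tabHELp2_1
  · intro r hr
    have h' : r < 6 := hr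
    interval_cases r
    · exact chk_relPHELp2_0
    · exact chk_relPHELp2_1
    · exact chk_relPHELp2_2
    · exact chk_relPHELp2_3
    · exact chk_relPHELp2_4
    · exact chk_relPHELp2_5
  · intro i hi
    have h' : i < 2 := hi
    interval_cases i
    · exact chk_ordPHELp2_0
    · exact chk_ordPHELp2_1
  · intro c hc
    have h' : c < 2 := hc
    interval_cases c
    · exact chk_lwPHELp2_0
    · exact chk_lwPHELp2_1

theorem chk_ptsHELp2 : chkPts heL DHELp2 wsHELp2 pmHELp2 PLHELp2 PLIHELp2 = true := by decide +kernel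

end Cfsg.Agent.Lib.Helper6.MultD
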