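import Cfsg.Agent.Lib.Helper6.MultD.HELML
import Cfsg.Agent.Lib.Helper6.MultD.HESp2D
import Cfsg.Agent.Lib.Helper6.MultD.HESp3D
import Cfsg.Agent.Lib.Helper6.MultD.HESp5D

set_option autoImplicit false
set_option maxRecDepth 100000

/-! The subgroup `L2(16)` of the presented group `He`: the checks of the elements of the stabilizer
of a point, of the stabilizer of a set, and of a family of sets. -/

namespace Cfsg.Agent.Lib.Helper6.MultD

open Cfsg.Agent.Lib.Helper6.PM Cfsg.Agent.Lib.Helper6.HeM Cfsg.Agent.Lib.Helper1
open Cfsg.Agent.Lib.Helper6.TC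

/-- the generators of the subgroup stabilize the first set -/
theorem chk_fixO : ((List.range 2).all fun i => (List.range 2058).all fun q =>
    (masksHESp2 0).testBit q == (masksHESp2 0).testBit (pmHELp2 i q)) = true := by decide +kernel

/-- the table of the element outside of the subgroup -/
theorem chk_ct : ((cwHELp2.all fun c => decide (c < 8)) &&
    ((List.range 2058).all fun q => wappS pmHESM cwHELp2 q == ctHELp2 q)) = true := by
  decide +kernel

/-- the element outside of the subgroup stabilizes the first set, and moves the first set of the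
family to a set outside of the family -/
theorem chk_cO : ((List.range 2058).all fun q =>
    ((masksHESp2 0).testBit q == (masksHESp2 0).testBit (ctHELp2 q)) &&
    (cmHELp2.testBit q == (famHELp2 0).testBit (ctHELp2 q))) = true := by decide +kernel

theorem chk_cm : ((List.range 136).all fun j =>
    cmHELp2 % 2 ^ 2058 != famHELp2 j % 2 ^ 2058) = true := by decide +kernel

/-- the generators of the subgroup permute the sets of the family -/
theorem chk_famHELp2_0 : chkSets heS pmHELp2 famHELp2 136 piFHELp2 0 = true := by decide +kernel

theorem chk_famHELp2_1 : chkSets heS pmHELp2 famHELp2 136 piFHELp2 1 = true := by decide +kernel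

theorem chk_piF : ((List.range 2).all fun i => (List.range 136).all fun j =>
    decide (piFHELp2 i j < 136)) = true := by decide +kernel

/-- the elements of orders 15 and 2 of the stabilizer of the first point -/
theorem chk_stabL : DHELp2.actW w15HELp2 0 = 0 ∧ DHELp2.actW w2HELp2 0 = 0 ∧
    DHELp2.actW w2HELp2 1 ≠ 1 ∧
    DHELp2.actW (w15HELp2 ++ w15HELp2 ++ w15HELp2) 1 ≠ 1 ∧
    DHELp2.actW (w15HELp2 ++ w15HELp2 ++ w15HELp2 ++ w15HELp2 ++ w15HELp2) 1 ≠ 1 := by
  decide +kernel

theorem chk_w2 : ((List.range 2058).all fun q =>
    wappS pmHELp2 (w2HELp2 ++ w2HELp2) q == q) = true := by decide +kernel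

theorem chk_w15 : ((List.range 2058).all fun q =>
    wappS pmHELp2 (List.replicate 15 w15HELp2).flatten q == q) = true := by decide +kernel

theorem chk_masks0 : masksHESp3 0 = masksHESp2 0 ∧ masksHESp5 0 = masksHESp2 0 := by
  decide +kernel

end Cfsg.Agent.Lib.Helper6.MultD
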