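import Mathlib

set_option autoImplicit false
set_option maxRecDepth 100000
set_option maxHeartbeats 8000000

/-! Certificate HESp2: chunk 0 of the combination modulo 4. -/

namespace Cfsg.Agent.Lib.Helper6.MultD

def ysHESp2_0 : List ((ℕ × ℕ) × ℕ) := [((5, 17), 2), ((7, 3), 3), ((1, 0), 1), ((5, 0), 1), ((7, 1), 3), ((3, 5), 3), ((3, 109), 1), ((4, 0), 1), ((4, 1), 1), ((4, 13), 3), ((4, 25), 1), ((5, 1), 3), ((5, 2), 3), ((5, 9), 3), ((5, 11), 1), ((5, 24), 2), ((5, 25), 3), ((7, 9), 1), ((7, 16), 1), ((7, 24), 2), ((8, 31), 2), ((3, 4), 1), ((3, 8), 3), ((4, 4), 1), ((4, 6), 3), ((4, 7), 2), ((4, 9), 2), ((4, 10), 2), ((4, 12), 2), ((4, 17), 3), ((4, 36), 1), ((4, 43), 2), ((4, 51), 2), ((4, 86), 1), ((5, 10), 3), ((5, 32), 1), ((7, 4), 1), ((7, 49), 1), ((7, 61), 2), ((7, 108), 3), ((8, 2), 1), ((8, 7), 1), ((2, 1), 2), ((3, 2), 1), ((3, 17), 1)]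

def LHESp2_0 : ℕ := 0x8000000130000000000000012000000210000000e000000080000000d00000006000000050000000500000003000000040000000500000000000000030000000d00000003000000060000000000000000000000010000000000000007000000050000000200000003000000010000000600000006000000050000000400000000000000130000000400000002000000030000000300000000000000030000000300000000000000100000000700000003000000080000000a0000000500000001000000030000000100000004000000000000000000000008000000010000000500000001000000030000000500000004000000060000000900000005000000040000000300000001000000000000000a000000020000000000000001000000080000000f000000030000000000000004000000030000000300000006000000040000000000000008000000050000000a00000002000000090000000100000004000000130000000e0000000400000003000000060000000500000004000000070000000c000000040000000300000008000000070000000800000009000000090000000d00000008000000040000000d00000003000000040000000200000008000000090000000300000007000000180000000b00000008000000020000000a0000000c0000000f000000040000001200000007000000000000000600000005000000000000000000000002000000100000000200000001000000000000000e0000000a00000005000000050000000100000003000000010000000500000001000000000000000600000005000000000000000400000001000000050000000500000003000000000000000800000000000000030000000000000007000000040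00000050000000400000002000000040000000500000001000000040000000100000001000000000000000400000005000000000000000000000007000000040000000500000006000000060000000600000001000000010000000500000014000000080000000100000004000000010000000400000006000000050000000900000009000000090000000c0000000500000004000000020000000100000002000000080000000800000006000000000000000200000006000000090000000700000003000000010000000800000003000000010000000c0000000f0000000800000004000000020000000600000004000000070000000200000004000000050000000f00000007000000060000000b0000000b000000090000000100000005000000090000000a0000000a0000000c0000001100000009000000060000000a0000001a000000020000000d0000000d0000000a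

def THESp2_0 : ℕ := 1411

end Cfsg.Agent.Lib.Helper6.MultD
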