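import Mathlib

set_option autoImplicit false
set_option maxRecDepth 100000
set_option maxHeartbeats 8000000

/-! Certificate HESp2: chunk 1 of the combination modulo 4. -/

namespace Cfsg.Agent.Lib.Helper6.MultD

def ysHESp2_1 : List ((ℕ × ℕ) × ℕ) := [((3, 20), 1), ((3, 53), 1), ((4, 28), 3), ((5, 49), 2), ((7, 22), 2), ((8, 18), 1), ((1, 6), 3), ((1, 12), 3), ((3, 1), 3), ((3, 9), 2), ((3, 13), 1), ((3, 21), 2), ((3, 31), 2), ((3, 33), 3), ((3, 36), 2), ((3, 41), 1), ((3, 42), 3), ((3, 61), 1), ((3, 67), 1), ((3, 69), 2), ((3, 89), 3), ((3, 99), 3), ((3, 105), 2), ((4, 21), 3), ((4, 70), 3), ((4, 78), 1), ((4, 105), 1), ((8, 3), 3), ((8, 23), 2), ((8, 67), 2), ((1, 10), 1), ((1, 14), 2), ((3, 12), 1), ((3, 18), 3), ((3, 39), 3), ((3, 43), 2), ((3, 54), 3), ((3, 64), 2), ((3, 118), 3), ((4, 99), 2), ((7, 55), 1), ((0, 83), 2), ((0, 109), 2), ((0, 118), 2)]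

def LHESp2_1 : ℕ := 0x80000000500000000000000020000000b0000002e000000040000000500000002000000030000000300000005000000000000000300000004000000050000000700000005000000060000000400000008000000030000000400000005000000030000000200000005000000030000000200000006000000070000000000000004000000050000000000000002000000050000000500000008000000050000000100000008000000100000000100000001000000080000000a0000000700000003000000010000000300000004000000080000000000000000000000070000000b000000030000000900000007000000040000000e00000003000000030000000400000009000000030000000000000002000000060000000c0000000b000000080000000d000000010000000000000008000000050000000500000002000000040000000000000004000000070000000a000000020000000700000003000000080000000900000002000000040000000d000000060000000300000000000000090000000c000000080000000500000000000000050000001000000007000000070000000700000004000000080000000700000005000000080000000a000000040000000b0000000500000005000000040000000900000004000000020000000a000000080000000d000000040000000a00000009000000000000000600000003000000040000000800000002000000040000000200000003000000040000000e00000002000000070000000b0000000700000009000000030000000300000003000000040000000e0000000700000004000000000000000b000000030000000300000009000000040000000400000008000000010000001000000005000000080000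000300000004000000020000000400000003000000030000000c00000003000000030000000000000004000000070000000000000004000000050000000c000000070000000a00000006000000020000000b000000030000000b0000000c00000000000000070000000400000003000000080000000a000000070000000b000000030000000b0000000c000000070000000800000006000000030000000e00000000000000080000000a0000000c0000000a000000120000000700000005000000090000000700000004000000090000000b0000000c0000000d00000000000000080000000a0000000a00000008000000090000000a000000040000000f00000005000000090000000a00000009000000090000000f00000003000000070000000b0000000200000006000000080000000f0000000700000006000000020000000200000006000000070000000700000006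

def THESp2_1 : ℕ := 1531

end Cfsg.Agent.Lib.Helper6.MultD
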