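import Mathlib
import Cfsg.Agent.Lib.Helper1.StemZP7
import Cfsg.Agent.Lib.Helper6.MultD.HESp2R0
import Cfsg.Agent.Lib.Helper6.MultD.HESp2Y0
import Cfsg.Agent.Lib.Helper6.MultD.HESp2Y1

set_option autoImplicit false
set_option maxRecDepth 100000
set_option maxHeartbeats 8000000

/-! Certificate HESp2 for the prime 2. -/

namespace Cfsg.Agent.Lib.Helper6.MultD

open Cfsg.Agent.Lib.Helper1

def specNHESp2 : ℕ := 0x209c0f4c694126a2c3ec778e69c036c6c4d81ab34e674c918c20a2384544382f00df4a6949c9190aa123d278cec9c53866f4d51a9348684cf99531a628c498120623043082824fb5d539a72cac520238462870e31b5368650c899030440603c027d8ef5d8b9c708a814728a4ac91119a2b44887508a0c41482503a06408620c398630860cc010083ee61c8389700a654c28b512a0940a2743283500a003da615c438150ca0d40202100e0d8ea91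

def unkNHESp2 : ℕ := 0xf5f4f3f2f1f0efeeedecebeae9e8e7e6e5e4e3e2e1e0dfdedddcdbdad9d8d7d6d5d3d1cfcecdcac9c4c3c2c1c0bfbebdbbb9b5b4b3b2aeaaa8a7a09e9d9997968f88878382777675747372706f6e6b6968676665646361605f5e5c5b5a595857565554535251504f4e4d4c4b494845403f3e3c3b393531302928241d160f0e

def colNHESp2 : ℕ := 0x3ffefbf3dfaf3e3bf6ebd39f2e3c37eedbb35ead3a33e6cb931e2c382f80bc02e80b96ed000166c000000057ad56a53a5468009e0270000026cc9728000012400001200478c00000000004501121800002100830000000000007e00000000003e7a0000078ec0000000000000000074e5c376cd403466c8000620182f5cb562b54014a84e98025488d121407cf1d386cd19305cb152800992000088000000101e3800d180058000005000000488000000000003860000005000000000002000000000000c00000000000404000000000000000000000000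

def trHESp2 : List (List ((ℕ × ℕ) × ℕ) × ℕ × ℕ) := [(ysHESp2_0, LHESp2_0, THESp2_0), (ysHESp2_1, LHESp2_1, THESp2_1)]

def relHESp2 : List (List ((ℕ × ℕ) × ℕ)) := [(trHESp2.map fun t => t.1).flatten]

/-- the certificate -/
def CHESp2 : StemZP.ZRCert where
  p := 2
  s := 2
  w := 5
  N := 127
  β := 1
  hmR := 30
  hmQ := 16
  bs := [238]
  es := [1]
  specs := fun i => ((specNHESp2 >>> (11 * i)) % 2 ^ 11 / 2 ^ 7, (specNHESp2 >>> (11 * i)) % 2 ^ 7)
  unk := fun c => (unkNHESp2 >>> (8 * c)) % 2 ^ 8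
  colT := fun b => (colNHESp2 >>> (7 * b)) % 2 ^ 7
  R := fun c => if c < 127 then (RLHESp2_0.getD ((c - 0) / 32) []).getD ((c - 0) % 32) 0 else 0
  rel := relHESp2

end Cfsg.Agent.Lib.Helper6.MultD
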