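import Cfsg.Agent.Lib.Helper6.MultD.HESML
import Cfsg.Agent.Lib.Helper6.MultD.HESp2D

set_option autoImplicit false
set_option maxRecDepth 100000

/-! The subgroup `S4(4)` of the presented group `He` on 120 sets, data HESp2: the checks of the generators. -/

namespace Cfsg.Agent.Lib.Helper6.MultD

open Cfsg.Agent.Lib.Helper6.PM Cfsg.Agent.Lib.Helper6.HeM Cfsg.Agent.Lib.Helper1

theorem chk_tabHESp2_0 : chkTab heS wsHESp2 pmHESp2 0 = true := by decide +kernel

theorem chk_tabHESp2_1 : chkTab heS wsHESp2 pmHESp2 1 = true := by decide +kernel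

theorem chk_relPHESp2_0 : chkRelP heS DHESp2 pmHESp2 0 = true := by decide +kernel

theorem chk_relPHESp2_1 : chkRelP heS DHESp2 pmHESp2 1 = true := by decide +kernel

theorem chk_relPHESp2_2 : chkRelP heS DHESp2 pmHESp2 2 = true := by decide +kernel

theorem chk_relPHESp2_3 : chkRelP heS DHESp2 pmHESp2 3 = true := by decide +kernel

theorem chk_relPHESp2_4 : chkRelP heS DHESp2 pmHESp2 4 = true := by decide +kernel

theorem chk_relPHESp2_5 : chkRelP heS DHESp2 pmHESp2 5 = true := by decide +kernel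

theorem chk_ordPHESp2_0 : chkOrdP heS DHESp2 pmHESp2 0 = true := by decide +kernel

theorem chk_ordPHESp2_1 : chkOrdP heS DHESp2 pmHESp2 1 = true := by decide +kernel

theorem chk_lwPHESp2_0 : chkLwP heS wsHESp2 pmHESp2 lwHESp2 0 = true := by decide +kernel

theorem chk_lwPHESp2_1 : chkLwP heS wsHESp2 pmHESp2 lwHESp2 1 = true := by decide +kernel

theorem chk_lwPHESp2_2 : chkLwP heS wsHESp2 pmHESp2 lwHESp2 2 = true := by decide +kernel

theorem chk_lwPHESp2_3 : chkLwP heS wsHESp2 pmHESp2 lwHESp2 3 = true := by decide +kernel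

theorem chk_lwPHESp2_4 : chkLwP heS wsHESp2 pmHESp2 lwHESp2 4 = true := by decide +kernel

theorem chk_lwPHESp2_5 : chkLwP heS wsHESp2 pmHESp2 lwHESp2 5 = true := by decide +kernel

theorem chk_lwPHESp2_6 : chkLwP heS wsHESp2 pmHESp2 lwHESp2 6 = true := by decide +kernel

theorem chk_lwPHESp2_7 : chkLwP heS wsHESp2 pmHESp2 lwHESp2 7 = true := by decide +kernel

theorem coreHESp2 : CoreFacts heS DHESp2 wsHESp2 pmHESp2 lwHESp2 := by
  apply coreFacts_of_chk
  · rfl
  · intro i hi
    have h' : i < 2 := hi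
    interval_cases i
    · exact chk_tabHESp2_0
    · exact chk_tabHESp2_1
  · intro r hr
    have h' : r < 6 := hr
    interval_cases r
    · exact chk_relPHESp2_0
    · exact chk_relPHESp2_1
    · exact chk_relPHESp2_2
    · exact chk_relPHESp2_3
    · exact chk_relPHESp2_4
    · exact chk_relPHESp2_5
  · intro i hi
    have h' : i < 2 := hi
    interval_cases i
    · exact chk_ordPHESp2_0
    · exact chk_ordPHESp2_1
  · intro c hc
    have h' : c < 8 := hc
    interval_cases c
    · exact chk_lwPHESp2_0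
    · exact chk_lwPHESp2_1
    · exact chk_lwPHESp2_2
    · exact chk_lwPHESp2_3
    · exact chk_lwPHESp2_4
    · exact chk_lwPHESp2_5
    · exact chk_lwPHESp2_6
    · exact chk_lwPHESp2_7


end Cfsg.Agent.Lib.Helper6.MultD
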