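import Cfsg.Agent.Lib.Helper6.MultD.HESML
import Cfsg.Agent.Lib.Helper6.MultD.HESp2D

set_option autoImplicit false
set_option maxRecDepth 100000

/-! The subgroup `S4(4)` of the presented group `He` on 120 sets, data HESp2: the checks of the action on the sets. -/

namespace Cfsg.Agent.Lib.Helper6.MultD

open Cfsg.Agent.Lib.Helper6.PM Cfsg.Agent.Lib.Helper6.HeM Cfsg.Agent.Lib.Helper1

theorem chk_setsHESp2_0 : chkSets heS pmHESp2 masksHESp2 DHESp2.m DHESp2.pi 0 = true := by decide +kernel

theorem chk_setsHESp2_1 : chkSets heS pmHESp2 masksHESp2 DHESp2.m DHESp2.pi 1 = true := by decide +kernel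

theorem chk_setsHESp2 : ∀ i < wsHESp2.length, chkSets heS pmHESp2 masksHESp2 DHESp2.m DHESp2.pi i = true := by
  intro i hi
  have h' : i < 2 := hi
  interval_cases i
  · exact chk_setsHESp2_0
  · exact chk_setsHESp2_1

theorem chk_distinctHESp2 : chkDistinct heS masksHESp2 DHESp2.m = true := by decide +kernel

end Cfsg.Agent.Lib.Helper6.MultD
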