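import Mathlib
import Cfsg.Agent.Lib.Helper6.MultD.HESp2H
import Cfsg.Agent.Lib.Helper6.MultD.HESp2K0
import Cfsg.Agent.Lib.Helper6.MultD.HESp2K1

set_option autoImplicit false
set_option maxRecDepth 100000
set_option maxHeartbeats 8000000

/-! Certificate HESp2: the check of the combination modulo 4 and the full certificate. -/

namespace Cfsg.Agent.Lib.Helper6.MultD

open Cfsg.Agent.Lib.Helper1

open Cfsg.Agent.Lib.Helper6.Mult StemZP

theorem chunksHESp2 : ∀ t ∈ trHESp2, chunkOK DHESp2 4 t.1 t.2.1 t.2.2 = true := by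
  intro t ht
  simp only [trHESp2, List.mem_cons, List.not_mem_nil, or_false] at ht
  rcases ht with rfl | rfl
  · exact chunkHESp2_0
  · exact chunkHESp2_1

theorem hTHESp2 : (trHESp2.map fun t => t.2.2).sum < StemZD.X := by decide +kernel

theorem hdigHESp2 : ((List.range DHESp2.n).all fun c =>
    (trHESp2.map fun t => t.2.1).sum / StemZD.X ^ c % StemZD.X % 4 == if c = 238 then 2 else 0) = true := by
  decide +kernel

theorem chk_relHESp2 : chkRel DHESp2 CHESp2.toP (trHESp2.map fun t => t.1).flatten 238 1 = true :=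
  chkRel_of_chunks DHESp2 CHESp2.toP trHESp2 238 1 chunksHESp2 hTHESp2 hdigHESp2

theorem chk_certHESp2 : chkCertR DHESp2 CHESp2 = true := by
  apply chkCertR_of_main DHESp2 CHESp2 chk_mainHESp2
  show (List.range 1).all _ = true
  simp only [List.range_one, List.all_cons, List.all_nil, Bool.and_true]
  exact chk_relHESp2

end Cfsg.Agent.Lib.Helper6.MultD
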