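import Cfsg.Agent.Lib.Helper6.MultD.HESML
import Cfsg.Agent.Lib.Helper6.MultD.HESp3D

set_option autoImplicit false
set_option maxRecDepth 100000

/-! The subgroup `S4(4)` of the presented group `He` on 120 sets, data HESp3: the checks of the generators. -/

namespace Cfsg.Agent.Lib.Helper6.MultD

open Cfsg.Agent.Lib.Helper6.PM Cfsg.Agent.Lib.Helper6.HeM Cfsg.Agent.Lib.Helper1

theorem chk_tabHESp3_0 : chkTab heS wsHESp3 pmHESp3 0 = true := by decide +kernel

theorem chk_tabHESp3_1 : chkTab heS wsHESp3 pmHESp3 1 = true := by decide +kernel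

theorem chk_relPHESp3_0 : chkRelP heS DHESp3 pmHESp3 0 = true := by decide +kernel

theorem chk_relPHESp3_1 : chkRelP heS DHESp3 pmHESp3 1 = true := by decide +kernel

theorem chk_relPHESp3_2 : chkRelP heS DHESp3 pmHESp3 2 = true := by decide +kernel

theorem chk_relPHESp3_3 : chkRelP heS DHESp3 pmHESp3 3 = true := by decide +kernel

theorem chk_relPHESp3_4 : chkRelP heS DHESp3 pmHESp3 4 = true := by decide +kernel

theorem chk_relPHESp3_5 : chkRelP heS DHESp3 pmHESp3 5 = true := by decide +kernel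

theorem chk_ordPHESp3_0 : chkOrdP heS DHESp3 pmHESp3 0 = true := by decide +kernel

theorem chk_ordPHESp3_1 : chkOrdP heS DHESp3 pmHESp3 1 = true := by decide +kernel

theorem chk_lwPHESp3_0 : chkLwP heS wsHESp3 pmHESp3 lwHESp3 0 = true := by decide +kernel

theorem chk_lwPHESp3_1 : chkLwP heS wsHESp3 pmHESp3 lwHESp3 1 = true := by decide +kernel

theorem chk_lwPHESp3_2 : chkLwP heS wsHESp3 pmHESp3 lwHESp3 2 = true := by decide +kernel

theorem chk_lwPHESp3_3 : chkLwP heS wsHESp3 pmHESp3 lwHESp3 3 = true := by decide +kernel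

theorem chk_lwPHESp3_4 : chkLwP heS wsHESp3 pmHESp3 lwHESp3 4 = true := by decide +kernel

theorem chk_lwPHESp3_5 : chkLwP heS wsHESp3 pmHESp3 lwHESp3 5 = true := by decide +kernel

theorem chk_lwPHESp3_6 : chkLwP heS wsHESp3 pmHESp3 lwHESp3 6 = true := by decide +kernel

theorem chk_lwPHESp3_7 : chkLwP heS wsHESp3 pmHESp3 lwHESp3 7 = true := by decide +kernel

theorem coreHESp3 : CoreFacts heS DHESp3 wsHESp3 pmHESp3 lwHESp3 := by
  apply coreFacts_of_chk
  · rfl
  · intro i hi
    have h' : i < 2 := hi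
    interval_cases i
    · exact chk_tabHESp3_0
    · exact chk_tabHESp3_1
  · intro r hr
    have h' : r < 6 := hr
    interval_cases r
    · exact chk_relPHESp3_0
    · exact chk_relPHESp3_1
    · exact chk_relPHESp3_2
    · exact chk_relPHESp3_3
    · exact chk_relPHESp3_4
    · exact chk_relPHESp3_5
  · intro i hi
    have h' : i < 2 := hi
    interval_cases i
    · exact chk_ordPHESp3_0
    · exact chk_ordPHESp3_1
  · intro c hc
    have h' : c < 8 := hc
    interval_cases c
    · exact chk_lwPHESp3_0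
    · exact chk_lwPHESp3_1
    · exact chk_lwPHESp3_2
    · exact chk_lwPHESp3_3
    · exact chk_lwPHESp3_4
    · exact chk_lwPHESp3_5
    · exact chk_lwPHESp3_6
    · exact chk_lwPHESp3_7


end Cfsg.Agent.Lib.Helper6.MultD
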