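import Cfsg.Agent.Lib.Helper6.MultD.HESML
import Cfsg.Agent.Lib.Helper6.MultD.HESp3D

set_option autoImplicit false
set_option maxRecDepth 100000

/-! The subgroup `S4(4)` of the presented group `He` on 120 sets, data HESp3: the checks of the action on the sets. -/

namespace Cfsg.Agent.Lib.Helper6.MultD

open Cfsg.Agent.Lib.Helper6.PM Cfsg.Agent.Lib.Helper6.HeM Cfsg.Agent.Lib.Helper1

theorem chk_setsHESp3_0 : chkSets heS pmHESp3 masksHESp3 DHESp3.m DHESp3.pi 0 = true := by decide +kernel

theorem chk_setsHESp3_1 : chkSets heS pmHESp3 masksHESp3 DHESp3.m DHESp3.pi 1 = true := by decide +kernel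

theorem chk_setsHESp3 : ∀ i < wsHESp3.length, chkSets heS pmHESp3 masksHESp3 DHESp3.m DHESp3.pi i = true := by
  intro i hi
  have h' : i < 2 := hi
  interval_cases i
  · exact chk_setsHESp3_0
  · exact chk_setsHESp3_1

theorem chk_distinctHESp3 : chkDistinct heS masksHESp3 DHESp3.m = true := by decide +kernel

end Cfsg.Agent.Lib.Helper6.MultD
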