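import Mathlib
import Cfsg.Agent.Lib.Helper1.StemZP7
import Cfsg.Agent.Lib.Helper6.MultD.HESp5R0

set_option autoImplicit false
set_option maxRecDepth 100000
set_option maxHeartbeats 8000000

/-! Certificate HESp5 for the prime 5. -/

namespace Cfsg.Agent.Lib.Helper6.MultD

open Cfsg.Agent.Lib.Helper1

def specNHESp5 : ℕ := 0x105e0ac1180678cd098f31a6261a9f03ba760e31b731660a141de356764e19aa35267cc541276eea1099b536904d2699230860d23215424714ca9281aeea8c8407804f05c5a604a0620c398683ef3936a6947a858f698576ce65c523e430645d8b9c58eab91221d418601c838959aa4d13a0d2464705d38870cadd58a8750a445c8aaf540a3946a8a40e8108288e114e014ca98516a254128140240c46086104e054328350080880b8363aa4480080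

def unkNHESp5 : ℕ := 0xf5f4f3f2f1f0efeeedecebeae9e8e7e6e5e4e3e2e1e0dfdedddcdbdad9d8d7d6d5d3d1cfcecdcac9c4c3c2c1c0bfbebdbbb9b5b4b3b2aeaaa8a7a09e9d9997968f88878382777675747372706f6e6b6968676665646361605f5e5c5b5a595857565554535251504f4e4d4c4b494845403f3e3c3b393531302928241d160f0e

def colNHESp5 : ℕ := 0x3ffefbf3dfaf3e3bf6ebd39f2e3c37eedbb35ead3a33e6cb931e2c382f80bc02e80b96ed000166c000000057ad56a53a5468009e0270000026cc9728000012400001200478c00000000004501121800002100830000000000007e00000000003e7a0000078ec0000000000000000074e5c376cd403466c8000620182f5cb562b54014a84e98025488d121407cf1d386cd19305cb152800992000088000000101e3800d180058000005000000488000000000003860000005000000000002000000000000c00000000000404000000000000000000000000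

def relHESp5 : List (List ((ℕ × ℕ) × ℕ)) := []

/-- the certificate -/
def CHESp5 : StemZP.ZRCert where
  p := 5
  s := 2
  w := 8
  N := 127
  β := 7
  hmR := 248
  hmQ := 224
  bs := []
  es := []
  specs := fun i => ((specNHESp5 >>> (11 * i)) % 2 ^ 11 / 2 ^ 7, (specNHESp5 >>> (11 * i)) % 2 ^ 7)
  unk := fun c => (unkNHESp5 >>> (8 * c)) % 2 ^ 8
  colT := fun b => (colNHESp5 >>> (7 * b)) % 2 ^ 7
  R := fun c => if c < 127 then (RLHESp5_0.getD ((c - 0) / 32) []).getD ((c - 0) % 32) 0 else 0
  rel := relHESp5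

end Cfsg.Agent.Lib.Helper6.MultD
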