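import Cfsg.Agent.Lib.Helper6.MultD.HESML
import Cfsg.Agent.Lib.Helper6.MultD.HESp5D

set_option autoImplicit false
set_option maxRecDepth 100000

/-! The subgroup `S4(4)` of the presented group `He` on 120 sets, data HESp5: the checks of the generators. -/

namespace Cfsg.Agent.Lib.Helper6.MultD

open Cfsg.Agent.Lib.Helper6.PM Cfsg.Agent.Lib.Helper6.HeM Cfsg.Agent.Lib.Helper1

theorem chk_tabHESp5_0 : chkTab heS wsHESp5 pmHESp5 0 = true := by decide +kernel

theorem chk_tabHESp5_1 : chkTab heS wsHESp5 pmHESp5 1 = true := by decide +kernel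

theorem chk_relPHESp5_0 : chkRelP heS DHESp5 pmHESp5 0 = true := by decide +kernel

theorem chk_relPHESp5_1 : chkRelP heS DHESp5 pmHESp5 1 = true := by decide +kernel

theorem chk_relPHESp5_2 : chkRelP heS DHESp5 pmHESp5 2 = true := by decide +kernel

theorem chk_relPHESp5_3 : chkRelP heS DHESp5 pmHESp5 3 = true := by decide +kernel

theorem chk_relPHESp5_4 : chkRelP heS DHESp5 pmHESp5 4 = true := by decide +kernel

theorem chk_relPHESp5_5 : chkRelP heS DHESp5 pmHESp5 5 = true := by decide +kernel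

theorem chk_ordPHESp5_0 : chkOrdP heS DHESp5 pmHESp5 0 = true := by decide +kernel

theorem chk_ordPHESp5_1 : chkOrdP heS DHESp5 pmHESp5 1 = true := by decide +kernel

theorem chk_lwPHESp5_0 : chkLwP heS wsHESp5 pmHESp5 lwHESp5 0 = true := by decide +kernel

theorem chk_lwPHESp5_1 : chkLwP heS wsHESp5 pmHESp5 lwHESp5 1 = true := by decide +kernel

theorem chk_lwPHESp5_2 : chkLwP heS wsHESp5 pmHESp5 lwHESp5 2 = true := by decide +kernel

theorem chk_lwPHESp5_3 : chkLwP heS wsHESp5 pmHESp5 lwHESp5 3 = true := by decide +kernel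

theorem chk_lwPHESp5_4 : chkLwP heS wsHESp5 pmHESp5 lwHESp5 4 = true := by decide +kernel

theorem chk_lwPHESp5_5 : chkLwP heS wsHESp5 pmHESp5 lwHESp5 5 = true := by decide +kernel

theorem chk_lwPHESp5_6 : chkLwP heS wsHESp5 pmHESp5 lwHESp5 6 = true := by decide +kernel

theorem chk_lwPHESp5_7 : chkLwP heS wsHESp5 pmHESp5 lwHESp5 7 = true := by decide +kernel

theorem coreHESp5 : CoreFacts heS DHESp5 wsHESp5 pmHESp5 lwHESp5 := by
  apply coreFacts_of_chk
  · rfl
  · intro i hi
    have h' : i < 2 := hi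
    interval_cases i
    · exact chk_tabHESp5_0
    · exact chk_tabHESp5_1
  · intro r hr
    have h' : r < 6 := hr
    interval_cases r
    · exact chk_relPHESp5_0
    · exact chk_relPHESp5_1
    · exact chk_relPHESp5_2
    · exact chk_relPHESp5_3
    · exact chk_relPHESp5_4
    · exact chk_relPHESp5_5
  · intro i hi
    have h' : i < 2 := hi
    interval_cases i
    · exact chk_ordPHESp5_0
    · exact chk_ordPHESp5_1
  · intro c hc
    have h' : c < 8 := hc
    interval_cases c
    · exact chk_lwPHESp5_0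
    · exact chk_lwPHESp5_1
    · exact chk_lwPHESp5_2
    · exact chk_lwPHESp5_3
    · exact chk_lwPHESp5_4
    · exact chk_lwPHESp5_5
    · exact chk_lwPHESp5_6
    · exact chk_lwPHESp5_7


end Cfsg.Agent.Lib.Helper6.MultD
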