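import Mathlib
import Cfsg.Agent.Lib.Helper6.MultD.HEp2D
import Cfsg.Agent.Lib.Helper6.MultD.HEp2Y1
import Cfsg.Agent.Lib.Helper6.Mult.Chunk

set_option autoImplicit false
set_option maxRecDepth 100000
set_option maxHeartbeats 8000000

/-! Certificate HEp2: check of the chunk 1 of the combination modulo 4. -/

namespace Cfsg.Agent.Lib.Helper6.MultD

open Cfsg.Agent.Lib.Helper1

theorem chunkHEp2_1 : Cfsg.Agent.Lib.Helper6.Mult.chunkOK DHEp2 4 ysHEp2_1 LHEp2_1 THEp2_1 = true := by
  decide +kernel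

end Cfsg.Agent.Lib.Helper6.MultD
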