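import Mathlib
import Cfsg.Agent.Lib.Helper6.MultD.HEp2H
import Cfsg.Agent.Lib.Helper6.MultD.HEp2K0
import Cfsg.Agent.Lib.Helper6.MultD.HEp2K1
import Cfsg.Agent.Lib.Helper6.MultD.HEp2K2
import Cfsg.Agent.Lib.Helper6.MultD.HEp2K3
import Cfsg.Agent.Lib.Helper6.MultD.HEp2K4
import Cfsg.Agent.Lib.Helper6.MultD.HEp2K5
import Cfsg.Agent.Lib.Helper6.MultD.HEp2K6
import Cfsg.Agent.Lib.Helper6.MultD.HEp2K7

set_option autoImplicit false
set_option maxRecDepth 100000
set_option maxHeartbeats 8000000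

/-! Certificate HEp2: the check of the combination modulo 4 and the full certificate. -/

namespace Cfsg.Agent.Lib.Helper6.MultD

open Cfsg.Agent.Lib.Helper1

open Cfsg.Agent.Lib.Helper6.Mult StemZP

theorem chunksHEp2 : ∀ t ∈ trHEp2, chunkOK DHEp2 4 t.1 t.2.1 t.2.2 = true := by
  intro t ht
  simp only [trHEp2, List.mem_cons, List.not_mem_nil, or_false] at ht
  rcases ht with rfl | rfl | rfl | rfl | rfl | rfl | rfl | rfl
  · exact chunkHEp2_0
  · exact chunkHEp2_1
  · exact chunkHEp2_2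
  · exact chunkHEp2_3
  · exact chunkHEp2_4
  · exact chunkHEp2_5
  · exact chunkHEp2_6
  · exact chunkHEp2_7

theorem hTHEp2 : (trHEp2.map fun t => t.2.2).sum < StemZD.X := by decide +kernel

theorem hdigHEp2 : ((List.range DHEp2.n).all fun c =>
    (trHEp2.map fun t => t.2.1).sum / StemZD.X ^ c % StemZD.X % 4 == if c = 4115 then 2 else 0) = true := by
  decide +kernel

theorem chk_relHEp2 : chkRel DHEp2 CHEp2.toP (trHEp2.map fun t => t.1).flatten 4115 1 = true :=
  chkRel_of_chunks DHEp2 CHEp2.toP trHEp2 4115 1 chunksHEp2 hTHEp2 hdigHEp2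

theorem chk_certHEp2 : chkCertR DHEp2 CHEp2 = true := by
  apply chkCertR_of_main DHEp2 CHEp2 chk_mainHEp2
  show (List.range 1).all _ = true
  simp only [List.range_one, List.all_cons, List.all_nil, Bool.and_true]
  exact chk_relHEp2

end Cfsg.Agent.Lib.Helper6.MultD
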