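import Cfsg.Agent.Lib.Helper6.Mult.HeA
import Cfsg.Agent.Lib.Helper6.MultD.HEp7D

set_option autoImplicit false
set_option maxRecDepth 100000

/-! The presented group `He` on 2058 points, data HEp7: the checks of the generators. -/

namespace Cfsg.Agent.Lib.Helper6.MultD

open Cfsg.Agent.Lib.Helper6.PM Cfsg.Agent.Lib.Helper6.HeM Cfsg.Agent.Lib.Helper1

theorem chk_tabHEp7_0 : chkTab heModel wsHEp7 pmHEp7 0 = true := by decide +kernel

theorem chk_tabHEp7_1 : chkTab heModel wsHEp7 pmHEp7 1 = true := by decide +kernel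

theorem chk_relPHEp7_0 : chkRelP heModel DHEp7 pmHEp7 0 = true := by decide +kernel

theorem chk_relPHEp7_1 : chkRelP heModel DHEp7 pmHEp7 1 = true := by decide +kernel

theorem chk_relPHEp7_2 : chkRelP heModel DHEp7 pmHEp7 2 = true := by decide +kernel

theorem chk_ordPHEp7_0 : chkOrdP heModel DHEp7 pmHEp7 0 = true := by decide +kernel

theorem chk_ordPHEp7_1 : chkOrdP heModel DHEp7 pmHEp7 1 = true := by decide +kernel

theorem chk_lwPHEp7_0 : chkLwP heModel wsHEp7 pmHEp7 lwHEp7 0 = true := by decide +kernel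

theorem chk_lwPHEp7_1 : chkLwP heModel wsHEp7 pmHEp7 lwHEp7 1 = true := by decide +kernel

theorem chk_lwPHEp7_2 : chkLwP heModel wsHEp7 pmHEp7 lwHEp7 2 = true := by decide +kernel

theorem chk_lwPHEp7_3 : chkLwP heModel wsHEp7 pmHEp7 lwHEp7 3 = true := by decide +kernel

theorem chk_lwPHEp7_4 : chkLwP heModel wsHEp7 pmHEp7 lwHEp7 4 = true := by decide +kernel

theorem chk_lwPHEp7_5 : chkLwP heModel wsHEp7 pmHEp7 lwHEp7 5 = true := by decide +kernel

theorem chk_lwPHEp7_6 : chkLwP heModel wsHEp7 pmHEp7 lwHEp7 6 = true := by decide +kernel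

theorem coreHEp7 : CoreFacts heModel DHEp7 wsHEp7 pmHEp7 lwHEp7 := by
  apply coreFacts_of_chk
  · rfl
  · intro i hi
    have h' : i < 2 := hi
    interval_cases i
    · exact chk_tabHEp7_0
    · exact chk_tabHEp7_1
  · intro r hr
    have h' : r < 3 := hr
    interval_cases r
    · exact chk_relPHEp7_0
    · exact chk_relPHEp7_1
    · exact chk_relPHEp7_2
  · intro i hi
    have h' : i < 2 := hi
    interval_cases i
    · exact chk_ordPHEp7_0
    · exact chk_ordPHEp7_1
  · intro c hc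
    have h' : c < 7 := hc
    interval_cases c
    · exact chk_lwPHEp7_0
    · exact chk_lwPHEp7_1
    · exact chk_lwPHEp7_2
    · exact chk_lwPHEp7_3
    · exact chk_lwPHEp7_4
    · exact chk_lwPHEp7_5
    · exact chk_lwPHEp7_6

theorem chk_ptsHEp7 : chkPts heModel DHEp7 wsHEp7 pmHEp7 PLHEp7 PLIHEp7 = true := by decide +kernel

end Cfsg.Agent.Lib.Helper6.MultD
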