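import Mathlib

set_option autoImplicit false
set_option maxRecDepth 100000
set_option maxHeartbeats 8000000

/-! Certificate J2Tp2: chunk 0 of the combination modulo 4. -/

namespace Cfsg.Agent.Lib.Helper6.MultD

def ysJ2Tp2_0 : List ((ℕ × ℕ) × ℕ) := [((1, 0), 3), ((1, 5), 1), ((1, 17), 2), ((1, 22), 1), ((1, 25), 3), ((1, 27), 1), ((1, 47), 1), ((2, 1), 2), ((2, 3), 2), ((2, 9), 1), ((2, 20), 3), ((1, 6), 3), ((1, 8), 3), ((1, 23), 3), ((1, 33), 3), ((1, 52), 1), ((1, 55), 1), ((1, 60), 2), ((1, 72), 2), ((1, 75), 1), ((1, 83), 2), ((2, 7), 1), ((2, 16), 2), ((2, 24), 1), ((2, 26), 1), ((2, 30), 1), ((2, 32), 2), ((2, 39), 1), ((1, 31), 2), ((1, 41), 2), ((1, 45), 3), ((1, 56), 3), ((1, 70), 1), ((1, 96), 1), ((1, 97), 2), ((1, 98), 3), ((2, 18), 2), ((2, 34), 3), ((2, 66), 1), ((5, 0), 3), ((2, 44), 1), ((3, 12), 1), ((5, 1), 2), ((5, 6), 2), ((3, 0), 2)]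

def LJ2Tp2_0 : ℕ := 0x500000000000000050000000100000000000000010000000100000004000000010000000100000000000000020000000100000003000000030000000100000001000000010000000300000001000000030000000400000000000000010000000100000000000000040000000100000000000000000000000200000003000000000000000300000001000000010000000100000003000000000000000300000001000000040000000100000000000000010000000200000000000000020000000100000000000000050000000000000005000000000000000300000001000000020000000300000001000000040000000500000001000000010000000100000001000000000000000500000000000000050000000300000007000000030000000100000002000000030000000400000001000000040000000100000005000000040000000300000003000000020000000700000004000000050000000600000004000000060000000500000002000000020000000400000006000000060000000600000000000000090000000600000003000000070000000700000000000000090000000600000004000000020000000500000001000000010000000000000002000000020000000100000000000000020000000100000001000000040000000000000000000000020000000000000000000000000000000100000001000000000000000000000004000000000000000300000000000000030000000100000001000000000000000100000000000000030000000000000002000000030000000300000000000000030000000400000000000000000000000100000001000000020000000000000003000000010000000200000009000000000000000300000001000000060000000300000003000000000000000200000000000000030000000100000003000000000000000600000000000000000000000100000004000000000000000300000002000000030000000300000003000000000000000300000000000000020000000100000003000000050000000000000005000000030000000300000001000000060000000000000007000000040000000200000003000000040000000700000006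

def TJ2Tp2_0 : ℕ := 472

end Cfsg.Agent.Lib.Helper6.MultD
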