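import Mathlib

set_option autoImplicit false
set_option maxRecDepth 100000
set_option maxHeartbeats 8000000

/-! Certificate J2Tp2: chunk 1 of the combination modulo 4. -/

namespace Cfsg.Agent.Lib.Helper6.MultD

def ysJ2Tp2_1 : List ((ℕ × ℕ) × ℕ) := [((3, 2), 1), ((3, 6), 2), ((4, 4), 2), ((4, 6), 3), ((5, 3), 3), ((5, 13), 2), ((6, 4), 2), ((6, 8), 3), ((3, 11), 3), ((3, 13), 2), ((3, 17), 3), ((3, 19), 1), ((3, 22), 2), ((3, 24), 2), ((3, 25), 1), ((3, 51), 1), ((3, 54), 1), ((3, 56), 1), ((3, 58), 2), ((4, 21), 2), ((5, 2), 1), ((5, 4), 1), ((5, 20), 1), ((5, 29), 2), ((5, 37), 3), ((6, 1), 3), ((6, 2), 2), ((6, 22), 2), ((3, 9), 3), ((4, 39), 1), ((0, 3), 2), ((0, 4), 2), ((0, 6), 2), ((0, 7), 2), ((0, 12), 2), ((0, 13), 2), ((0, 19), 2), ((0, 21), 2), ((0, 28), 2), ((0, 32), 2), ((0, 45), 2), ((0, 65), 2), ((0, 83), 2), ((0, 95), 2)]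

def LJ2Tp2_1 : ℕ := 0x80000000f000000080000001f000000030000000000000003000000030000000200000007000000030000000400000002000000030000000500000009000000030000000b000000070000000500000003000000090000000800000004000000030000000700000000000000000000000300000008000000040000000a0000000500000004000000090000000b000000030000000700000005000000040000000d0000000f000000080000000300000008000000070000000a0000000800000006000000070000000400000003000000040000000700000004000000090000000b0000000e00000005000000070000000800000003000000070000000b0000000b000000070000000800000003000000040000000f0000000100000009000000090000001300000002000000050000000c000000070000000c0000000b000000070000000800000009000000090000000a0000000900000014000000070000000a00000008000000120000000f0000000a00000002000000140000000e000000120000001a00000004000000130000001200000009000000090000000500000000000000030000000200000000000000020000000300000003000000030000000800000006000000020000000300000000000000020000000300000003000000040000000400000000000000020000000400000000000000080000000300000003000000000000000000000000000000000000000100000000000000010000000b000000030000000000000003000000000000000100000000000000060000000100000005000000040000000500000000000000040000000000000007000000030000000200000000000000090000000700000006000000030000000000000001000000030000000200000005000000090000000400000006000000040000000100000003000000090000000400000002000000000000000c0000000700000000000000000000000d00000002000000010000000d0000000d0000000c00000009000000080000000a000000030000000500000003000000080000000b0000000100000001000000070000000a0000000000000005000000080000000a00000001000000080000000d00000006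

def TJ2Tp2_1 : ℕ := 1246

end Cfsg.Agent.Lib.Helper6.MultD
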