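import Mathlib
import Cfsg.Agent.Lib.Helper1.StemZP7
import Cfsg.Agent.Lib.Helper6.MultD.J2Tp2R0
import Cfsg.Agent.Lib.Helper6.MultD.J2Tp2Y0
import Cfsg.Agent.Lib.Helper6.MultD.J2Tp2Y1

set_option autoImplicit false
set_option maxRecDepth 100000
set_option maxHeartbeats 8000000

/-! Certificate J2Tp2 for the prime 2. -/

namespace Cfsg.Agent.Lib.Helper6.MultD

open Cfsg.Agent.Lib.Helper1

def specNJ2Tp2 : ℕ := 0x62716c0b01a9aa5a7694a2284a0a156edba6e1b66cdb266598659936458d62d81c2306c128da0e0681186615826028fa1a8167d8c6112ca0142495234891238ce2384e0344c9318b82d4ad2a49f4c5274811e4691844107400d332cc8314bc2dcb42c8a82849d25c88218824711442503404af298a426c992589524c912348c21480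

def unkNJ2Tp2 : ℕ := 0xcbcac9c8c7c6c4c3c2c1bfbebdbcbbbab8b6b4b3b2b1b0afadaaa7a6a4a2a09f9d9b989792908f8e85817a726f6e636261605f5e5d5c5b5a5958575655545251504f4e4d4c4a4947464441403f3e3d3b3a38353433312e2d2c2b292523211f1e1a100f0e0b0a070302

def colNJ2Tp2 : ℕ := 0xd3a33e6cb90063c587000bf7aedcb7680590160057ad56a53a40288001400009f3804d013004b940248090000478c0000001140448708000000000000020800002000000000000fc000000000000f80007af00000000000000000076e9cb86ed9ab466c98b05eb96ac00ad529509d325009118044840200000f9e3a70d8034640180000b962a00a00004c911200078000007001a0060016280000024000000000000000080e180000a1000006000000404000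

def trJ2Tp2 : List (List ((ℕ × ℕ) × ℕ) × ℕ × ℕ) := [(ysJ2Tp2_0, LJ2Tp2_0, TJ2Tp2_0), (ysJ2Tp2_1, LJ2Tp2_1, TJ2Tp2_1)]

def relJ2Tp2 : List (List ((ℕ × ℕ) × ℕ)) := [(trJ2Tp2.map fun t => t.1).flatten]

/-- the certificate -/
def CJ2Tp2 : StemZP.ZRCert where
  p := 2
  s := 2
  w := 5
  N := 105
  β := 1
  hmR := 30
  hmQ := 16
  bs := [195]
  es := [1]
  specs := fun i => ((specNJ2Tp2 >>> (10 * i)) % 2 ^ 10 / 2 ^ 7, (specNJ2Tp2 >>> (10 * i)) % 2 ^ 7)
  unk := fun c => (unkNJ2Tp2 >>> (8 * c)) % 2 ^ 8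
  colT := fun b => (colNJ2Tp2 >>> (7 * b)) % 2 ^ 7
  R := fun c => if c < 105 then (RLJ2Tp2_0.getD ((c - 0) / 32) []).getD ((c - 0) % 32) 0 else 0
  rel := relJ2Tp2

end Cfsg.Agent.Lib.Helper6.MultD
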