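import Mathlib
import Cfsg.Agent.Lib.Helper1.StemSA1

set_option autoImplicit false
set_option maxRecDepth 100000
set_option maxHeartbeats 8000000

/-! Labelled action data J2Tp2: 2 generators on 100 points, prime 2. -/

namespace Cfsg.Agent.Lib.Helper6.MultD

open Cfsg.Agent.Lib.Helper1

/-- the points, in the order of the tree -/
def PLNJ2Tp2 : ℕ := 0xb17b1d77c755d2ace102ab2be8267f519b087012ad95863b9758a123a306db262a0d95109d0925d2f035356a4248862ecd7ad2f9c0c880cc8a4c749a738cb6ab7038f8c514cf6eec81e2e0d63c0a08f84185858d1244500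

def PLJ2Tp2 (j : ℕ) : ℕ := (PLNJ2Tp2 >>> (7 * j)) % 2 ^ 7

/-- the inverse table of the points -/
def PLINJ2Tp2 : ℕ := 0xc31a535538969a82cabe3c16cdd23f721d528796246d2d031925d1af9f1614ea77d58c251e45a2671a2aa301fd0acde60dbb60abe75526b08899cd91242f287acceae1e19e1644e011130842070a041bb329c5881c29280

def PLIJ2Tp2 (q : ℕ) : ℕ := (PLINJ2Tp2 >>> (7 * q)) % 2 ^ 7

/-- the generators as words in the letters of the presentation -/
def wsJ2Tp2 : List (List ℕ) := [[3, 4], [0, 1, 2]]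

/-- the letters of the presentation as words in the generators -/
def lwJ2Tp2 : List (List ℕ) := [[1, 1, 1, 1, 0, 1, 0, 0, 1, 1, 1, 1, 0, 1, 0, 0], [1, 1, 0, 1, 1, 1, 0, 0, 1, 1, 0, 1, 1, 1, 0, 0], [1, 0, 1, 1, 0, 0, 1, 1, 1, 0, 1, 1, 0, 0, 1, 1], [1, 0, 1, 1, 0, 1, 0, 1, 0, 0, 1, 1, 0, 0, 1, 0, 0, 1, 0, 1, 1, 0, 1], [1, 0, 1, 1, 0, 1, 0, 1, 0, 0, 1, 1, 0, 0, 1, 0, 0, 1, 0, 1, 1, 0, 1, 0]]

/-- the tables of the generators on the points -/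
def pmNJ2Tp2 : List ℕ := [0xc78a5e0bf7aebb756e158aecd956a6b5ad1593db6198a94c98ef6326b30e22140fe2dc7968eb99ade855a8d0c15614974e94ae4125104d8e490113e167dc25384d8990a5d79a289c601208c88d3c00506101cb02080c789, 0xa123145b949b38bb265637ee5db19f8624054bd6c69b2df5ec07984e4e92c41b75aa9642d6d54795c9ae371efb24732c8c870961c4480953a23cc3a50d19872a95bbd08243174c0401f56a45032250c9a207410d1c2c405]

def pmJ2Tp2 (i q : ℕ) : ℕ := (pmNJ2Tp2.getD i 0 >>> (7 * q)) % 2 ^ 7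

def piNJ2Tp2 : List ℕ := [0xc78b0e0b322c37a57a9cb9ef1a2fbf46dd68a9945cba924da831aba1ab5191b3aea6d032e273e9929ac32d1cac484fd6932f014bd76e48b656cd8313e3572c54313a5468901e3868c050c28a121e2080e042c4870010181, 0x84c719c409cc62be6aa14987b0a2c16af23bb559acaf7205bb32ac56893a9d0a4268bd4b3c94d552e4c7772234586e60b65c41fbe78e9c376ad073260bc1ad56a5426480509f3a6cc972c1ca93002c88f1a305080c14202]

def parNJ2Tp2 : ℕ := 0xe1dcd5d353d14bcac848c7c545c44342c1bfbd3cba39b837b636b5b232b1b030af2fad2aa9a828a727a626a5a424a3a222a0209f9e1d9c1c9b1b9a9919981897171695159414931392129111908f8d0d8c0c890988088786068505840483828101800000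

def relsJ2Tp2 : List (List ℕ × List ℕ) := [([0, 1, 0, 1, 1, 1, 1, 0, 1], [1, 0, 1, 1, 1, 1, 0, 1, 0]), ([0, 1, 0, 1, 1, 1, 1, 0, 0, 1], [1, 0, 0, 1, 1, 1, 1, 0, 1, 0]), ([0, 1, 1, 0, 1, 1, 1, 0, 1, 1], [1, 1, 0, 1, 1, 1, 0, 1, 1, 0]), ([0, 1, 1, 1, 1, 0, 0, 1, 1, 1, 0], [1, 1, 0, 1, 0, 0, 1, 1, 0, 1])]

/-- the data of the labelled action -/
def DJ2Tp2 : StemSA.SAData where
  k := 2
  m := 100
  pi := fun i j => (piNJ2Tp2.getD i 0 >>> (7 * j)) % 2 ^ 7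
  par := fun j => ((parNJ2Tp2 >>> (8 * j)) % 2 ^ 8 / 2 ^ 7, (parNJ2Tp2 >>> (8 * j)) % 2 ^ 7)
  ords := [3, 5]
  rels := relsJ2Tp2
  specs := []
  Bm := fun _ => 0

end Cfsg.Agent.Lib.Helper6.MultD
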