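import Cfsg.Agent.Lib.Helper6.Mult.PM3
import Cfsg.Agent.Lib.Helper2.J2Model
import Cfsg.Agent.Lib.Helper6.MultD.J2Tp2D

set_option autoImplicit false
set_option maxRecDepth 100000

/-! The presented group `J2` on 100 points, data J2Tp2: the checks of the generators. -/

namespace Cfsg.Agent.Lib.Helper6.MultD

open Cfsg.Agent.Lib.Helper6.PM Cfsg.Agent.Lib.Helper2.J2M Cfsg.Agent.Lib.Helper1

theorem chk_tabJ2Tp2_0 : chkTab j2Model wsJ2Tp2 pmJ2Tp2 0 = true := by decide +kernel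

theorem chk_tabJ2Tp2_1 : chkTab j2Model wsJ2Tp2 pmJ2Tp2 1 = true := by decide +kernel

theorem chk_relPJ2Tp2_0 : chkRelP j2Model DJ2Tp2 pmJ2Tp2 0 = true := by decide +kernel

theorem chk_relPJ2Tp2_1 : chkRelP j2Model DJ2Tp2 pmJ2Tp2 1 = true := by decide +kernel

theorem chk_relPJ2Tp2_2 : chkRelP j2Model DJ2Tp2 pmJ2Tp2 2 = true := by decide +kernel

theorem chk_relPJ2Tp2_3 : chkRelP j2Model DJ2Tp2 pmJ2Tp2 3 = true := by decide +kernel

theorem chk_ordPJ2Tp2_0 : chkOrdP j2Model DJ2Tp2 pmJ2Tp2 0 = true := by decide +kernel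

theorem chk_ordPJ2Tp2_1 : chkOrdP j2Model DJ2Tp2 pmJ2Tp2 1 = true := by decide +kernel

theorem chk_lwPJ2Tp2_0 : chkLwP j2Model wsJ2Tp2 pmJ2Tp2 lwJ2Tp2 0 = true := by decide +kernel

theorem chk_lwPJ2Tp2_1 : chkLwP j2Model wsJ2Tp2 pmJ2Tp2 lwJ2Tp2 1 = true := by decide +kernel

theorem chk_lwPJ2Tp2_2 : chkLwP j2Model wsJ2Tp2 pmJ2Tp2 lwJ2Tp2 2 = true := by decide +kernel

theorem chk_lwPJ2Tp2_3 : chkLwP j2Model wsJ2Tp2 pmJ2Tp2 lwJ2Tp2 3 = true := by decide +kernel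

theorem chk_lwPJ2Tp2_4 : chkLwP j2Model wsJ2Tp2 pmJ2Tp2 lwJ2Tp2 4 = true := by decide +kernel

theorem coreJ2Tp2 : CoreFacts j2Model DJ2Tp2 wsJ2Tp2 pmJ2Tp2 lwJ2Tp2 := by
  apply coreFacts_of_chk
  · rfl
  · intro i hi
    have h' : i < 2 := hi
    interval_cases i
    · exact chk_tabJ2Tp2_0
    · exact chk_tabJ2Tp2_1
  · intro r hr
    have h' : r < 4 := hr
    interval_cases r
    · exact chk_relPJ2Tp2_0
    · exact chk_relPJ2Tp2_1
    · exact chk_relPJ2Tp2_2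
    · exact chk_relPJ2Tp2_3
  · intro i hi
    have h' : i < 2 := hi
    interval_cases i
    · exact chk_ordPJ2Tp2_0
    · exact chk_ordPJ2Tp2_1
  · intro c hc
    have h' : c < 5 := hc
    interval_cases c
    · exact chk_lwPJ2Tp2_0
    · exact chk_lwPJ2Tp2_1
    · exact chk_lwPJ2Tp2_2
    · exact chk_lwPJ2Tp2_3
    · exact chk_lwPJ2Tp2_4

theorem chk_ptsJ2Tp2 : chkPts j2Model DJ2Tp2 wsJ2Tp2 pmJ2Tp2 PLJ2Tp2 PLIJ2Tp2 = true := by decide +kernel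

end Cfsg.Agent.Lib.Helper6.MultD
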