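import Mathlib
import Cfsg.Agent.Lib.Helper1.StemSA1

set_option autoImplicit false
set_option maxRecDepth 100000
set_option maxHeartbeats 8000000

/-! Labelled action data J2Tp5: 2 generators on 100 points, prime 5. -/

namespace Cfsg.Agent.Lib.Helper6.MultD

open Cfsg.Agent.Lib.Helper1

/-- the points, in the order of the tree -/
def PLNJ2Tp5 : ℕ := 0x953209b4eb6b49b7526c2aeb286346ca2295f56361b965cb36229ada8b80c195701c3c9f75d34490c43bbc3821a7f1db51c52cba54c4e43d027afd82d4a72824a900c7d4d83738890ae0c746912a2480b3e1410f280c380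

def PLJ2Tp5 (j : ℕ) : ℕ := (PLNJ2Tp5 >>> (7 * j)) % 2 ^ 7

/-- the inverse table of the points -/
def PLINJ2Tp5 : ℕ := 0xa8ae64242cdd4bb712520af7675a2c796557676ce2558ee255d361d16d630be5e5d23c68e64bd28b62b8914a3959e42f567e6a81cbe9d437a6488990e88713c0c2041527c5834c6c60908c86981118535023c3310415180

def PLIJ2Tp5 (q : ℕ) : ℕ := (PLINJ2Tp5 >>> (7 * q)) % 2 ^ 7

/-- the generators as words in the letters of the presentation -/
def wsJ2Tp5 : List (List ℕ) := [[1, 4], [2, 3]]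

/-- the letters of the presentation as words in the generators -/
def lwJ2Tp5 : List (List ℕ) := [[1, 1, 1, 1], [1, 1, 1, 1, 0, 1, 1, 1, 1, 0, 1, 1, 1, 1, 0, 1, 1, 1, 1, 0, 1, 1, 1, 1], [0, 1, 1, 1, 1, 1, 0, 1, 1, 1, 1, 0, 1, 1, 1, 1, 0, 1, 1, 1, 1, 0, 1, 1, 1, 0], [0, 1, 1, 1, 0, 1, 1, 1, 1, 0, 1, 1, 1, 1, 0, 1, 1, 1, 1, 0, 1, 1, 1, 1, 0, 1, 0], [1, 1, 1, 1, 0, 1, 1, 1, 1, 0, 1, 1, 1, 1, 0, 1, 1, 1, 1, 0, 1, 1, 1, 1, 0]]

/-- the tables of the generators on the points -/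
def pmNJ2Tp5 : List ℕ := [0xaf767de8f8315bb8ee253c756b32b0c1ec5c32dcac9d2652abed68594d0613f80868bab4f26b63ae233369512525a557cc53215a5370d4313081f222231b924e5c723344d7052c70f82066459e1a2030a0024a011e40207, 0xc13ad637cf5e5d990dd4d6b85c595d4e957c4dd65ba906e47533ef2baccd1cabf19051912da2f7f61da58466a9d8126845348969c88493a66244ab628e458d647840e50c02875458d9f48048211e281132e60304000c609]

def pmJ2Tp5 (i q : ℕ) : ℕ := (pmNJ2Tp5.getD i 0 >>> (7 * q)) % 2 ^ 7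

def piNJ2Tp5 : List ℕ := [0xb95ac5fc13e763974a4e1a98a1d7836a53fbd762bbb746cb86ed66b4aace9b2a0bd6b998ade488e9e34485011a97c85ea4747581c6c7cd2c62617164c5552826949222280f0e3664b8b1450407203c28d180c4820c10001, 0x7d6f18c5141b10c4a9048ab66f42c382fae7b1cbddb969158a71abccad507d2a33e73a9b2e549091204587058bf2894cbc76e40b86ed5a3364c17ad36b15a94e992234278f9d3868c160c54992220068e122c5080e14182]

def parNJ2Tp5 : ℕ := 0x5c56d3d2d14fcccb4bca49c8c5c343c241c0bf3fbebdbb3bbab9b8383735b434b333b232b02f2dacab2baaa8a727a6a5a4a323a2a121a09e9d1d9c1c9b9a1a9998189716951594931392129111908e0e8d8c8b0b0a880807868505848303820281800000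

def relsJ2Tp5 : List (List ℕ × List ℕ) := [([0, 1, 0, 1, 0, 1, 1, 1, 1, 1, 1, 0, 1], [1, 0, 1, 1, 0, 1, 0, 1, 1, 1, 1, 1, 0]), ([1, 0, 1, 0, 1, 1, 1, 1, 1, 1, 1, 0, 1], [0, 1, 0, 1, 1, 1, 0]), ([1, 1, 1, 0, 1, 1, 1, 1, 1, 1, 1, 0, 1], [0, 1, 1, 1, 1, 1, 1, 1, 0, 1, 0, 1, 0]), ([1, 1, 0, 1, 0, 1, 0, 1, 0, 1, 0, 1, 1], [0, 1, 0, 1, 1, 1, 1, 0, 1, 0, 1, 1, 0])]

/-- the data of the labelled action -/
def DJ2Tp5 : StemSA.SAData where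
  k := 2
  m := 100
  pi := fun i j => (piNJ2Tp5.getD i 0 >>> (7 * j)) % 2 ^ 7
  par := fun j => ((parNJ2Tp5 >>> (8 * j)) % 2 ^ 8 / 2 ^ 7, (parNJ2Tp5 >>> (8 * j)) % 2 ^ 7)
  ords := [2, 8]
  rels := relsJ2Tp5
  specs := []
  Bm := fun _ => 0

end Cfsg.Agent.Lib.Helper6.MultD
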