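import Cfsg.Agent.Lib.Helper6.MultD.J2UML
import Cfsg.Agent.Lib.Helper6.MultD.J2Up2D
import Cfsg.Agent.Lib.Helper6.MultD.J2Up3D
import Cfsg.Agent.Lib.Helper6.MultD.J2Tp2D
import Cfsg.Agent.Lib.Helper6.MultD.J2Tp3D
import Cfsg.Agent.Lib.Helper6.MultD.J2Tp5D
import Cfsg.Agent.Lib.Helper6.WP9

set_option autoImplicit false
set_option maxRecDepth 100000

/-! The subgroup `U3(3)` of the presented group `J2`: the checks of the element of order 6 of the stabilizer of a set, and of the orders of the generators. -/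

namespace Cfsg.Agent.Lib.Helper6.MultD

open Cfsg.Agent.Lib.Helper6.PM Cfsg.Agent.Lib.Helper2.J2M Cfsg.Agent.Lib.Helper1

open Cfsg.Agent.Lib.Helper6.TC

/-- the generators of the subgroup fix the first point -/
theorem fixJ2UM : ∀ i < 2, pmJ2UM i 0 = 0 := by decide +kernel

theorem PL_zeroJ2T : PLJ2Tp2 0 = 0 ∧ PLJ2Tp3 0 = 0 ∧ PLJ2Tp5 0 = 0 := by decide +kernel

/-- the element of order 6 stabilizes the first set, its square and its cube move some sets -/
theorem chk_stab6 : DJ2Up2.actW w6J2Up2 0 = 0 ∧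
    DJ2Up2.actW (w6J2Up2 ++ w6J2Up2) 1 ≠ 1 ∧
    DJ2Up2.actW (w6J2Up2 ++ w6J2Up2 ++ w6J2Up2) 1 ≠ 1 := by
  decide +kernel

theorem chk_w6 : ((List.range 100).all fun q =>
    wappS pmJ2Up2 (List.replicate 6 w6J2Up2).flatten q == q) = true := by decide +kernel

/-- the product of the two generators has order dividing 8 -/
theorem chk_xy8 : ((List.range 100).all fun q =>
    wappS pmJ2Up2 (List.replicate 8 [0, 1]).flatten q == q) = true := by decide +kernel

theorem chk_masks0 : masksJ2Up3 0 = masksJ2Up2 0 := by decide +kernel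

end Cfsg.Agent.Lib.Helper6.MultD
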