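import Mathlib

set_option autoImplicit false

/-! The subgroup `U3(3)` of the presented group `J2`: the generators and their tables. -/

namespace Cfsg.Agent.Lib.Helper6.MultD

/-- the generators of the subgroup as words in the letters of the presentation -/
def wsJ2UM : List (List ℕ) := [[0, 1, 0, 2, 1], [1, 0, 1, 2, 1, 3, 2, 4, 3]]

/-- the tables of the generators on the points -/
def pmNJ2UM : List ℕ := [0x7142c2a81862d48f46cdeb7590d261724b1848e5ab7aeed5fae9d22f2cff1c89f126893076741454cdcc19831367cf2a8368c8a8d32e82dd72796ac2edd3141c4634a0e3c98a522c0a886d480604717253ecc4044048d00, 0x2ad2e057b48d4e7f7edd49f32c3e6b86150782e894924712b96a1b2d94b8748ac999a0441cee0709481c80066c52428457b58d1a7a6362297774c84267e1838c920de2ce9b8c2e0991baabc7d930196303cc55098e85c80]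

def pmJ2UM (i q : ℕ) : ℕ := (pmNJ2UM.getD i 0 >>> (7 * q)) % 2 ^ 7

end Cfsg.Agent.Lib.Helper6.MultD
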