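import Mathlib
import Cfsg.Agent.Lib.Helper6.MultD.J2Tp2H
import Cfsg.Agent.Lib.Helper6.MultD.J2Tp2K0
import Cfsg.Agent.Lib.Helper6.MultD.J2Tp2K1

set_option autoImplicit false
set_option maxRecDepth 100000
set_option maxHeartbeats 8000000

/-! Certificate J2Tp2: the check of the combination modulo 4 and the full certificate. -/

namespace Cfsg.Agent.Lib.Helper6.MultD

open Cfsg.Agent.Lib.Helper1

open Cfsg.Agent.Lib.Helper6.Mult StemZP

theorem chunksJ2Tp2 : ∀ t ∈ trJ2Tp2, chunkOK DJ2Tp2 4 t.1 t.2.1 t.2.2 = true := by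
  intro t ht
  simp only [trJ2Tp2, List.mem_cons, List.not_mem_nil, or_false] at ht
  rcases ht with rfl | rfl
  · exact chunkJ2Tp2_0
  · exact chunkJ2Tp2_1

theorem hTJ2Tp2 : (trJ2Tp2.map fun t => t.2.2).sum < StemZD.X := by decide +kernel

theorem hdigJ2Tp2 : ((List.range DJ2Tp2.n).all fun c =>
    (trJ2Tp2.map fun t => t.2.1).sum / StemZD.X ^ c % StemZD.X % 4 == if c = 195 then 2 else 0) = true := by
  decide +kernel

theorem chk_relJ2Tp2 : chkRel DJ2Tp2 CJ2Tp2.toP (trJ2Tp2.map fun t => t.1).flatten 195 1 = true :=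
  chkRel_of_chunks DJ2Tp2 CJ2Tp2.toP trJ2Tp2 195 1 chunksJ2Tp2 hTJ2Tp2 hdigJ2Tp2

theorem chk_certJ2Tp2 : chkCertR DJ2Tp2 CJ2Tp2 = true := by
  apply chkCertR_of_main DJ2Tp2 CJ2Tp2 chk_mainJ2Tp2
  show (List.range 1).all _ = true
  simp only [List.range_one, List.all_cons, List.all_nil, Bool.and_true]
  exact chk_relJ2Tp2

end Cfsg.Agent.Lib.Helper6.MultD
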