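import Mathlib
import Cfsg.Agent.Lib.Helper1.StemZP7
import Cfsg.Agent.Lib.Helper6.MultD.J2Tp3R0

set_option autoImplicit false
set_option maxRecDepth 100000
set_option maxHeartbeats 8000000

/-! Certificate J2Tp3 for the prime 3. -/

namespace Cfsg.Agent.Lib.Helper6.MultD

open Cfsg.Agent.Lib.Helper1

def specNJ2Tp3 : ℕ := 0x2868b21a85a0c62185c2a8da16838721384a0163b02c0222876158460b8120064d82a020d82981a0a0356d464c60583a08809364f52552142465104052a48914431064110037cd8350d2338ca314b92a4a427cdc358cf32cc930cc12fcbb2e0b72d4b42ccb22bcad2aca728ca12749c268982589524c922448e22c8a220872148320880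

def unkNJ2Tp3 : ℕ := 0xcbcac9c8c7c6c5c4c3c2c1c0bfbebdbcbbbab9b8b4b3b2b1adabaaa8a5a09b9a99959392918d837a736e6d6b636261605f5e5d5b5a5958575554535251504e4d4c4a484746454442403e3d3c3a393631302e2c2a292826252422201f1e1b191714100f0d0c09060401

def colNJ2Tp3 : ℕ := 0xd3a33e6cb931e2c382fdebb72ddab362bd60000055a94e9000002880a13c04e0002680000004c0000000972a48000024008f1a280000220000000000000000860000000000000108000000000082000000101f807c0000000000007af1dba72e1b806cd5a3364018b05eb96ac00ad52900a00274c9522300880210080f9e0074e00006c0000000d1900600170058a94004c911004000f1c340001800580140000900000080e003050000200000c0020000080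

def relJ2Tp3 : List (List ((ℕ × ℕ) × ℕ)) := []

/-- the certificate -/
def CJ2Tp3 : StemZP.ZRCert where
  p := 3
  s := 2
  w := 6
  N := 105
  β := 3
  hmR := 60
  hmQ := 48
  bs := []
  es := []
  specs := fun i => ((specNJ2Tp3 >>> (10 * i)) % 2 ^ 10 / 2 ^ 7, (specNJ2Tp3 >>> (10 * i)) % 2 ^ 7)
  unk := fun c => (unkNJ2Tp3 >>> (8 * c)) % 2 ^ 8
  colT := fun b => (colNJ2Tp3 >>> (7 * b)) % 2 ^ 7
  R := fun c => if c < 105 then (RLJ2Tp3_0.getD ((c - 0) / 32) []).getD ((c - 0) % 32) 0 else 0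
  rel := relJ2Tp3

end Cfsg.Agent.Lib.Helper6.MultD
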