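import Mathlib
import Cfsg.Agent.Lib.Helper6.MultD.J2Tp3H

set_option autoImplicit false
set_option maxRecDepth 100000
set_option maxHeartbeats 8000000

/-! Certificate J2Tp3: the full certificate (no distinguished unknown). -/

namespace Cfsg.Agent.Lib.Helper6.MultD

open Cfsg.Agent.Lib.Helper1

open Cfsg.Agent.Lib.Helper6.Mult StemZP

theorem chk_certJ2Tp3 : chkCertR DJ2Tp3 CJ2Tp3 = true := by
  apply chkCertR_of_main DJ2Tp3 CJ2Tp3 chk_mainJ2Tp3
  show (List.range 0).all _ = true
  rfl

end Cfsg.Agent.Lib.Helper6.MultD
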