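import Cfsg.Agent.Lib.Helper6.Mult.PM3
import Cfsg.Agent.Lib.Helper2.J2Model
import Cfsg.Agent.Lib.Helper6.MultD.J2Tp5D

set_option autoImplicit false
set_option maxRecDepth 100000

/-! The presented group `J2` on 100 points, data J2Tp5: the checks of the generators. -/

namespace Cfsg.Agent.Lib.Helper6.MultD

open Cfsg.Agent.Lib.Helper6.PM Cfsg.Agent.Lib.Helper2.J2M Cfsg.Agent.Lib.Helper1

theorem chk_tabJ2Tp5_0 : chkTab j2Model wsJ2Tp5 pmJ2Tp5 0 = true := by decide +kernel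

theorem chk_tabJ2Tp5_1 : chkTab j2Model wsJ2Tp5 pmJ2Tp5 1 = true := by decide +kernel

theorem chk_relPJ2Tp5_0 : chkRelP j2Model DJ2Tp5 pmJ2Tp5 0 = true := by decide +kernel

theorem chk_relPJ2Tp5_1 : chkRelP j2Model DJ2Tp5 pmJ2Tp5 1 = true := by decide +kernel

theorem chk_relPJ2Tp5_2 : chkRelP j2Model DJ2Tp5 pmJ2Tp5 2 = true := by decide +kernel

theorem chk_relPJ2Tp5_3 : chkRelP j2Model DJ2Tp5 pmJ2Tp5 3 = true := by decide +kernel

theorem chk_ordPJ2Tp5_0 : chkOrdP j2Model DJ2Tp5 pmJ2Tp5 0 = true := by decide +kernel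

theorem chk_ordPJ2Tp5_1 : chkOrdP j2Model DJ2Tp5 pmJ2Tp5 1 = true := by decide +kernel

theorem chk_lwPJ2Tp5_0 : chkLwP j2Model wsJ2Tp5 pmJ2Tp5 lwJ2Tp5 0 = true := by decide +kernel

theorem chk_lwPJ2Tp5_1 : chkLwP j2Model wsJ2Tp5 pmJ2Tp5 lwJ2Tp5 1 = true := by decide +kernel

theorem chk_lwPJ2Tp5_2 : chkLwP j2Model wsJ2Tp5 pmJ2Tp5 lwJ2Tp5 2 = true := by decide +kernel

theorem chk_lwPJ2Tp5_3 : chkLwP j2Model wsJ2Tp5 pmJ2Tp5 lwJ2Tp5 3 = true := by decide +kernel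

theorem chk_lwPJ2Tp5_4 : chkLwP j2Model wsJ2Tp5 pmJ2Tp5 lwJ2Tp5 4 = true := by decide +kernel

theorem coreJ2Tp5 : CoreFacts j2Model DJ2Tp5 wsJ2Tp5 pmJ2Tp5 lwJ2Tp5 := by
  apply coreFacts_of_chk
  · rfl
  · intro i hi
    have h' : i < 2 := hi
    interval_cases i
    · exact chk_tabJ2Tp5_0
    · exact chk_tabJ2Tp5_1
  · intro r hr
    have h' : r < 4 := hr
    interval_cases r
    · exact chk_relPJ2Tp5_0
    · exact chk_relPJ2Tp5_1
    · exact chk_relPJ2Tp5_2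
    · exact chk_relPJ2Tp5_3
  · intro i hi
    have h' : i < 2 := hi
    interval_cases i
    · exact chk_ordPJ2Tp5_0
    · exact chk_ordPJ2Tp5_1
  · intro c hc
    have h' : c < 5 := hc
    interval_cases c
    · exact chk_lwPJ2Tp5_0
    · exact chk_lwPJ2Tp5_1
    · exact chk_lwPJ2Tp5_2
    · exact chk_lwPJ2Tp5_3
    · exact chk_lwPJ2Tp5_4

theorem chk_ptsJ2Tp5 : chkPts j2Model DJ2Tp5 wsJ2Tp5 pmJ2Tp5 PLJ2Tp5 PLIJ2Tp5 = true := by decide +kernel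

end Cfsg.Agent.Lib.Helper6.MultD
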