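import Mathlib
import Cfsg.Agent.Lib.Helper6.MultD.J2Up3H
import Cfsg.Agent.Lib.Helper6.MultD.J2Up3K0
import Cfsg.Agent.Lib.Helper6.MultD.J2Up3K1

set_option autoImplicit false
set_option maxRecDepth 100000
set_option maxHeartbeats 8000000

/-! Certificate J2Up3: the check of the combination modulo 9 and the full certificate. -/

namespace Cfsg.Agent.Lib.Helper6.MultD

open Cfsg.Agent.Lib.Helper1

open Cfsg.Agent.Lib.Helper6.Mult StemZP

theorem chunksJ2Up3 : ∀ t ∈ trJ2Up3, chunkOK DJ2Up3 9 t.1 t.2.1 t.2.2 = true := by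
  intro t ht
  simp only [trJ2Up3, List.mem_cons, List.not_mem_nil, or_false] at ht
  rcases ht with rfl | rfl
  · exact chunkJ2Up3_0
  · exact chunkJ2Up3_1

theorem hTJ2Up3 : (trJ2Up3.map fun t => t.2.2).sum < StemZD.X := by decide +kernel

theorem hdigJ2Up3 : ((List.range DJ2Up3.n).all fun c =>
    (trJ2Up3.map fun t => t.2.1).sum / StemZD.X ^ c % StemZD.X % 9 == if c = 2015 then 3 else 0) = true := by
  decide +kernel

theorem chk_relJ2Up3 : chkRel DJ2Up3 CJ2Up3.toP (trJ2Up3.map fun t => t.1).flatten 2015 1 = true :=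
  chkRel_of_chunks DJ2Up3 CJ2Up3.toP trJ2Up3 2015 1 chunksJ2Up3 hTJ2Up3 hdigJ2Up3

theorem chk_certJ2Up3 : chkCertR DJ2Up3 CJ2Up3 = true := by
  apply chkCertR_of_main DJ2Up3 CJ2Up3 chk_mainJ2Up3
  show (List.range 1).all _ = true
  simp only [List.range_one, List.all_cons, List.all_nil, Bool.and_true]
  exact chk_relJ2Up3

end Cfsg.Agent.Lib.Helper6.MultD
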