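import Cfsg.Agent.Lib.Helper6.Mult.PM3
import Cfsg.Agent.Lib.Helper6.MultD.J2UML
import Cfsg.Agent.Lib.Helper6.MultD.J2Up3D

set_option autoImplicit false
set_option maxRecDepth 100000

/-! The subgroup `U3(3)` of the presented group `J2` on 1008 sets, data J2Up3: the checks of the generators. -/

namespace Cfsg.Agent.Lib.Helper6.MultD

open Cfsg.Agent.Lib.Helper6.PM Cfsg.Agent.Lib.Helper2.J2M Cfsg.Agent.Lib.Helper1

theorem chk_tabJ2Up3_0 : chkTab j2U wsJ2Up3 pmJ2Up3 0 = true := by decide +kernel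

theorem chk_tabJ2Up3_1 : chkTab j2U wsJ2Up3 pmJ2Up3 1 = true := by decide +kernel

theorem chk_relPJ2Up3_0 : chkRelP j2U DJ2Up3 pmJ2Up3 0 = true := by decide +kernel

theorem chk_relPJ2Up3_1 : chkRelP j2U DJ2Up3 pmJ2Up3 1 = true := by decide +kernel

theorem chk_relPJ2Up3_2 : chkRelP j2U DJ2Up3 pmJ2Up3 2 = true := by decide +kernel

theorem chk_relPJ2Up3_3 : chkRelP j2U DJ2Up3 pmJ2Up3 3 = true := by decide +kernel

theorem chk_relPJ2Up3_4 : chkRelP j2U DJ2Up3 pmJ2Up3 4 = true := by decide +kernel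

theorem chk_relPJ2Up3_5 : chkRelP j2U DJ2Up3 pmJ2Up3 5 = true := by decide +kernel

theorem chk_ordPJ2Up3_0 : chkOrdP j2U DJ2Up3 pmJ2Up3 0 = true := by decide +kernel

theorem chk_ordPJ2Up3_1 : chkOrdP j2U DJ2Up3 pmJ2Up3 1 = true := by decide +kernel

theorem chk_lwPJ2Up3_0 : chkLwP j2U wsJ2Up3 pmJ2Up3 lwJ2Up3 0 = true := by decide +kernel

theorem chk_lwPJ2Up3_1 : chkLwP j2U wsJ2Up3 pmJ2Up3 lwJ2Up3 1 = true := by decide +kernel

theorem coreJ2Up3 : CoreFacts j2U DJ2Up3 wsJ2Up3 pmJ2Up3 lwJ2Up3 := by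
  apply coreFacts_of_chk
  · rfl
  · intro i hi
    have h' : i < 2 := hi
    interval_cases i
    · exact chk_tabJ2Up3_0
    · exact chk_tabJ2Up3_1
  · intro r hr
    have h' : r < 6 := hr
    interval_cases r
    · exact chk_relPJ2Up3_0
    · exact chk_relPJ2Up3_1
    · exact chk_relPJ2Up3_2
    · exact chk_relPJ2Up3_3
    · exact chk_relPJ2Up3_4
    · exact chk_relPJ2Up3_5
  · intro i hi
    have h' : i < 2 := hi
    interval_cases i
    · exact chk_ordPJ2Up3_0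
    · exact chk_ordPJ2Up3_1
  · intro c hc
    have h' : c < 2 := hc
    interval_cases c
    · exact chk_lwPJ2Up3_0
    · exact chk_lwPJ2Up3_1


end Cfsg.Agent.Lib.Helper6.MultD
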