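import Cfsg.Agent.Lib.Helper6.Mult.PM6
import Cfsg.Agent.Lib.Helper6.MultD.J2UML
import Cfsg.Agent.Lib.Helper6.MultD.J2Up3D

set_option autoImplicit false
set_option maxRecDepth 100000

/-! The subgroup `U3(3)` of the presented group `J2` on 1008 sets, data J2Up3: the checks of the action on the sets. -/

namespace Cfsg.Agent.Lib.Helper6.MultD

open Cfsg.Agent.Lib.Helper6.PM Cfsg.Agent.Lib.Helper2.J2M Cfsg.Agent.Lib.Helper1

theorem chk_setsJ2Up3_0 : chkSets j2U pmJ2Up3 masksJ2Up3 DJ2Up3.m DJ2Up3.pi 0 = true := by decide +kernel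

theorem chk_setsJ2Up3_1 : chkSets j2U pmJ2Up3 masksJ2Up3 DJ2Up3.m DJ2Up3.pi 1 = true := by decide +kernel

theorem chk_setsJ2Up3 : ∀ i < wsJ2Up3.length, chkSets j2U pmJ2Up3 masksJ2Up3 DJ2Up3.m DJ2Up3.pi i = true := by
  intro i hi
  have h' : i < 2 := hi
  interval_cases i
  · exact chk_setsJ2Up3_0
  · exact chk_setsJ2Up3_1

theorem chk_invJ2Up3 : ((List.range 1008).all fun j => invJ2Up3 (masksJ2Up3 j % 2 ^ j2U.n) == j) = true := by
  decide +kernel

theorem chk_distinctJ2Up3 : chkDistinct j2U masksJ2Up3 DJ2Up3.m = true :=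
  chkDistinct_of_inv j2U masksJ2Up3 1008 invJ2Up3 chk_invJ2Up3

end Cfsg.Agent.Lib.Helper6.MultD
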