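import Mathlib

set_option autoImplicit false

/-! The subgroup `L2(16)` of the presented group `J3`: an orbit of 680 points, as a mask. -/

namespace Cfsg.Agent.Lib.Helper6.MultD

/-- the mask of an orbit of 680 points of the subgroup -/
def maskJ3K : ℕ := 0x1002008241400c181048000204080004000040000681109008100004000000200000000004000004000000200000a2041800000000000000000020200004800080080210000200400010201000003001200c0000180200000108200511100045004100000cc40b0820000030200200200821820000032100028000020800020100000000008000b8100000200000018000000000000804400000880040002000210004001000a000000048140c080008100040000000c0101401802406801a08000000814020000005300180010004800320000306c1414c008704000400000062010040000000540004000d0000680200001000001e0001000802004070000c0010804085858400000a40040110001000000000100800000204000000200000810000020018800001000000001106a00234000000400001c4580400401000040000407a80008802300086800010110000100001240c020000000100000200022000640000002000800000a0000000200a0004a000023000002203820006050000024320000000400011804000100007c0040002801000008000417000030008171000880000000c0844080120020000004200004c0000ba8800c001420001c00000010000800b08000003082880002100000030600000088000800000104c0000200181000000c000000000080000000030000002180001000000021200040300088400601400040458010000020000004000000000501000c02004600019000202b80200800b6c00000020000000000402000010000400200200000080004004012800700164141000200001c0100119e80000000c000004000000100000000d00809800000c00c6008000040820000810000c8004080000e0a410008400008000002201e62c002000804000000000001000001800000000800004004440000010892010000000600601008000000400030081c12000200002000200008000011b00001880200200410300000020150000000130100010904054000000008801841e4047120080540000002308800c2060000091840c10301846c1004801004e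

/-- a point that the letter `3` moves into or out of the orbit -/
def badJ3K : ℕ := 1

end Cfsg.Agent.Lib.Helper6.MultD
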