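import Cfsg.Agent.Lib.Helper6.Mult.J3C
import Cfsg.Agent.Lib.Helper6.MultD.J3Kp2D

set_option autoImplicit false
set_option maxRecDepth 100000

/-! The subgroup `L2(16)` of the presented group `J3`: the check of the structure and of the tables. -/

namespace Cfsg.Agent.Lib.Helper6.MultD

open Cfsg.Agent.Lib.Helper6.J3M

theorem chk_subAJ3Kp2 : chkSubA DJ3Kp2 PLJ3Kp2 PLIJ3Kp2 wsJ3Kp2 pmJ3Kp2 = true := by decide +kernel

theorem chk_subPmJ3Kp2_0 : chkSubPm wsJ3Kp2 pmJ3Kp2 0 = true := by decide +kernel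

theorem chk_subPmJ3Kp2_1 : chkSubPm wsJ3Kp2 pmJ3Kp2 1 = true := by decide +kernel

theorem chk_subOrdJ3Kp2_0 : chkSubOrd DJ3Kp2 pmJ3Kp2 0 = true := by decide +kernel

theorem chk_subOrdJ3Kp2_1 : chkSubOrd DJ3Kp2 pmJ3Kp2 1 = true := by decide +kernel

end Cfsg.Agent.Lib.Helper6.MultD
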