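import Cfsg.Agent.Lib.Helper6.MultD.J3Kp2A0
import Cfsg.Agent.Lib.Helper6.MultD.J3Kp2A1
import Cfsg.Agent.Lib.Helper6.MultD.J3Kp2A2
import Cfsg.Agent.Lib.Helper6.MultD.J3Kp2A3
import Cfsg.Agent.Lib.Helper6.MultD.J3Kp2A4
import Cfsg.Agent.Lib.Helper6.MultD.J3Kp2A5
import Cfsg.Agent.Lib.Helper6.MultD.J3Kp2L

set_option autoImplicit false
set_option maxRecDepth 100000

/-! The subgroup `L2(16)` of the presented group `J3`: the facts on the data. -/

namespace Cfsg.Agent.Lib.Helper6.MultD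

open Cfsg.Agent.Lib.Helper6.J3M Cfsg.Agent.Lib.Helper1

theorem sub_factsJ3Kp2 : SubFacts DJ3Kp2 PLJ3Kp2 PLIJ3Kp2 wsJ3Kp2 pmJ3Kp2 := by
  apply subFacts_of_parts _ _ _ _ _ chk_subAJ3Kp2
  · intro i hi
    have hi' : i < 2 := hi
    interval_cases i
    · exact chk_subPmJ3Kp2_0
    · exact chk_subPmJ3Kp2_1
  · intro r hr
    have hr' : r < 6 := hr
    interval_cases r
    · exact chk_subRelJ3Kp2_0
    · exact chk_subRelJ3Kp2_1
    · exact chk_subRelJ3Kp2_2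
    · exact chk_subRelJ3Kp2_3
    · exact chk_subRelJ3Kp2_4
    · exact chk_subRelJ3Kp2_5
  · intro i hi
    have hi' : i < 2 := hi
    interval_cases i
    · exact chk_subOrdJ3Kp2_0
    · exact chk_subOrdJ3Kp2_1

end Cfsg.Agent.Lib.Helper6.MultD
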