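import Mathlib

set_option autoImplicit false
set_option maxRecDepth 100000
set_option maxHeartbeats 8000000

/-! Certificate J3Kp2: chunk 0 of the combination modulo 4. -/

namespace Cfsg.Agent.Lib.Helper6.MultD

def ysJ3Kp2_0 : List ((ℕ × ℕ) × ℕ) := [((1, 5), 2), ((1, 8), 3), ((1, 12), 3), ((1, 23), 2), ((1, 29), 1), ((1, 35), 3), ((1, 42), 3), ((1, 51), 3), ((1, 57), 1), ((1, 70), 1), ((1, 76), 2), ((1, 14), 1), ((1, 47), 2), ((1, 61), 2), ((1, 75), 3), ((1, 87), 2), ((1, 94), 2), ((3, 3), 3), ((3, 5), 2), ((3, 8), 3), ((3, 9), 3), ((3, 23), 3), ((3, 29), 1), ((3, 35), 2), ((3, 42), 2), ((3, 51), 1), ((3, 69), 3), ((3, 81), 1), ((3, 0), 1), ((3, 2), 2), ((3, 6), 2), ((3, 10), 1), ((3, 14), 2), ((3, 16), 1), ((3, 25), 3), ((3, 32), 1), ((3, 43), 2), ((3, 47), 2), ((3, 50), 2), ((3, 62), 3), ((3, 79), 1), ((3, 83), 3), ((3, 92), 1), ((3, 95), 1), ((5, 0), 3), ((3, 71), 3)]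

def LJ3Kp2_0 : ℕ := 0x100000000000000390000000100000000000000000000000000000003000000000000000000000001000000000000000000000000000000000000000000000000000000030000000300000000000000010000000000000000000000000000000000000000000000030000000100000000000000000000000100000000000000010000000000000000000000000000000000000001000000010000000300000000000000010000000000000001000000000000000200000000000000000000000200000000000000020000000300000000000000030000000100000000000000000000000000000000000000020000000300000002000000000000000100000000000000000000000100000001000000000000000000000003000000020000000200000000000000030000000200000000000000000000000300000002000000020000000000000000000000000000000100000000000000000000000200000000000000010000000100000000000000000000000100000000000000010000000000000003000000000000000300000001000000000000000300000003000000010000000300000001000000000000000400000002000000010000000200000001000000030000000400000003000000050000000300000002000000040000000600000001000000040000000000000000000000000000000000000002000000000000000000000000000000000000000300000002000000010000000000000000000000010000000200000000000000000000000500000000000000010000000300000000000000060000000300000002000000020000000500000000000000010000000000000004000000080000000100000000000000000000000400000000000000030000000000000009000000000000000200000002000000030000000200000000000000020000000400000001000000040000000100000006000000040000000200000000000000000000000400000004000000000000000000000006000000030000000500000001000000000000000000000000000000070000000200000002000000050000000400000000000000000000000400000004000000070000000500000000000000030000000000000000000000000000000900000000000000000000000600000003000000000000000400000003000000000000000000000004000000010000000500000000000000030000000300000000000000000000000300000006000000010000000600000004000000070000000400000005000000060000000900000004000000020000000a000000040000000800000002000000070000000a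

def TJ3Kp2_0 : ℕ := 501

end Cfsg.Agent.Lib.Helper6.MultD
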