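import Mathlib

set_option autoImplicit false
set_option maxRecDepth 100000
set_option maxHeartbeats 8000000

/-! Certificate J3Kp2: chunk 1 of the combination modulo 4. -/

namespace Cfsg.Agent.Lib.Helper6.MultD

def ysJ3Kp2_1 : List ((ℕ × ℕ) × ℕ) := [((3, 75), 3), ((3, 94), 3), ((3, 97), 3), ((8, 1), 3), ((6, 0), 2), ((7, 3), 1), ((5, 5), 1), ((6, 3), 2), ((7, 5), 3), ((8, 2), 2), ((8, 4), 2), ((6, 5), 1), ((7, 6), 1), ((7, 7), 2), ((7, 9), 1), ((7, 15), 2), ((8, 3), 2), ((6, 10), 2), ((6, 19), 3), ((6, 45), 1), ((7, 4), 2), ((8, 15), 3), ((6, 7), 1), ((0, 4), 2), ((0, 5), 2), ((0, 6), 2), ((0, 7), 2), ((0, 9), 2), ((0, 10), 2), ((0, 13), 2), ((0, 15), 2), ((0, 19), 2), ((0, 23), 2), ((0, 28), 2), ((0, 32), 2), ((0, 39), 2), ((0, 44), 2), ((0, 52), 2), ((0, 59), 2), ((0, 69), 2), ((0, 75), 2), ((0, 87), 2), ((0, 92), 2), ((0, 104), 2), ((0, 108), 2), ((0, 119), 2)]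

def LJ3Kp2_1 : ℕ := 0x80000001000000010000000030000000000000003000000010000000400000000000000040000000100000004000000000000000300000004000000000000000000000004000000040000000400000005000000010000000000000003000000000000000400000004000000000000000800000001000000070000000c000000000000000b000000000000000300000008000000000000000400000000000000030000000300000005000000000000000700000008000000030000000800000002000000080000000c000000020000000800000002000000050000000c0000000500000003000000000000000000000000000000080000000200000005000000060000000800000007000000040000000c00000003000000030000000c00000000000000050000000600000002000000040000000100000006000000000000000400000001000000060000000e0000000800000008000000000000000b00000000000000040000000600000004000000030000000b0000000000000000000000130000000c0000000b00000000000000090000000800000011000000030000001000000009000000110000000b0000000100000007000000180000000c000000060000000f000000020000001300000011000000180000000900000017000000210000000e000000200000001a0000001300000008000000000000000000000000000000000000000200000000000000040000000000000000000000010000000200000007000000000000000400000003000000020000000000000000000000030000000400000003000000010000000400000002000000010000000200000002000000030000000400000003000000040000000800000004000000030000000000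00000000000000000000000000000100000000000000030000000000000002000000020000000100000002000000040000000600000000000000030000000000000003000000020000000000000002000000000000000400000000000000000000000000000000000000020000000500000003000000030000000000000004000000000000000500000002000000020000000300000000000000040000000400000004000000000000000500000003000000040000000500000000000000000000000000000003000000040000000400000006000000050000000000000000000000050000000000000004000000000000000300000007000000000000000100000005000000040000000400000009000000020000000300000006000000080000000900000008000000030000000e0000000700000010000000060000000e000000100000001000000006000000090000000a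

def TJ3Kp2_1 : ℕ := 1229

end Cfsg.Agent.Lib.Helper6.MultD
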