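import Mathlib
import Cfsg.Agent.Lib.Helper1.StemZP7
import Cfsg.Agent.Lib.Helper6.MultD.J3Kp2R0
import Cfsg.Agent.Lib.Helper6.MultD.J3Kp2Y0
import Cfsg.Agent.Lib.Helper6.MultD.J3Kp2Y1

set_option autoImplicit false
set_option maxRecDepth 100000
set_option maxHeartbeats 8000000

/-! Certificate J3Kp2 for the prime 2. -/

namespace Cfsg.Agent.Lib.Helper6.MultD

open Cfsg.Agent.Lib.Helper1

def specNJ3Kp2 : ℕ := 0x8cc0f708cb58f31361444201b8f712e1dc3305809009c2b0350aa0dc1b8060040600b013d6784ef1cb38ee05402013d8798ef9dc3b2754e99d239e738e61c23806f8de1b63686c8d89af356698d21a2340664ca993320638c5186304600e89c638a6e4d99aa346674ce19832e648c798c312620c29831cc38c708df1bc35c658c41802f4590af15026c470d91a4344660c618a2e4598b115428c510a013a2704c09712423c4608911021441880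

def unkNJ3Kp2 : ℕ := 0xf5f4f3f2f1f0efeeedecebeae9e8e7e6e5e4e3e2e1e0dedddcdad9d8d7d6d5d3d1d0cfcecccac7c5c2c1c0bfbbb9b7b2b0afada8a6a5a4a19f9d99989796928e8c8985837f7c797877767574737271706f6e6d6b69686761605e5c5b5a555453504e4d4b4a474241403e3c3b373635342f2d2b2625241e19151413100a0602

def colNJ3Kp2 : ℕ := 0x3ffefbf3dfaf3e3bf6ebd39f2e3c37eedbb35ea01a7467019b2e4c78b080c002fdebb7005b0168000b202c00015eb55a800000a602900a200000014004f9c02680000004c012e54900024008e0230000022c487080000104000010003f0001f000001e807800000760003a0001cb86ed9ab466c98b05eb968058015aa520000000014270098025488c0000001121400001f0078e80386c00034000000064c1700580152800000264889000000001e007001a00000003058a00000000024000000040000003860a000040000000000c00000080000004000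

def trJ3Kp2 : List (List ((ℕ × ℕ) × ℕ) × ℕ × ℕ) := [(ysJ3Kp2_0, LJ3Kp2_0, TJ3Kp2_0), (ysJ3Kp2_1, LJ3Kp2_1, TJ3Kp2_1)]

def relJ3Kp2 : List (List ((ℕ × ℕ) × ℕ)) := [(trJ3Kp2.map fun t => t.1).flatten]

/-- the certificate -/
def CJ3Kp2 : StemZP.ZRCert where
  p := 2
  s := 2
  w := 4
  N := 127
  β := 1
  hmR := 14
  hmQ := 8
  bs := [239]
  es := [1]
  specs := fun i => ((specNJ3Kp2 >>> (11 * i)) % 2 ^ 11 / 2 ^ 7, (specNJ3Kp2 >>> (11 * i)) % 2 ^ 7)
  unk := fun c => (unkNJ3Kp2 >>> (8 * c)) % 2 ^ 8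
  colT := fun b => (colNJ3Kp2 >>> (7 * b)) % 2 ^ 7
  R := fun c => if c < 127 then (RLJ3Kp2_0.getD ((c - 0) / 32) []).getD ((c - 0) % 32) 0 else 0
  rel := relJ3Kp2

end Cfsg.Agent.Lib.Helper6.MultD
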