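import Mathlib
import Cfsg.Agent.Lib.Helper6.MultD.J3Kp2D
import Cfsg.Agent.Lib.Helper6.MultD.J3Kp2Y1
import Cfsg.Agent.Lib.Helper6.Mult.Chunk

set_option autoImplicit false
set_option maxRecDepth 100000
set_option maxHeartbeats 8000000

/-! Certificate J3Kp2: check of the chunk 1 of the combination modulo 4. -/

namespace Cfsg.Agent.Lib.Helper6.MultD

open Cfsg.Agent.Lib.Helper1

theorem chunkJ3Kp2_1 : Cfsg.Agent.Lib.Helper6.Mult.chunkOK DJ3Kp2 4 ysJ3Kp2_1 LJ3Kp2_1 TJ3Kp2_1 = true := by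
  decide +kernel

end Cfsg.Agent.Lib.Helper6.MultD
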