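import Cfsg.Agent.Lib.Helper6.MultD.J3p2A0
import Cfsg.Agent.Lib.Helper6.MultD.J3p2A1
import Cfsg.Agent.Lib.Helper6.MultD.J3p2A2
import Cfsg.Agent.Lib.Helper6.MultD.J3p2A3
import Cfsg.Agent.Lib.Helper6.MultD.J3p2A4
import Cfsg.Agent.Lib.Helper6.MultD.J3p2A5
import Cfsg.Agent.Lib.Helper6.MultD.J3p2AO

set_option autoImplicit false
set_option maxRecDepth 100000

/-! The presented group `J3` on 6156 points, data for the prime 2: the relations hold on the
points. -/

namespace Cfsg.Agent.Lib.Helper6.MultD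

open Cfsg.Agent.Lib.Helper6.J3M Cfsg.Agent.Lib.Helper1

theorem chk_actJ3p2 : StemZB.chkAct DJ3p2 = true := by
  apply chkAct_of_parts
  · intro r hr
    have hr' : r < 6 := hr
    interval_cases r
    · exact chk_actrelJ3p2_0
    · exact chk_actrelJ3p2_1
    · exact chk_actrelJ3p2_2
    · exact chk_actrelJ3p2_3
    · exact chk_actrelJ3p2_4
    · exact chk_actrelJ3p2_5
  · intro i hi
    have hi' : i < 2 := hi
    interval_cases i
    · exact chk_actordJ3p2_0
    · exact chk_actordJ3p2_1

end Cfsg.Agent.Lib.Helper6.MultD
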