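import Mathlib
import Cfsg.Agent.Lib.Helper6.MultD.J3p2H
import Cfsg.Agent.Lib.Helper6.MultD.J3p2K0
import Cfsg.Agent.Lib.Helper6.MultD.J3p2K1
import Cfsg.Agent.Lib.Helper6.MultD.J3p2K2
import Cfsg.Agent.Lib.Helper6.MultD.J3p2K3
import Cfsg.Agent.Lib.Helper6.MultD.J3p2K4
import Cfsg.Agent.Lib.Helper6.MultD.J3p2K5
import Cfsg.Agent.Lib.Helper6.MultD.J3p2K6
import Cfsg.Agent.Lib.Helper6.MultD.J3p2K7
import Cfsg.Agent.Lib.Helper6.MultD.J3p2K8
import Cfsg.Agent.Lib.Helper6.MultD.J3p2K9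
import Cfsg.Agent.Lib.Helper6.MultD.J3p2K10
import Cfsg.Agent.Lib.Helper6.MultD.J3p2K11
import Cfsg.Agent.Lib.Helper6.MultD.J3p2K12
import Cfsg.Agent.Lib.Helper6.MultD.J3p2K13
import Cfsg.Agent.Lib.Helper6.MultD.J3p2K14
import Cfsg.Agent.Lib.Helper6.MultD.J3p2K15
import Cfsg.Agent.Lib.Helper6.MultD.J3p2K16
import Cfsg.Agent.Lib.Helper6.MultD.J3p2K17
import Cfsg.Agent.Lib.Helper6.MultD.J3p2K18
import Cfsg.Agent.Lib.Helper6.MultD.J3p2K19
import Cfsg.Agent.Lib.Helper6.MultD.J3p2K20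
import Cfsg.Agent.Lib.Helper6.MultD.J3p2K21
import Cfsg.Agent.Lib.Helper6.MultD.J3p2K22
import Cfsg.Agent.Lib.Helper6.MultD.J3p2K23

set_option autoImplicit false
set_option maxRecDepth 100000
set_option maxHeartbeats 8000000

/-! Certificate J3p2: the check of the combination modulo 4 and the full certificate. -/

namespace Cfsg.Agent.Lib.Helper6.MultD

open Cfsg.Agent.Lib.Helper1

open Cfsg.Agent.Lib.Helper6.Mult StemZP

theorem chunksJ3p2 : ∀ t ∈ trJ3p2, chunkOK DJ3p2 4 t.1 t.2.1 t.2.2 = true := by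
  intro t ht
  simp only [trJ3p2, List.mem_cons, List.not_mem_nil, or_false] at ht
  rcases ht with rfl | rfl | rfl | rfl | rfl | rfl | rfl | rfl | rfl | rfl | rfl | rfl | rfl | rfl | rfl | rfl | rfl | rfl | rfl | rfl | rfl | rfl | rfl | rfl
  · exact chunkJ3p2_0
  · exact chunkJ3p2_1
  · exact chunkJ3p2_2
  · exact chunkJ3p2_3
  · exact chunkJ3p2_4
  · exact chunkJ3p2_5
  · exact chunkJ3p2_6
  · exact chunkJ3p2_7
  · exact chunkJ3p2_8
  · exact chunkJ3p2_9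
  · exact chunkJ3p2_10
  · exact chunkJ3p2_11
  · exact chunkJ3p2_12
  · exact chunkJ3p2_13
  · exact chunkJ3p2_14
  · exact chunkJ3p2_15
  · exact chunkJ3p2_16
  · exact chunkJ3p2_17
  · exact chunkJ3p2_18
  · exact chunkJ3p2_19
  · exact chunkJ3p2_20
  · exact chunkJ3p2_21
  · exact chunkJ3p2_22
  · exact chunkJ3p2_23

theorem hTJ3p2 : (trJ3p2.map fun t => t.2.2).sum < StemZD.X := by decide +kernel

theorem hdigJ3p2 : ((List.range DJ3p2.n).all fun c =>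
    (trJ3p2.map fun t => t.2.1).sum / StemZD.X ^ c % StemZD.X % 4 == if c = 12311 then 2 else 0) = true := by
  decide +kernel

theorem chk_relJ3p2 : chkRel DJ3p2 CJ3p2.toP (trJ3p2.map fun t => t.1).flatten 12311 1 = true :=
  chkRel_of_chunks DJ3p2 CJ3p2.toP trJ3p2 12311 1 chunksJ3p2 hTJ3p2 hdigJ3p2

theorem chk_certJ3p2 : chkCertR DJ3p2 CJ3p2 = true := by
  apply chkCertR_of_main DJ3p2 CJ3p2 chk_mainJ3p2
  show (List.range 1).all _ = true
  simp only [List.range_one, List.all_cons, List.all_nil, Bool.and_true]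
  exact chk_relJ3p2

end Cfsg.Agent.Lib.Helper6.MultD
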