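import Cfsg.Agent.Lib.Helper6.Mult.J3B
import Cfsg.Agent.Lib.Helper6.MultD.J3p3D

set_option autoImplicit false
set_option maxRecDepth 100000

/-! The presented group `J3` on 6156 points, data for the prime 3: the check of the orders. -/

namespace Cfsg.Agent.Lib.Helper6.MultD

open Cfsg.Agent.Lib.Helper6.J3M

theorem chk_actordJ3p3_0 : chkActOrd DJ3p3 0 = true := by decide +kernel

theorem chk_actordJ3p3_1 : chkActOrd DJ3p3 1 = true := by decide +kernel

end Cfsg.Agent.Lib.Helper6.MultD
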