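import Mathlib
import Cfsg.Agent.Lib.Helper6.MultD.J3p3H
import Cfsg.Agent.Lib.Helper6.MultD.J3p3K0
import Cfsg.Agent.Lib.Helper6.MultD.J3p3K1
import Cfsg.Agent.Lib.Helper6.MultD.J3p3K2
import Cfsg.Agent.Lib.Helper6.MultD.J3p3K3
import Cfsg.Agent.Lib.Helper6.MultD.J3p3K4
import Cfsg.Agent.Lib.Helper6.MultD.J3p3K5
import Cfsg.Agent.Lib.Helper6.MultD.J3p3K6
import Cfsg.Agent.Lib.Helper6.MultD.J3p3K7
import Cfsg.Agent.Lib.Helper6.MultD.J3p3K8
import Cfsg.Agent.Lib.Helper6.MultD.J3p3K9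
import Cfsg.Agent.Lib.Helper6.MultD.J3p3K10
import Cfsg.Agent.Lib.Helper6.MultD.J3p3K11
import Cfsg.Agent.Lib.Helper6.MultD.J3p3K12
import Cfsg.Agent.Lib.Helper6.MultD.J3p3K13
import Cfsg.Agent.Lib.Helper6.MultD.J3p3K14
import Cfsg.Agent.Lib.Helper6.MultD.J3p3K15
import Cfsg.Agent.Lib.Helper6.MultD.J3p3K16
import Cfsg.Agent.Lib.Helper6.MultD.J3p3K17
import Cfsg.Agent.Lib.Helper6.MultD.J3p3K18
import Cfsg.Agent.Lib.Helper6.MultD.J3p3K19
import Cfsg.Agent.Lib.Helper6.MultD.J3p3K20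
import Cfsg.Agent.Lib.Helper6.MultD.J3p3K21
import Cfsg.Agent.Lib.Helper6.MultD.J3p3K22
import Cfsg.Agent.Lib.Helper6.MultD.J3p3K23

set_option autoImplicit false
set_option maxRecDepth 100000
set_option maxHeartbeats 8000000

/-! Certificate J3p3: the check of the combination modulo 9 and the full certificate. -/

namespace Cfsg.Agent.Lib.Helper6.MultD

open Cfsg.Agent.Lib.Helper1

open Cfsg.Agent.Lib.Helper6.Mult StemZP

theorem chunksJ3p3 : ∀ t ∈ trJ3p3, chunkOK DJ3p3 9 t.1 t.2.1 t.2.2 = true := by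
  intro t ht
  simp only [trJ3p3, List.mem_cons, List.not_mem_nil, or_false] at ht
  rcases ht with rfl | rfl | rfl | rfl | rfl | rfl | rfl | rfl | rfl | rfl | rfl | rfl | rfl | rfl | rfl | rfl | rfl | rfl | rfl | rfl | rfl | rfl | rfl | rfl
  · exact chunkJ3p3_0
  · exact chunkJ3p3_1
  · exact chunkJ3p3_2
  · exact chunkJ3p3_3
  · exact chunkJ3p3_4
  · exact chunkJ3p3_5
  · exact chunkJ3p3_6
  · exact chunkJ3p3_7
  · exact chunkJ3p3_8
  · exact chunkJ3p3_9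
  · exact chunkJ3p3_10
  · exact chunkJ3p3_11
  · exact chunkJ3p3_12
  · exact chunkJ3p3_13
  · exact chunkJ3p3_14
  · exact chunkJ3p3_15
  · exact chunkJ3p3_16
  · exact chunkJ3p3_17
  · exact chunkJ3p3_18
  · exact chunkJ3p3_19
  · exact chunkJ3p3_20
  · exact chunkJ3p3_21
  · exact chunkJ3p3_22
  · exact chunkJ3p3_23

theorem hTJ3p3 : (trJ3p3.map fun t => t.2.2).sum < StemZD.X := by decide +kernel

theorem hdigJ3p3 : ((List.range DJ3p3.n).all fun c =>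
    (trJ3p3.map fun t => t.2.1).sum / StemZD.X ^ c % StemZD.X % 9 == if c = 12317 then 3 else 0) = true := by
  decide +kernel

theorem chk_relJ3p3 : chkRel DJ3p3 CJ3p3.toP (trJ3p3.map fun t => t.1).flatten 12317 1 = true :=
  chkRel_of_chunks DJ3p3 CJ3p3.toP trJ3p3 12317 1 chunksJ3p3 hTJ3p3 hdigJ3p3

theorem chk_certJ3p3 : chkCertR DJ3p3 CJ3p3 = true := by
  apply chkCertR_of_main DJ3p3 CJ3p3 chk_mainJ3p3
  show (List.range 1).all _ = true
  simp only [List.range_one, List.all_cons, List.all_nil, Bool.and_true]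
  exact chk_relJ3p3

end Cfsg.Agent.Lib.Helper6.MultD
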