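import Mathlib

set_option autoImplicit false

/-! A Borel subgroup of the presented group `L37`: the generators and their tables. -/

namespace Cfsg.Agent.Lib.Helper6.MultD

/-- the generators of the subgroup as words in the letters of the presentation -/
def wsL37BM : List (List ℕ) := [[0, 2], [0, 0, 2, 0, 2, 1, 2]]

/-- the tables of the generators on the points -/
def pmNL37BM : List ℕ := [0x36cec931ba7bedd13ddd62b5919788b27b59a934684f15a10b703a94c0729b41f6553288c98015c248e200, 0x1356dcb39a2a78d8fc0c3b79271f55aa2745c26c1a0534bac376cc63bd871a96042e7d951e84648444a200]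

def pmL37BM (i q : ℕ) : ℕ := (pmNL37BM.getD i 0 >>> (6 * q)) % 2 ^ 6

end Cfsg.Agent.Lib.Helper6.MultD
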