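import Cfsg.Agent.Lib.Helper6.Mult.L37A
import Cfsg.Agent.Lib.Helper6.MultD.L37BM
import Cfsg.Agent.Lib.Helper6.Mult.PM2

set_option autoImplicit false
set_option maxRecDepth 100000

/-! A Borel subgroup of the presented group `L37`: the tables of its generators, and its model. -/

namespace Cfsg.Agent.Lib.Helper6.MultD

open Cfsg.Agent.Lib.Helper6.PM Cfsg.Agent.Lib.Helper6.L37M Cfsg.Agent.Lib.Helper1

theorem chk_tabL37BM_0 : chkTab l37Model wsL37BM pmL37BM 0 = true := by decide +kernel

theorem chk_tabL37BM_1 : chkTab l37Model wsL37BM pmL37BM 1 = true := by decide +kernel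

theorem tabL37BM : TabFacts l37Model wsL37BM pmL37BM := by
  apply tabFacts_of_chk
  intro i hi
  have h' : i < 2 := hi
  interval_cases i
  · exact chk_tabL37BM_0
  · exact chk_tabL37BM_1

/-- the model of the subgroup -/
noncomputable def l37B : PModel := sub l37Model wsL37BM pmL37BM tabL37BM

end Cfsg.Agent.Lib.Helper6.MultD
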