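import Cfsg.Agent.Lib.Helper6.Mult.PM3
import Cfsg.Agent.Lib.Helper6.MultD.L37BML
import Cfsg.Agent.Lib.Helper6.MultD.L37Bp7D

set_option autoImplicit false
set_option maxRecDepth 100000

/-! A Borel subgroup of the presented group `L37` on 343 sets, data L37Bp7: the checks of the generators. -/

namespace Cfsg.Agent.Lib.Helper6.MultD

open Cfsg.Agent.Lib.Helper6.PM Cfsg.Agent.Lib.Helper6.L37M Cfsg.Agent.Lib.Helper1

theorem chk_tabL37Bp7_0 : chkTab l37B wsL37Bp7 pmL37Bp7 0 = true := by decide +kernel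

theorem chk_tabL37Bp7_1 : chkTab l37B wsL37Bp7 pmL37Bp7 1 = true := by decide +kernel

theorem chk_relPL37Bp7_0 : chkRelP l37B DL37Bp7 pmL37Bp7 0 = true := by decide +kernel

theorem chk_relPL37Bp7_1 : chkRelP l37B DL37Bp7 pmL37Bp7 1 = true := by decide +kernel

theorem chk_relPL37Bp7_2 : chkRelP l37B DL37Bp7 pmL37Bp7 2 = true := by decide +kernel

theorem chk_relPL37Bp7_3 : chkRelP l37B DL37Bp7 pmL37Bp7 3 = true := by decide +kernel

theorem chk_relPL37Bp7_4 : chkRelP l37B DL37Bp7 pmL37Bp7 4 = true := by decide +kernel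

theorem chk_relPL37Bp7_5 : chkRelP l37B DL37Bp7 pmL37Bp7 5 = true := by decide +kernel

theorem chk_relPL37Bp7_6 : chkRelP l37B DL37Bp7 pmL37Bp7 6 = true := by decide +kernel

theorem chk_relPL37Bp7_7 : chkRelP l37B DL37Bp7 pmL37Bp7 7 = true := by decide +kernel

theorem chk_relPL37Bp7_8 : chkRelP l37B DL37Bp7 pmL37Bp7 8 = true := by decide +kernel

theorem chk_relPL37Bp7_9 : chkRelP l37B DL37Bp7 pmL37Bp7 9 = true := by decide +kernel

theorem chk_relPL37Bp7_10 : chkRelP l37B DL37Bp7 pmL37Bp7 10 = true := by decide +kernel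

theorem chk_relPL37Bp7_11 : chkRelP l37B DL37Bp7 pmL37Bp7 11 = true := by decide +kernel

theorem chk_relPL37Bp7_12 : chkRelP l37B DL37Bp7 pmL37Bp7 12 = true := by decide +kernel

theorem chk_relPL37Bp7_13 : chkRelP l37B DL37Bp7 pmL37Bp7 13 = true := by decide +kernel

theorem chk_relPL37Bp7_14 : chkRelP l37B DL37Bp7 pmL37Bp7 14 = true := by decide +kernel

theorem chk_relPL37Bp7_15 : chkRelP l37B DL37Bp7 pmL37Bp7 15 = true := by decide +kernel

theorem chk_relPL37Bp7_16 : chkRelP l37B DL37Bp7 pmL37Bp7 16 = true := by decide +kernel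

theorem chk_relPL37Bp7_17 : chkRelP l37B DL37Bp7 pmL37Bp7 17 = true := by decide +kernel

theorem chk_relPL37Bp7_18 : chkRelP l37B DL37Bp7 pmL37Bp7 18 = true := by decide +kernel

theorem chk_relPL37Bp7_19 : chkRelP l37B DL37Bp7 pmL37Bp7 19 = true := by decide +kernel

theorem chk_ordPL37Bp7_0 : chkOrdP l37B DL37Bp7 pmL37Bp7 0 = true := by decide +kernel

theorem chk_ordPL37Bp7_1 : chkOrdP l37B DL37Bp7 pmL37Bp7 1 = true := by decide +kernel

theorem chk_lwPL37Bp7_0 : chkLwP l37B wsL37Bp7 pmL37Bp7 lwL37Bp7 0 = true := by decide +kernel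

theorem chk_lwPL37Bp7_1 : chkLwP l37B wsL37Bp7 pmL37Bp7 lwL37Bp7 1 = true := by decide +kernel

theorem coreL37Bp7 : CoreFacts l37B DL37Bp7 wsL37Bp7 pmL37Bp7 lwL37Bp7 := by
  apply coreFacts_of_chk
  · rfl
  · intro i hi
    have h' : i < 2 := hi
    interval_cases i
    · exact chk_tabL37Bp7_0
    · exact chk_tabL37Bp7_1
  · intro r hr
    have h' : r < 20 := hr
    interval_cases r
    · exact chk_relPL37Bp7_0
    · exact chk_relPL37Bp7_1
    · exact chk_relPL37Bp7_2
    · exact chk_relPL37Bp7_3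
    · exact chk_relPL37Bp7_4
    · exact chk_relPL37Bp7_5
    · exact chk_relPL37Bp7_6
    · exact chk_relPL37Bp7_7
    · exact chk_relPL37Bp7_8
    · exact chk_relPL37Bp7_9
    · exact chk_relPL37Bp7_10
    · exact chk_relPL37Bp7_11
    · exact chk_relPL37Bp7_12
    · exact chk_relPL37Bp7_13
    · exact chk_relPL37Bp7_14
    · exact chk_relPL37Bp7_15
    · exact chk_relPL37Bp7_16
    · exact chk_relPL37Bp7_17
    · exact chk_relPL37Bp7_18
    · exact chk_relPL37Bp7_19
  · intro i hi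
    have h' : i < 2 := hi
    interval_cases i
    · exact chk_ordPL37Bp7_0
    · exact chk_ordPL37Bp7_1
  · intro c hc
    have h' : c < 2 := hc
    interval_cases c
    · exact chk_lwPL37Bp7_0
    · exact chk_lwPL37Bp7_1

end Cfsg.Agent.Lib.Helper6.MultD
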