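import Cfsg.Agent.Lib.Helper6.Mult.PM3
import Cfsg.Agent.Lib.Helper7.McLB9
import Cfsg.Agent.Lib.Helper6.MultD.MCLAp2D

set_option autoImplicit false
set_option maxRecDepth 100000

/-! The McLaughlin group on 7128 sets of 50 points, data MCLAp2: the checks of the generators. -/

namespace Cfsg.Agent.Lib.Helper6.MultD

open Cfsg.Agent.Lib.Helper6.PM Cfsg.Agent.Lib.Helper1

theorem chk_tabMCLAp2_0 : chkTab Cfsg.Agent.Lib.Helper7.McLB.mclS wsMCLAp2 pmMCLAp2 0 = true := by decide +kernel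

theorem chk_tabMCLAp2_1 : chkTab Cfsg.Agent.Lib.Helper7.McLB.mclS wsMCLAp2 pmMCLAp2 1 = true := by decide +kernel

theorem chk_relPMCLAp2_0 : chkRelP Cfsg.Agent.Lib.Helper7.McLB.mclS DMCLAp2 pmMCLAp2 0 = true := by decide +kernel

theorem chk_relPMCLAp2_1 : chkRelP Cfsg.Agent.Lib.Helper7.McLB.mclS DMCLAp2 pmMCLAp2 1 = true := by decide +kernel

theorem chk_relPMCLAp2_2 : chkRelP Cfsg.Agent.Lib.Helper7.McLB.mclS DMCLAp2 pmMCLAp2 2 = true := by decide +kernel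

theorem chk_relPMCLAp2_3 : chkRelP Cfsg.Agent.Lib.Helper7.McLB.mclS DMCLAp2 pmMCLAp2 3 = true := by decide +kernel

theorem chk_relPMCLAp2_4 : chkRelP Cfsg.Agent.Lib.Helper7.McLB.mclS DMCLAp2 pmMCLAp2 4 = true := by decide +kernel

theorem chk_relPMCLAp2_5 : chkRelP Cfsg.Agent.Lib.Helper7.McLB.mclS DMCLAp2 pmMCLAp2 5 = true := by decide +kernel

theorem chk_relPMCLAp2_6 : chkRelP Cfsg.Agent.Lib.Helper7.McLB.mclS DMCLAp2 pmMCLAp2 6 = true := by decide +kernel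

theorem chk_relPMCLAp2_7 : chkRelP Cfsg.Agent.Lib.Helper7.McLB.mclS DMCLAp2 pmMCLAp2 7 = true := by decide +kernel

theorem chk_relPMCLAp2_8 : chkRelP Cfsg.Agent.Lib.Helper7.McLB.mclS DMCLAp2 pmMCLAp2 8 = true := by decide +kernel

theorem chk_relPMCLAp2_9 : chkRelP Cfsg.Agent.Lib.Helper7.McLB.mclS DMCLAp2 pmMCLAp2 9 = true := by decide +kernel

theorem chk_relPMCLAp2_10 : chkRelP Cfsg.Agent.Lib.Helper7.McLB.mclS DMCLAp2 pmMCLAp2 10 = true := by decide +kernel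

theorem chk_relPMCLAp2_11 : chkRelP Cfsg.Agent.Lib.Helper7.McLB.mclS DMCLAp2 pmMCLAp2 11 = true := by decide +kernel

theorem chk_relPMCLAp2_12 : chkRelP Cfsg.Agent.Lib.Helper7.McLB.mclS DMCLAp2 pmMCLAp2 12 = true := by decide +kernel

theorem chk_relPMCLAp2_13 : chkRelP Cfsg.Agent.Lib.Helper7.McLB.mclS DMCLAp2 pmMCLAp2 13 = true := by decide +kernel

theorem chk_relPMCLAp2_14 : chkRelP Cfsg.Agent.Lib.Helper7.McLB.mclS DMCLAp2 pmMCLAp2 14 = true := by decide +kernel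

theorem chk_relPMCLAp2_15 : chkRelP Cfsg.Agent.Lib.Helper7.McLB.mclS DMCLAp2 pmMCLAp2 15 = true := by decide +kernel

theorem chk_relPMCLAp2_16 : chkRelP Cfsg.Agent.Lib.Helper7.McLB.mclS DMCLAp2 pmMCLAp2 16 = true := by decide +kernel

theorem chk_relPMCLAp2_17 : chkRelP Cfsg.Agent.Lib.Helper7.McLB.mclS DMCLAp2 pmMCLAp2 17 = true := by decide +kernel

theorem chk_ordPMCLAp2_0 : chkOrdP Cfsg.Agent.Lib.Helper7.McLB.mclS DMCLAp2 pmMCLAp2 0 = true := by decide +kernel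

theorem chk_ordPMCLAp2_1 : chkOrdP Cfsg.Agent.Lib.Helper7.McLB.mclS DMCLAp2 pmMCLAp2 1 = true := by decide +kernel

theorem chk_lwPMCLAp2_0 : chkLwP Cfsg.Agent.Lib.Helper7.McLB.mclS wsMCLAp2 pmMCLAp2 lwMCLAp2 0 = true := by decide +kernel

theorem chk_lwPMCLAp2_1 : chkLwP Cfsg.Agent.Lib.Helper7.McLB.mclS wsMCLAp2 pmMCLAp2 lwMCLAp2 1 = true := by decide +kernel

theorem chk_lwPMCLAp2_2 : chkLwP Cfsg.Agent.Lib.Helper7.McLB.mclS wsMCLAp2 pmMCLAp2 lwMCLAp2 2 = true := by decide +kernel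

theorem chk_lwPMCLAp2_3 : chkLwP Cfsg.Agent.Lib.Helper7.McLB.mclS wsMCLAp2 pmMCLAp2 lwMCLAp2 3 = true := by decide +kernel

theorem chk_lwPMCLAp2_4 : chkLwP Cfsg.Agent.Lib.Helper7.McLB.mclS wsMCLAp2 pmMCLAp2 lwMCLAp2 4 = true := by decide +kernel

theorem chk_lwPMCLAp2_5 : chkLwP Cfsg.Agent.Lib.Helper7.McLB.mclS wsMCLAp2 pmMCLAp2 lwMCLAp2 5 = true := by decide +kernel

theorem chk_lwPMCLAp2_6 : chkLwP Cfsg.Agent.Lib.Helper7.McLB.mclS wsMCLAp2 pmMCLAp2 lwMCLAp2 6 = true := by decide +kernel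

theorem chk_lwPMCLAp2_7 : chkLwP Cfsg.Agent.Lib.Helper7.McLB.mclS wsMCLAp2 pmMCLAp2 lwMCLAp2 7 = true := by decide +kernel

theorem chk_lwPMCLAp2_8 : chkLwP Cfsg.Agent.Lib.Helper7.McLB.mclS wsMCLAp2 pmMCLAp2 lwMCLAp2 8 = true := by decide +kernel

theorem chk_lwPMCLAp2_9 : chkLwP Cfsg.Agent.Lib.Helper7.McLB.mclS wsMCLAp2 pmMCLAp2 lwMCLAp2 9 = true := by decide +kernel

theorem chk_lwPMCLAp2_10 : chkLwP Cfsg.Agent.Lib.Helper7.McLB.mclS wsMCLAp2 pmMCLAp2 lwMCLAp2 10 = true := by decide +kernel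

theorem chk_lwPMCLAp2_11 : chkLwP Cfsg.Agent.Lib.Helper7.McLB.mclS wsMCLAp2 pmMCLAp2 lwMCLAp2 11 = true := by decide +kernel

theorem chk_lwPMCLAp2_12 : chkLwP Cfsg.Agent.Lib.Helper7.McLB.mclS wsMCLAp2 pmMCLAp2 lwMCLAp2 12 = true := by decide +kernel

theorem chk_lwPMCLAp2_13 : chkLwP Cfsg.Agent.Lib.Helper7.McLB.mclS wsMCLAp2 pmMCLAp2 lwMCLAp2 13 = true := by decide +kernel

theorem chk_lwPMCLAp2_14 : chkLwP Cfsg.Agent.Lib.Helper7.McLB.mclS wsMCLAp2 pmMCLAp2 lwMCLAp2 14 = true := by decide +kernel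

theorem chk_lwPMCLAp2_15 : chkLwP Cfsg.Agent.Lib.Helper7.McLB.mclS wsMCLAp2 pmMCLAp2 lwMCLAp2 15 = true := by decide +kernel

theorem chk_lwPMCLAp2_16 : chkLwP Cfsg.Agent.Lib.Helper7.McLB.mclS wsMCLAp2 pmMCLAp2 lwMCLAp2 16 = true := by decide +kernel

theorem chk_lwPMCLAp2_17 : chkLwP Cfsg.Agent.Lib.Helper7.McLB.mclS wsMCLAp2 pmMCLAp2 lwMCLAp2 17 = true := by decide +kernel

theorem chk_lwPMCLAp2_18 : chkLwP Cfsg.Agent.Lib.Helper7.McLB.mclS wsMCLAp2 pmMCLAp2 lwMCLAp2 18 = true := by decide +kernel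

theorem coreMCLAp2 : CoreFacts Cfsg.Agent.Lib.Helper7.McLB.mclS DMCLAp2 wsMCLAp2 pmMCLAp2 lwMCLAp2 := by
  apply coreFacts_of_chk
  · rfl
  · intro i hi
    have h' : i < 2 := hi
    interval_cases i
    · exact chk_tabMCLAp2_0
    · exact chk_tabMCLAp2_1
  · intro r hr
    have h' : r < 18 := hr
    interval_cases r
    · exact chk_relPMCLAp2_0
    · exact chk_relPMCLAp2_1
    · exact chk_relPMCLAp2_2
    · exact chk_relPMCLAp2_3
    · exact chk_relPMCLAp2_4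
    · exact chk_relPMCLAp2_5
    · exact chk_relPMCLAp2_6
    · exact chk_relPMCLAp2_7
    · exact chk_relPMCLAp2_8
    · exact chk_relPMCLAp2_9
    · exact chk_relPMCLAp2_10
    · exact chk_relPMCLAp2_11
    · exact chk_relPMCLAp2_12
    · exact chk_relPMCLAp2_13
    · exact chk_relPMCLAp2_14
    · exact chk_relPMCLAp2_15
    · exact chk_relPMCLAp2_16
    · exact chk_relPMCLAp2_17
  · intro i hi
    have h' : i < 2 := hi
    interval_cases i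
    · exact chk_ordPMCLAp2_0
    · exact chk_ordPMCLAp2_1
  · intro c hc
    have h' : c < 19 := hc
    interval_cases c
    · exact chk_lwPMCLAp2_0
    · exact chk_lwPMCLAp2_1
    · exact chk_lwPMCLAp2_2
    · exact chk_lwPMCLAp2_3
    · exact chk_lwPMCLAp2_4
    · exact chk_lwPMCLAp2_5
    · exact chk_lwPMCLAp2_6
    · exact chk_lwPMCLAp2_7
    · exact chk_lwPMCLAp2_8
    · exact chk_lwPMCLAp2_9
    · exact chk_lwPMCLAp2_10
    · exact chk_lwPMCLAp2_11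
    · exact chk_lwPMCLAp2_12
    · exact chk_lwPMCLAp2_13
    · exact chk_lwPMCLAp2_14
    · exact chk_lwPMCLAp2_15
    · exact chk_lwPMCLAp2_16
    · exact chk_lwPMCLAp2_17
    · exact chk_lwPMCLAp2_18

end Cfsg.Agent.Lib.Helper6.MultD
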