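import Cfsg.Agent.Lib.Helper6.Mult.PM3
import Cfsg.Agent.Lib.Helper6.MultD.MCLUML
import Cfsg.Agent.Lib.Helper6.MultD.MCLCp2D

set_option autoImplicit false
set_option maxRecDepth 100000

/-! The subgroup `U3(5)` of the McLaughlin group on 126 sets of 50 points, data MCLCp2: the checks of the generators. -/

namespace Cfsg.Agent.Lib.Helper6.MultD

open Cfsg.Agent.Lib.Helper6.PM Cfsg.Agent.Lib.Helper1

theorem chk_tabMCLCp2_0 : chkTab mclU wsMCLCp2 pmMCLCp2 0 = true := by decide +kernel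

theorem chk_tabMCLCp2_1 : chkTab mclU wsMCLCp2 pmMCLCp2 1 = true := by decide +kernel

theorem chk_relPMCLCp2_0 : chkRelP mclU DMCLCp2 pmMCLCp2 0 = true := by decide +kernel

theorem chk_relPMCLCp2_1 : chkRelP mclU DMCLCp2 pmMCLCp2 1 = true := by decide +kernel

theorem chk_relPMCLCp2_2 : chkRelP mclU DMCLCp2 pmMCLCp2 2 = true := by decide +kernel

theorem chk_relPMCLCp2_3 : chkRelP mclU DMCLCp2 pmMCLCp2 3 = true := by decide +kernel

theorem chk_relPMCLCp2_4 : chkRelP mclU DMCLCp2 pmMCLCp2 4 = true := by decide +kernel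

theorem chk_relPMCLCp2_5 : chkRelP mclU DMCLCp2 pmMCLCp2 5 = true := by decide +kernel

theorem chk_relPMCLCp2_6 : chkRelP mclU DMCLCp2 pmMCLCp2 6 = true := by decide +kernel

theorem chk_relPMCLCp2_7 : chkRelP mclU DMCLCp2 pmMCLCp2 7 = true := by decide +kernel

theorem chk_relPMCLCp2_8 : chkRelP mclU DMCLCp2 pmMCLCp2 8 = true := by decide +kernel

theorem chk_relPMCLCp2_9 : chkRelP mclU DMCLCp2 pmMCLCp2 9 = true := by decide +kernel

theorem chk_relPMCLCp2_10 : chkRelP mclU DMCLCp2 pmMCLCp2 10 = true := by decide +kernel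

theorem chk_relPMCLCp2_11 : chkRelP mclU DMCLCp2 pmMCLCp2 11 = true := by decide +kernel

theorem chk_relPMCLCp2_12 : chkRelP mclU DMCLCp2 pmMCLCp2 12 = true := by decide +kernel

theorem chk_relPMCLCp2_13 : chkRelP mclU DMCLCp2 pmMCLCp2 13 = true := by decide +kernel

theorem chk_relPMCLCp2_14 : chkRelP mclU DMCLCp2 pmMCLCp2 14 = true := by decide +kernel

theorem chk_relPMCLCp2_15 : chkRelP mclU DMCLCp2 pmMCLCp2 15 = true := by decide +kernel

theorem chk_relPMCLCp2_16 : chkRelP mclU DMCLCp2 pmMCLCp2 16 = true := by decide +kernel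

theorem chk_relPMCLCp2_17 : chkRelP mclU DMCLCp2 pmMCLCp2 17 = true := by decide +kernel

theorem chk_relPMCLCp2_18 : chkRelP mclU DMCLCp2 pmMCLCp2 18 = true := by decide +kernel

theorem chk_relPMCLCp2_19 : chkRelP mclU DMCLCp2 pmMCLCp2 19 = true := by decide +kernel

theorem chk_relPMCLCp2_20 : chkRelP mclU DMCLCp2 pmMCLCp2 20 = true := by decide +kernel

theorem chk_relPMCLCp2_21 : chkRelP mclU DMCLCp2 pmMCLCp2 21 = true := by decide +kernel

theorem chk_relPMCLCp2_22 : chkRelP mclU DMCLCp2 pmMCLCp2 22 = true := by decide +kernel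

theorem chk_relPMCLCp2_23 : chkRelP mclU DMCLCp2 pmMCLCp2 23 = true := by decide +kernel

theorem chk_ordPMCLCp2_0 : chkOrdP mclU DMCLCp2 pmMCLCp2 0 = true := by decide +kernel

theorem chk_ordPMCLCp2_1 : chkOrdP mclU DMCLCp2 pmMCLCp2 1 = true := by decide +kernel

theorem chk_lwPMCLCp2_0 : chkLwP mclU wsMCLCp2 pmMCLCp2 lwMCLCp2 0 = true := by decide +kernel

theorem chk_lwPMCLCp2_1 : chkLwP mclU wsMCLCp2 pmMCLCp2 lwMCLCp2 1 = true := by decide +kernel

theorem coreMCLCp2 : CoreFacts mclU DMCLCp2 wsMCLCp2 pmMCLCp2 lwMCLCp2 := by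
  apply coreFacts_of_chk
  · rfl
  · intro i hi
    have h' : i < 2 := hi
    interval_cases i
    · exact chk_tabMCLCp2_0
    · exact chk_tabMCLCp2_1
  · intro r hr
    have h' : r < 24 := hr
    interval_cases r
    · exact chk_relPMCLCp2_0
    · exact chk_relPMCLCp2_1
    · exact chk_relPMCLCp2_2
    · exact chk_relPMCLCp2_3
    · exact chk_relPMCLCp2_4
    · exact chk_relPMCLCp2_5
    · exact chk_relPMCLCp2_6
    · exact chk_relPMCLCp2_7
    · exact chk_relPMCLCp2_8
    · exact chk_relPMCLCp2_9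
    · exact chk_relPMCLCp2_10
    · exact chk_relPMCLCp2_11
    · exact chk_relPMCLCp2_12
    · exact chk_relPMCLCp2_13
    · exact chk_relPMCLCp2_14
    · exact chk_relPMCLCp2_15
    · exact chk_relPMCLCp2_16
    · exact chk_relPMCLCp2_17
    · exact chk_relPMCLCp2_18
    · exact chk_relPMCLCp2_19
    · exact chk_relPMCLCp2_20
    · exact chk_relPMCLCp2_21
    · exact chk_relPMCLCp2_22
    · exact chk_relPMCLCp2_23
  · intro i hi
    have h' : i < 2 := hi
    interval_cases i
    · exact chk_ordPMCLCp2_0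
    · exact chk_ordPMCLCp2_1
  · intro c hc
    have h' : c < 2 := hc
    interval_cases c
    · exact chk_lwPMCLCp2_0
    · exact chk_lwPMCLCp2_1

end Cfsg.Agent.Lib.Helper6.MultD
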