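import Cfsg.Agent.Lib.Helper6.Mult.PM7
import Cfsg.Agent.Lib.Helper6.MultD.MCLUML
import Cfsg.Agent.Lib.Helper6.MultD.MCLCp2D

set_option autoImplicit false
set_option maxRecDepth 100000

/-! The subgroup `U3(5)` of the McLaughlin group on 126 sets of 50 points, data MCLCp2: the checks of the action on the sets. -/

namespace Cfsg.Agent.Lib.Helper6.MultD

open Cfsg.Agent.Lib.Helper6.PM Cfsg.Agent.Lib.Helper1

/-- a table recovering the index of a set from its mask modulo 509, when it is unique -/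
def invN1MCLCp2 : ℕ := 0x7efdfbe52fd13f7e21fabfefdfa8fefdfbf7efdfbf7efdfbf7efdfbf7efdfb67efdfbf7efdfbf5efdfbf7efdf9192fdfbf7efdfbf7efdfbf22fdfbf7efdf9c4cfdfbf7efdfbf2bfdfbf7efcb3f04fc4ff78fdfbf7e5fe7f7efdf9eb3fdfbf7efdfbf7efdfbf7efdfbf7efdfbf7e9dfbf7eaa7327efdfbf7efdfbf7efdfbf7e4bfbf7efdfbf7efdfbf7efdfbf7efdfbf7efdfbf7efdfbf05fdfbf7efdf8c15fdf9dfefdf977efce7f7efdfbf7e97fbf27fdfbf7efdfbf7efdfbf7efdf9b7efdfbf7efd73f7efdfb5fefdfbf7efdfbf7efdfbf7efcdff7efd0bf7efc2bf7efdfbf7efdf8a5ffdfbf7efdfbf7e65fbf3efd0ff7efdfbf7e79fbf7eb7fbf7efdfbbfefc07f7efdfa47efd63f7efdfbf7efdfbf7efdfbf7efc37f7efc7bf7efdfbf7ef7fbf7efdfbf7efdfbf7e75f8dfefd8bf7efdf877efdfad70fdfbf7efdfbf45ddfbf1ffdfa9fefdfbf7efb53f7efdfbf1afdfbf7efdfa57efdfbf7efdfbf7efdfbf7e05fb9fe9b9ff7efdfbf7e60fff11fdfbf31fdfbf16fdfa0e9fd1bf7efd1ff7efdfbf09e5fbf7efdfbf7efdfbf7efdf83fe33fbf7efdf937efdfb43501fbaa1fdfba7efdfb1fecdfbf7e81fbf7efdfbf7efdfbf76fdfbf2dfdfbf0c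

/-- a table recovering the index of the other sets from their masks modulo 115 -/
def invN2MCLCp2 : ℕ := 0x1200013c0080000000de000000140000000004900000002e0000000778d600000000000003000000001745e000d00000000000000000000036800000000000002a00030800000000d4000000000059000000000a0006000078000010005394000000007a

def invMCLCp2 (a : ℕ) : ℕ :=
  if (invN1MCLCp2 >>> (7 * (a % 509))) % 2 ^ 7 = 126 then (invN2MCLCp2 >>> (7 * (a % 115))) % 2 ^ 7
  else (invN1MCLCp2 >>> (7 * (a % 509))) % 2 ^ 7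

theorem chk_setsMCLCp2_0 : chkSetsB mclU pmMCLCp2 masksMCLCp2 DMCLCp2.m DMCLCp2.pi 0 = true := by decide +kernel

theorem chk_setsMCLCp2_1 : chkSetsB mclU pmMCLCp2 masksMCLCp2 DMCLCp2.m DMCLCp2.pi 1 = true := by decide +kernel

theorem chk_setsMCLCp2 : ∀ i < wsMCLCp2.length, chkSets mclU pmMCLCp2 masksMCLCp2 DMCLCp2.m DMCLCp2.pi i = true := by
  intro i hi
  apply chkSets_of_B
  have h' : i < 2 := hi
  interval_cases i
  · exact chk_setsMCLCp2_0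
  · exact chk_setsMCLCp2_1

theorem chk_distinctMCLCp2 : chkDistinct mclU masksMCLCp2 DMCLCp2.m = true :=
  chkDistinct_of_invB mclU masksMCLCp2 DMCLCp2.m invMCLCp2 (by decide +kernel)

end Cfsg.Agent.Lib.Helper6.MultD
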