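import Cfsg.Agent.Lib.Helper6.Mult.PM3
import Cfsg.Agent.Lib.Helper7.McLB9
import Cfsg.Agent.Lib.Helper6.MultD.MCLPp5D

set_option autoImplicit false
set_option maxRecDepth 100000

/-! The McLaughlin group on 275 points, data MCLPp5: the checks of the generators. -/

namespace Cfsg.Agent.Lib.Helper6.MultD

open Cfsg.Agent.Lib.Helper6.PM Cfsg.Agent.Lib.Helper1

theorem chk_tabMCLPp5_0 : chkTab Cfsg.Agent.Lib.Helper7.McLB.mclS wsMCLPp5 pmMCLPp5 0 = true := by decide +kernel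

theorem chk_tabMCLPp5_1 : chkTab Cfsg.Agent.Lib.Helper7.McLB.mclS wsMCLPp5 pmMCLPp5 1 = true := by decide +kernel

theorem chk_relPMCLPp5_0 : chkRelP Cfsg.Agent.Lib.Helper7.McLB.mclS DMCLPp5 pmMCLPp5 0 = true := by decide +kernel

theorem chk_relPMCLPp5_1 : chkRelP Cfsg.Agent.Lib.Helper7.McLB.mclS DMCLPp5 pmMCLPp5 1 = true := by decide +kernel

theorem chk_relPMCLPp5_2 : chkRelP Cfsg.Agent.Lib.Helper7.McLB.mclS DMCLPp5 pmMCLPp5 2 = true := by decide +kernel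

theorem chk_relPMCLPp5_3 : chkRelP Cfsg.Agent.Lib.Helper7.McLB.mclS DMCLPp5 pmMCLPp5 3 = true := by decide +kernel

theorem chk_relPMCLPp5_4 : chkRelP Cfsg.Agent.Lib.Helper7.McLB.mclS DMCLPp5 pmMCLPp5 4 = true := by decide +kernel

theorem chk_relPMCLPp5_5 : chkRelP Cfsg.Agent.Lib.Helper7.McLB.mclS DMCLPp5 pmMCLPp5 5 = true := by decide +kernel

theorem chk_relPMCLPp5_6 : chkRelP Cfsg.Agent.Lib.Helper7.McLB.mclS DMCLPp5 pmMCLPp5 6 = true := by decide +kernel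

theorem chk_relPMCLPp5_7 : chkRelP Cfsg.Agent.Lib.Helper7.McLB.mclS DMCLPp5 pmMCLPp5 7 = true := by decide +kernel

theorem chk_relPMCLPp5_8 : chkRelP Cfsg.Agent.Lib.Helper7.McLB.mclS DMCLPp5 pmMCLPp5 8 = true := by decide +kernel

theorem chk_relPMCLPp5_9 : chkRelP Cfsg.Agent.Lib.Helper7.McLB.mclS DMCLPp5 pmMCLPp5 9 = true := by decide +kernel

theorem chk_relPMCLPp5_10 : chkRelP Cfsg.Agent.Lib.Helper7.McLB.mclS DMCLPp5 pmMCLPp5 10 = true := by decide +kernel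

theorem chk_relPMCLPp5_11 : chkRelP Cfsg.Agent.Lib.Helper7.McLB.mclS DMCLPp5 pmMCLPp5 11 = true := by decide +kernel

theorem chk_relPMCLPp5_12 : chkRelP Cfsg.Agent.Lib.Helper7.McLB.mclS DMCLPp5 pmMCLPp5 12 = true := by decide +kernel

theorem chk_relPMCLPp5_13 : chkRelP Cfsg.Agent.Lib.Helper7.McLB.mclS DMCLPp5 pmMCLPp5 13 = true := by decide +kernel

theorem chk_relPMCLPp5_14 : chkRelP Cfsg.Agent.Lib.Helper7.McLB.mclS DMCLPp5 pmMCLPp5 14 = true := by decide +kernel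

theorem chk_relPMCLPp5_15 : chkRelP Cfsg.Agent.Lib.Helper7.McLB.mclS DMCLPp5 pmMCLPp5 15 = true := by decide +kernel

theorem chk_relPMCLPp5_16 : chkRelP Cfsg.Agent.Lib.Helper7.McLB.mclS DMCLPp5 pmMCLPp5 16 = true := by decide +kernel

theorem chk_relPMCLPp5_17 : chkRelP Cfsg.Agent.Lib.Helper7.McLB.mclS DMCLPp5 pmMCLPp5 17 = true := by decide +kernel

theorem chk_ordPMCLPp5_0 : chkOrdP Cfsg.Agent.Lib.Helper7.McLB.mclS DMCLPp5 pmMCLPp5 0 = true := by decide +kernel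

theorem chk_ordPMCLPp5_1 : chkOrdP Cfsg.Agent.Lib.Helper7.McLB.mclS DMCLPp5 pmMCLPp5 1 = true := by decide +kernel

theorem chk_lwPMCLPp5_0 : chkLwP Cfsg.Agent.Lib.Helper7.McLB.mclS wsMCLPp5 pmMCLPp5 lwMCLPp5 0 = true := by decide +kernel

theorem chk_lwPMCLPp5_1 : chkLwP Cfsg.Agent.Lib.Helper7.McLB.mclS wsMCLPp5 pmMCLPp5 lwMCLPp5 1 = true := by decide +kernel

theorem chk_lwPMCLPp5_2 : chkLwP Cfsg.Agent.Lib.Helper7.McLB.mclS wsMCLPp5 pmMCLPp5 lwMCLPp5 2 = true := by decide +kernel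

theorem chk_lwPMCLPp5_3 : chkLwP Cfsg.Agent.Lib.Helper7.McLB.mclS wsMCLPp5 pmMCLPp5 lwMCLPp5 3 = true := by decide +kernel

theorem chk_lwPMCLPp5_4 : chkLwP Cfsg.Agent.Lib.Helper7.McLB.mclS wsMCLPp5 pmMCLPp5 lwMCLPp5 4 = true := by decide +kernel

theorem chk_lwPMCLPp5_5 : chkLwP Cfsg.Agent.Lib.Helper7.McLB.mclS wsMCLPp5 pmMCLPp5 lwMCLPp5 5 = true := by decide +kernel

theorem chk_lwPMCLPp5_6 : chkLwP Cfsg.Agent.Lib.Helper7.McLB.mclS wsMCLPp5 pmMCLPp5 lwMCLPp5 6 = true := by decide +kernel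

theorem chk_lwPMCLPp5_7 : chkLwP Cfsg.Agent.Lib.Helper7.McLB.mclS wsMCLPp5 pmMCLPp5 lwMCLPp5 7 = true := by decide +kernel

theorem chk_lwPMCLPp5_8 : chkLwP Cfsg.Agent.Lib.Helper7.McLB.mclS wsMCLPp5 pmMCLPp5 lwMCLPp5 8 = true := by decide +kernel

theorem chk_lwPMCLPp5_9 : chkLwP Cfsg.Agent.Lib.Helper7.McLB.mclS wsMCLPp5 pmMCLPp5 lwMCLPp5 9 = true := by decide +kernel

theorem chk_lwPMCLPp5_10 : chkLwP Cfsg.Agent.Lib.Helper7.McLB.mclS wsMCLPp5 pmMCLPp5 lwMCLPp5 10 = true := by decide +kernel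

theorem chk_lwPMCLPp5_11 : chkLwP Cfsg.Agent.Lib.Helper7.McLB.mclS wsMCLPp5 pmMCLPp5 lwMCLPp5 11 = true := by decide +kernel

theorem chk_lwPMCLPp5_12 : chkLwP Cfsg.Agent.Lib.Helper7.McLB.mclS wsMCLPp5 pmMCLPp5 lwMCLPp5 12 = true := by decide +kernel

theorem chk_lwPMCLPp5_13 : chkLwP Cfsg.Agent.Lib.Helper7.McLB.mclS wsMCLPp5 pmMCLPp5 lwMCLPp5 13 = true := by decide +kernel

theorem chk_lwPMCLPp5_14 : chkLwP Cfsg.Agent.Lib.Helper7.McLB.mclS wsMCLPp5 pmMCLPp5 lwMCLPp5 14 = true := by decide +kernel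

theorem chk_lwPMCLPp5_15 : chkLwP Cfsg.Agent.Lib.Helper7.McLB.mclS wsMCLPp5 pmMCLPp5 lwMCLPp5 15 = true := by decide +kernel

theorem chk_lwPMCLPp5_16 : chkLwP Cfsg.Agent.Lib.Helper7.McLB.mclS wsMCLPp5 pmMCLPp5 lwMCLPp5 16 = true := by decide +kernel

theorem chk_lwPMCLPp5_17 : chkLwP Cfsg.Agent.Lib.Helper7.McLB.mclS wsMCLPp5 pmMCLPp5 lwMCLPp5 17 = true := by decide +kernel

theorem chk_lwPMCLPp5_18 : chkLwP Cfsg.Agent.Lib.Helper7.McLB.mclS wsMCLPp5 pmMCLPp5 lwMCLPp5 18 = true := by decide +kernel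

theorem coreMCLPp5 : CoreFacts Cfsg.Agent.Lib.Helper7.McLB.mclS DMCLPp5 wsMCLPp5 pmMCLPp5 lwMCLPp5 := by
  apply coreFacts_of_chk
  · rfl
  · intro i hi
    have h' : i < 2 := hi
    interval_cases i
    · exact chk_tabMCLPp5_0
    · exact chk_tabMCLPp5_1
  · intro r hr
    have h' : r < 18 := hr
    interval_cases r
    · exact chk_relPMCLPp5_0
    · exact chk_relPMCLPp5_1
    · exact chk_relPMCLPp5_2
    · exact chk_relPMCLPp5_3
    · exact chk_relPMCLPp5_4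
    · exact chk_relPMCLPp5_5
    · exact chk_relPMCLPp5_6
    · exact chk_relPMCLPp5_7
    · exact chk_relPMCLPp5_8
    · exact chk_relPMCLPp5_9
    · exact chk_relPMCLPp5_10
    · exact chk_relPMCLPp5_11
    · exact chk_relPMCLPp5_12
    · exact chk_relPMCLPp5_13
    · exact chk_relPMCLPp5_14
    · exact chk_relPMCLPp5_15
    · exact chk_relPMCLPp5_16
    · exact chk_relPMCLPp5_17
  · intro i hi
    have h' : i < 2 := hi
    interval_cases i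
    · exact chk_ordPMCLPp5_0
    · exact chk_ordPMCLPp5_1
  · intro c hc
    have h' : c < 19 := hc
    interval_cases c
    · exact chk_lwPMCLPp5_0
    · exact chk_lwPMCLPp5_1
    · exact chk_lwPMCLPp5_2
    · exact chk_lwPMCLPp5_3
    · exact chk_lwPMCLPp5_4
    · exact chk_lwPMCLPp5_5
    · exact chk_lwPMCLPp5_6
    · exact chk_lwPMCLPp5_7
    · exact chk_lwPMCLPp5_8
    · exact chk_lwPMCLPp5_9
    · exact chk_lwPMCLPp5_10
    · exact chk_lwPMCLPp5_11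
    · exact chk_lwPMCLPp5_12
    · exact chk_lwPMCLPp5_13
    · exact chk_lwPMCLPp5_14
    · exact chk_lwPMCLPp5_15
    · exact chk_lwPMCLPp5_16
    · exact chk_lwPMCLPp5_17
    · exact chk_lwPMCLPp5_18

theorem chk_ptsMCLPp5 : chkPts Cfsg.Agent.Lib.Helper7.McLB.mclS DMCLPp5 wsMCLPp5 pmMCLPp5 PLMCLPp5 PLIMCLPp5 = true := by decide +kernel

end Cfsg.Agent.Lib.Helper6.MultD
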