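import Mathlib

set_option autoImplicit false

/-! The subgroup `U4(3)` of the McLaughlin group: the generators and their tables. -/

namespace Cfsg.Agent.Lib.Helper6.MultD

/-- the generators of the subgroup as words in the letters of the model -/
def wsMCLVM : List (List ℕ) := [[13, 12, 14], [4, 15]]

/-- the tables of the generators on the points -/
def pmNMCLVM : List ℕ := [0xd54cce6b1e1d61c499ca08313eb252a3a68b654ef758b9dfa0403bd47e5e419e434b017a70eee311878d4a56b93464e07f415f48b16449a68715370ea361a161e2803780c96502e894900b4dbfd5017651fa0c6d1d8e190632c83982e109c2d6410772f9a0b4130510c1d1e3e620f41803d440d02c44e2ec839599aab39bcdd05b45208404e4cafc7cd20daa422125d190f45c4c43ce88c51b6e067050ad42b0814a51d4d859912020822b756d0e810dd228d72060cc168695cd261329518a6819a59f0924bc296ee9521ad80ae049d9defc562a976491e8885cfb1207c32b927bc1da89443785acb5c268c0a05eb3ca6283e0318c21159180c9f3390414af569484e4a2d332007f3d9b11ed56194472bc79154870c6239502626f91d0af621279cc9d48308dd092621080c76a388beda470080200, 0x1a554a3773121a97460b872af0c0f8a09482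011522686408630f08288bcd9691d0243044b28d881070a1270b1b8640ae42c331f87d481b49cb97dbe0dc4a1e8d9d8132b83dda2f1d368fe5f3cc39acba6a40dbe7b629aa206737c1c34442cbd040991c3ddded1013e5b824793cdd6f069b9dea4106bc5a0483b1f91a8020395627c191747e8f4e30c3a14748d108c625889169526ab596c0742fcaa536c00d8ecd59aba22511081cb4476bc28143b24b2056b70a9488a063321416bd5e20dfede3918dcc23520d42e8839a195098138259c2a493d94a467022898114eae1049a2e1de102550415b66800a842c1b751adc4e3892d582c92d830e0910e1096c2c5918958563d26d68614fb5612bb168214cb01e3f99e716ea783d017d21d8500321511c290faacc06519c192ca7709d4f04f21af9fa00]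

def pmMCLVM (i q : ℕ) : ℕ := (pmNMCLVM.getD i 0 >>> (9 * q)) % 2 ^ 9

end Cfsg.Agent.Lib.Helper6.MultD
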