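import Cfsg.Agent.Lib.Helper6.Mult.PM3
import Cfsg.Agent.Lib.Helper6.Mult.O73A
import Cfsg.Agent.Lib.Helper6.MultD.O73Ap2D

set_option autoImplicit false
set_option maxRecDepth 100000

/-! The presented group `O73` on 378 sets, data O73Ap2: the checks of the generators. -/

namespace Cfsg.Agent.Lib.Helper6.MultD

open Cfsg.Agent.Lib.Helper6.PM Cfsg.Agent.Lib.Helper6.O73M Cfsg.Agent.Lib.Helper1

theorem chk_tabO73Ap2_0 : chkTab o73Model wsO73Ap2 pmO73Ap2 0 = true := by decide +kernel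

theorem chk_tabO73Ap2_1 : chkTab o73Model wsO73Ap2 pmO73Ap2 1 = true := by decide +kernel

theorem chk_tabO73Ap2_2 : chkTab o73Model wsO73Ap2 pmO73Ap2 2 = true := by decide +kernel

theorem chk_tabO73Ap2_3 : chkTab o73Model wsO73Ap2 pmO73Ap2 3 = true := by decide +kernel

theorem chk_tabO73Ap2_4 : chkTab o73Model wsO73Ap2 pmO73Ap2 4 = true := by decide +kernel

theorem chk_tabO73Ap2_5 : chkTab o73Model wsO73Ap2 pmO73Ap2 5 = true := by decide +kernel

theorem chk_tabO73Ap2_6 : chkTab o73Model wsO73Ap2 pmO73Ap2 6 = true := by decide +kernel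

theorem chk_tabO73Ap2_7 : chkTab o73Model wsO73Ap2 pmO73Ap2 7 = true := by decide +kernel

theorem chk_relPO73Ap2_0 : chkRelP o73Model DO73Ap2 pmO73Ap2 0 = true := by decide +kernel

theorem chk_relPO73Ap2_1 : chkRelP o73Model DO73Ap2 pmO73Ap2 1 = true := by decide +kernel

theorem chk_relPO73Ap2_2 : chkRelP o73Model DO73Ap2 pmO73Ap2 2 = true := by decide +kernel

theorem chk_relPO73Ap2_3 : chkRelP o73Model DO73Ap2 pmO73Ap2 3 = true := by decide +kernel

theorem chk_relPO73Ap2_4 : chkRelP o73Model DO73Ap2 pmO73Ap2 4 = true := by decide +kernel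

theorem chk_relPO73Ap2_5 : chkRelP o73Model DO73Ap2 pmO73Ap2 5 = true := by decide +kernel

theorem chk_relPO73Ap2_6 : chkRelP o73Model DO73Ap2 pmO73Ap2 6 = true := by decide +kernel

theorem chk_relPO73Ap2_7 : chkRelP o73Model DO73Ap2 pmO73Ap2 7 = true := by decide +kernel

theorem chk_relPO73Ap2_8 : chkRelP o73Model DO73Ap2 pmO73Ap2 8 = true := by decide +kernel

theorem chk_relPO73Ap2_9 : chkRelP o73Model DO73Ap2 pmO73Ap2 9 = true := by decide +kernel

theorem chk_relPO73Ap2_10 : chkRelP o73Model DO73Ap2 pmO73Ap2 10 = true := by decide +kernel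

theorem chk_relPO73Ap2_11 : chkRelP o73Model DO73Ap2 pmO73Ap2 11 = true := by decide +kernel

theorem chk_relPO73Ap2_12 : chkRelP o73Model DO73Ap2 pmO73Ap2 12 = true := by decide +kernel

theorem chk_relPO73Ap2_13 : chkRelP o73Model DO73Ap2 pmO73Ap2 13 = true := by decide +kernel

theorem chk_relPO73Ap2_14 : chkRelP o73Model DO73Ap2 pmO73Ap2 14 = true := by decide +kernel

theorem chk_relPO73Ap2_15 : chkRelP o73Model DO73Ap2 pmO73Ap2 15 = true := by decide +kernel

theorem chk_relPO73Ap2_16 : chkRelP o73Model DO73Ap2 pmO73Ap2 16 = true := by decide +kernel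

theorem chk_relPO73Ap2_17 : chkRelP o73Model DO73Ap2 pmO73Ap2 17 = true := by decide +kernel

theorem chk_relPO73Ap2_18 : chkRelP o73Model DO73Ap2 pmO73Ap2 18 = true := by decide +kernel

theorem chk_relPO73Ap2_19 : chkRelP o73Model DO73Ap2 pmO73Ap2 19 = true := by decide +kernel

theorem chk_relPO73Ap2_20 : chkRelP o73Model DO73Ap2 pmO73Ap2 20 = true := by decide +kernel

theorem chk_relPO73Ap2_21 : chkRelP o73Model DO73Ap2 pmO73Ap2 21 = true := by decide +kernel

theorem chk_relPO73Ap2_22 : chkRelP o73Model DO73Ap2 pmO73Ap2 22 = true := by decide +kernel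

theorem chk_relPO73Ap2_23 : chkRelP o73Model DO73Ap2 pmO73Ap2 23 = true := by decide +kernel

theorem chk_relPO73Ap2_24 : chkRelP o73Model DO73Ap2 pmO73Ap2 24 = true := by decide +kernel

theorem chk_relPO73Ap2_25 : chkRelP o73Model DO73Ap2 pmO73Ap2 25 = true := by decide +kernel

theorem chk_relPO73Ap2_26 : chkRelP o73Model DO73Ap2 pmO73Ap2 26 = true := by decide +kernel

theorem chk_relPO73Ap2_27 : chkRelP o73Model DO73Ap2 pmO73Ap2 27 = true := by decide +kernel

theorem chk_relPO73Ap2_28 : chkRelP o73Model DO73Ap2 pmO73Ap2 28 = true := by decide +kernel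

theorem chk_relPO73Ap2_29 : chkRelP o73Model DO73Ap2 pmO73Ap2 29 = true := by decide +kernel

theorem chk_ordPO73Ap2_0 : chkOrdP o73Model DO73Ap2 pmO73Ap2 0 = true := by decide +kernel

theorem chk_ordPO73Ap2_1 : chkOrdP o73Model DO73Ap2 pmO73Ap2 1 = true := by decide +kernel

theorem chk_ordPO73Ap2_2 : chkOrdP o73Model DO73Ap2 pmO73Ap2 2 = true := by decide +kernel

theorem chk_ordPO73Ap2_3 : chkOrdP o73Model DO73Ap2 pmO73Ap2 3 = true := by decide +kernel

theorem chk_ordPO73Ap2_4 : chkOrdP o73Model DO73Ap2 pmO73Ap2 4 = true := by decide +kernel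

theorem chk_ordPO73Ap2_5 : chkOrdP o73Model DO73Ap2 pmO73Ap2 5 = true := by decide +kernel

theorem chk_ordPO73Ap2_6 : chkOrdP o73Model DO73Ap2 pmO73Ap2 6 = true := by decide +kernel

theorem chk_ordPO73Ap2_7 : chkOrdP o73Model DO73Ap2 pmO73Ap2 7 = true := by decide +kernel

theorem chk_lwPO73Ap2_0 : chkLwP o73Model wsO73Ap2 pmO73Ap2 lwO73Ap2 0 = true := by decide +kernel

theorem chk_lwPO73Ap2_1 : chkLwP o73Model wsO73Ap2 pmO73Ap2 lwO73Ap2 1 = true := by decide +kernel

theorem chk_lwPO73Ap2_2 : chkLwP o73Model wsO73Ap2 pmO73Ap2 lwO73Ap2 2 = true := by decide +kernel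

theorem chk_lwPO73Ap2_3 : chkLwP o73Model wsO73Ap2 pmO73Ap2 lwO73Ap2 3 = true := by decide +kernel

theorem chk_lwPO73Ap2_4 : chkLwP o73Model wsO73Ap2 pmO73Ap2 lwO73Ap2 4 = true := by decide +kernel

theorem chk_lwPO73Ap2_5 : chkLwP o73Model wsO73Ap2 pmO73Ap2 lwO73Ap2 5 = true := by decide +kernel

theorem chk_lwPO73Ap2_6 : chkLwP o73Model wsO73Ap2 pmO73Ap2 lwO73Ap2 6 = true := by decide +kernel

theorem chk_lwPO73Ap2_7 : chkLwP o73Model wsO73Ap2 pmO73Ap2 lwO73Ap2 7 = true := by decide +kernel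

theorem coreO73Ap2 : CoreFacts o73Model DO73Ap2 wsO73Ap2 pmO73Ap2 lwO73Ap2 := by
  apply coreFacts_of_chk
  · rfl
  · intro i hi
    have h' : i < 8 := hi
    interval_cases i
    · exact chk_tabO73Ap2_0
    · exact chk_tabO73Ap2_1
    · exact chk_tabO73Ap2_2
    · exact chk_tabO73Ap2_3
    · exact chk_tabO73Ap2_4
    · exact chk_tabO73Ap2_5
    · exact chk_tabO73Ap2_6
    · exact chk_tabO73Ap2_7
  · intro r hr
    have h' : r < 30 := hr
    interval_cases r
    · exact chk_relPO73Ap2_0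
    · exact chk_relPO73Ap2_1
    · exact chk_relPO73Ap2_2
    · exact chk_relPO73Ap2_3
    · exact chk_relPO73Ap2_4
    · exact chk_relPO73Ap2_5
    · exact chk_relPO73Ap2_6
    · exact chk_relPO73Ap2_7
    · exact chk_relPO73Ap2_8
    · exact chk_relPO73Ap2_9
    · exact chk_relPO73Ap2_10
    · exact chk_relPO73Ap2_11
    · exact chk_relPO73Ap2_12
    · exact chk_relPO73Ap2_13
    · exact chk_relPO73Ap2_14
    · exact chk_relPO73Ap2_15
    · exact chk_relPO73Ap2_16
    · exact chk_relPO73Ap2_17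
    · exact chk_relPO73Ap2_18
    · exact chk_relPO73Ap2_19
    · exact chk_relPO73Ap2_20
    · exact chk_relPO73Ap2_21
    · exact chk_relPO73Ap2_22
    · exact chk_relPO73Ap2_23
    · exact chk_relPO73Ap2_24
    · exact chk_relPO73Ap2_25
    · exact chk_relPO73Ap2_26
    · exact chk_relPO73Ap2_27
    · exact chk_relPO73Ap2_28
    · exact chk_relPO73Ap2_29
  · intro i hi
    have h' : i < 8 := hi
    interval_cases i
    · exact chk_ordPO73Ap2_0
    · exact chk_ordPO73Ap2_1
    · exact chk_ordPO73Ap2_2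
    · exact chk_ordPO73Ap2_3
    · exact chk_ordPO73Ap2_4
    · exact chk_ordPO73Ap2_5
    · exact chk_ordPO73Ap2_6
    · exact chk_ordPO73Ap2_7
  · intro c hc
    have h' : c < 8 := hc
    interval_cases c
    · exact chk_lwPO73Ap2_0
    · exact chk_lwPO73Ap2_1
    · exact chk_lwPO73Ap2_2
    · exact chk_lwPO73Ap2_3
    · exact chk_lwPO73Ap2_4
    · exact chk_lwPO73Ap2_5
    · exact chk_lwPO73Ap2_6
    · exact chk_lwPO73Ap2_7

end Cfsg.Agent.Lib.Helper6.MultD
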