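import Cfsg.Agent.Lib.Helper6.Mult.PM3
import Cfsg.Agent.Lib.Helper6.MultD.O73LML
import Cfsg.Agent.Lib.Helper6.MultD.O73Bp2D

set_option autoImplicit false
set_option maxRecDepth 100000

/-! The subgroup `L4(3)` of the presented group `O73` on 117 sets, data O73Bp2: the checks of the generators. -/

namespace Cfsg.Agent.Lib.Helper6.MultD

open Cfsg.Agent.Lib.Helper6.PM Cfsg.Agent.Lib.Helper6.O73M Cfsg.Agent.Lib.Helper1

theorem chk_tabO73Bp2_0 : chkTab o73L wsO73Bp2 pmO73Bp2 0 = true := by decide +kernel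

theorem chk_tabO73Bp2_1 : chkTab o73L wsO73Bp2 pmO73Bp2 1 = true := by decide +kernel

theorem chk_tabO73Bp2_2 : chkTab o73L wsO73Bp2 pmO73Bp2 2 = true := by decide +kernel

theorem chk_tabO73Bp2_3 : chkTab o73L wsO73Bp2 pmO73Bp2 3 = true := by decide +kernel

theorem chk_tabO73Bp2_4 : chkTab o73L wsO73Bp2 pmO73Bp2 4 = true := by decide +kernel

theorem chk_tabO73Bp2_5 : chkTab o73L wsO73Bp2 pmO73Bp2 5 = true := by decide +kernel

theorem chk_relPO73Bp2_0 : chkRelP o73L DO73Bp2 pmO73Bp2 0 = true := by decide +kernel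

theorem chk_relPO73Bp2_1 : chkRelP o73L DO73Bp2 pmO73Bp2 1 = true := by decide +kernel

theorem chk_relPO73Bp2_2 : chkRelP o73L DO73Bp2 pmO73Bp2 2 = true := by decide +kernel

theorem chk_relPO73Bp2_3 : chkRelP o73L DO73Bp2 pmO73Bp2 3 = true := by decide +kernel

theorem chk_relPO73Bp2_4 : chkRelP o73L DO73Bp2 pmO73Bp2 4 = true := by decide +kernel

theorem chk_relPO73Bp2_5 : chkRelP o73L DO73Bp2 pmO73Bp2 5 = true := by decide +kernel

theorem chk_relPO73Bp2_6 : chkRelP o73L DO73Bp2 pmO73Bp2 6 = true := by decide +kernel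

theorem chk_relPO73Bp2_7 : chkRelP o73L DO73Bp2 pmO73Bp2 7 = true := by decide +kernel

theorem chk_relPO73Bp2_8 : chkRelP o73L DO73Bp2 pmO73Bp2 8 = true := by decide +kernel

theorem chk_relPO73Bp2_9 : chkRelP o73L DO73Bp2 pmO73Bp2 9 = true := by decide +kernel

theorem chk_relPO73Bp2_10 : chkRelP o73L DO73Bp2 pmO73Bp2 10 = true := by decide +kernel

theorem chk_relPO73Bp2_11 : chkRelP o73L DO73Bp2 pmO73Bp2 11 = true := by decide +kernel

theorem chk_relPO73Bp2_12 : chkRelP o73L DO73Bp2 pmO73Bp2 12 = true := by decide +kernel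

theorem chk_relPO73Bp2_13 : chkRelP o73L DO73Bp2 pmO73Bp2 13 = true := by decide +kernel

theorem chk_relPO73Bp2_14 : chkRelP o73L DO73Bp2 pmO73Bp2 14 = true := by decide +kernel

theorem chk_relPO73Bp2_15 : chkRelP o73L DO73Bp2 pmO73Bp2 15 = true := by decide +kernel

theorem chk_relPO73Bp2_16 : chkRelP o73L DO73Bp2 pmO73Bp2 16 = true := by decide +kernel

theorem chk_relPO73Bp2_17 : chkRelP o73L DO73Bp2 pmO73Bp2 17 = true := by decide +kernel

theorem chk_relPO73Bp2_18 : chkRelP o73L DO73Bp2 pmO73Bp2 18 = true := by decide +kernel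

theorem chk_relPO73Bp2_19 : chkRelP o73L DO73Bp2 pmO73Bp2 19 = true := by decide +kernel

theorem chk_relPO73Bp2_20 : chkRelP o73L DO73Bp2 pmO73Bp2 20 = true := by decide +kernel

theorem chk_relPO73Bp2_21 : chkRelP o73L DO73Bp2 pmO73Bp2 21 = true := by decide +kernel

theorem chk_relPO73Bp2_22 : chkRelP o73L DO73Bp2 pmO73Bp2 22 = true := by decide +kernel

theorem chk_relPO73Bp2_23 : chkRelP o73L DO73Bp2 pmO73Bp2 23 = true := by decide +kernel

theorem chk_relPO73Bp2_24 : chkRelP o73L DO73Bp2 pmO73Bp2 24 = true := by decide +kernel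

theorem chk_relPO73Bp2_25 : chkRelP o73L DO73Bp2 pmO73Bp2 25 = true := by decide +kernel

theorem chk_relPO73Bp2_26 : chkRelP o73L DO73Bp2 pmO73Bp2 26 = true := by decide +kernel

theorem chk_relPO73Bp2_27 : chkRelP o73L DO73Bp2 pmO73Bp2 27 = true := by decide +kernel

theorem chk_relPO73Bp2_28 : chkRelP o73L DO73Bp2 pmO73Bp2 28 = true := by decide +kernel

theorem chk_ordPO73Bp2_0 : chkOrdP o73L DO73Bp2 pmO73Bp2 0 = true := by decide +kernel

theorem chk_ordPO73Bp2_1 : chkOrdP o73L DO73Bp2 pmO73Bp2 1 = true := by decide +kernel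

theorem chk_ordPO73Bp2_2 : chkOrdP o73L DO73Bp2 pmO73Bp2 2 = true := by decide +kernel

theorem chk_ordPO73Bp2_3 : chkOrdP o73L DO73Bp2 pmO73Bp2 3 = true := by decide +kernel

theorem chk_ordPO73Bp2_4 : chkOrdP o73L DO73Bp2 pmO73Bp2 4 = true := by decide +kernel

theorem chk_ordPO73Bp2_5 : chkOrdP o73L DO73Bp2 pmO73Bp2 5 = true := by decide +kernel

theorem chk_lwPO73Bp2_0 : chkLwP o73L wsO73Bp2 pmO73Bp2 lwO73Bp2 0 = true := by decide +kernel

theorem chk_lwPO73Bp2_1 : chkLwP o73L wsO73Bp2 pmO73Bp2 lwO73Bp2 1 = true := by decide +kernel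

theorem chk_lwPO73Bp2_2 : chkLwP o73L wsO73Bp2 pmO73Bp2 lwO73Bp2 2 = true := by decide +kernel

theorem chk_lwPO73Bp2_3 : chkLwP o73L wsO73Bp2 pmO73Bp2 lwO73Bp2 3 = true := by decide +kernel

theorem chk_lwPO73Bp2_4 : chkLwP o73L wsO73Bp2 pmO73Bp2 lwO73Bp2 4 = true := by decide +kernel

theorem chk_lwPO73Bp2_5 : chkLwP o73L wsO73Bp2 pmO73Bp2 lwO73Bp2 5 = true := by decide +kernel

theorem chk_lwPO73Bp2_6 : chkLwP o73L wsO73Bp2 pmO73Bp2 lwO73Bp2 6 = true := by decide +kernel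

theorem coreO73Bp2 : CoreFacts o73L DO73Bp2 wsO73Bp2 pmO73Bp2 lwO73Bp2 := by
  apply coreFacts_of_chk
  · rfl
  · intro i hi
    have h' : i < 6 := hi
    interval_cases i
    · exact chk_tabO73Bp2_0
    · exact chk_tabO73Bp2_1
    · exact chk_tabO73Bp2_2
    · exact chk_tabO73Bp2_3
    · exact chk_tabO73Bp2_4
    · exact chk_tabO73Bp2_5
  · intro r hr
    have h' : r < 29 := hr
    interval_cases r
    · exact chk_relPO73Bp2_0
    · exact chk_relPO73Bp2_1
    · exact chk_relPO73Bp2_2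
    · exact chk_relPO73Bp2_3
    · exact chk_relPO73Bp2_4
    · exact chk_relPO73Bp2_5
    · exact chk_relPO73Bp2_6
    · exact chk_relPO73Bp2_7
    · exact chk_relPO73Bp2_8
    · exact chk_relPO73Bp2_9
    · exact chk_relPO73Bp2_10
    · exact chk_relPO73Bp2_11
    · exact chk_relPO73Bp2_12
    · exact chk_relPO73Bp2_13
    · exact chk_relPO73Bp2_14
    · exact chk_relPO73Bp2_15
    · exact chk_relPO73Bp2_16
    · exact chk_relPO73Bp2_17
    · exact chk_relPO73Bp2_18
    · exact chk_relPO73Bp2_19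
    · exact chk_relPO73Bp2_20
    · exact chk_relPO73Bp2_21
    · exact chk_relPO73Bp2_22
    · exact chk_relPO73Bp2_23
    · exact chk_relPO73Bp2_24
    · exact chk_relPO73Bp2_25
    · exact chk_relPO73Bp2_26
    · exact chk_relPO73Bp2_27
    · exact chk_relPO73Bp2_28
  · intro i hi
    have h' : i < 6 := hi
    interval_cases i
    · exact chk_ordPO73Bp2_0
    · exact chk_ordPO73Bp2_1
    · exact chk_ordPO73Bp2_2
    · exact chk_ordPO73Bp2_3
    · exact chk_ordPO73Bp2_4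
    · exact chk_ordPO73Bp2_5
  · intro c hc
    have h' : c < 7 := hc
    interval_cases c
    · exact chk_lwPO73Bp2_0
    · exact chk_lwPO73Bp2_1
    · exact chk_lwPO73Bp2_2
    · exact chk_lwPO73Bp2_3
    · exact chk_lwPO73Bp2_4
    · exact chk_lwPO73Bp2_5
    · exact chk_lwPO73Bp2_6

end Cfsg.Agent.Lib.Helper6.MultD
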