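import Cfsg.Agent.Lib.Helper6.Mult.PM7
import Cfsg.Agent.Lib.Helper6.MultD.O73LML
import Cfsg.Agent.Lib.Helper6.MultD.O73Bp2D

set_option autoImplicit false
set_option maxRecDepth 100000

/-! The subgroup `L4(3)` of the presented group `O73` on 117 sets, data O73Bp2: the checks of the action on the sets. -/

namespace Cfsg.Agent.Lib.Helper6.MultD

open Cfsg.Agent.Lib.Helper6.PM Cfsg.Agent.Lib.Helper6.O73M Cfsg.Agent.Lib.Helper1

/-- a table recovering the index of a set from its mask -/
def invNO73Bp2 : ℕ := 0x1000000001a0000000000000000840002a000000000000000000000000000000000003c000000200000000000000000000000000000005a0000000000005e000000000037000000000000000000000000000000000000000000002e000670000000000000000000000003780000000000000000000000000000000000000000000000310000000000000000000000000000000000000000000000d800000000009e0000000000000000000000000000000060001a80000190000e80000000000000080000000001c01800ae02e00000000000840000000000307400000000000198000000000000000000000064ca000000001480000000000000000003180000000400000000000000000000000000000000000000058000000000000000000357200000000000000000000000e6e80000000000900000000000000000000000000000000007c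0000000000000088000000000000000000000001500000000000001400000e00000000060000238000000201200000da00000000002d040000000000000002680aa00000000000000000000001880a60001c000000000000410000073d80000000000000000000004c0000002280003000a000000000000000110000000000000023000000000000000000000000002c0000000000000028000000000000000000000b600000760000000000000000000000000001a558000000000000000000000000000000001e870138000000000000000000000000000000000000000000000000000000000007e0000000000000000000d0000000000000000000000000000000000000000000000000000000a4000000000000ac00000c200000000000000000000000000000004300000000000b000000000014400094024000000000000000000b0000e92c000005400000bc0004a0388000000000000000000005000000000000000000000000000000000000000000000000000000000012400000000000050000000000000df80d0000033be0000001ac000000003c10000000000000000000000000120001f00440000000000000000000000000000007800000000006800000000000002c8046000000000000000002732026000000000000c02e0000000000130000000000000000000001b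

def invO73Bp2 (a : ℕ) : ℕ := (invNO73Bp2 >>> (7 * (a % 945))) % 2 ^ 7

theorem chk_setsO73Bp2_0 : chkSetsB o73L pmO73Bp2 masksO73Bp2 DO73Bp2.m DO73Bp2.pi 0 = true := by decide +kernel

theorem chk_setsO73Bp2_1 : chkSetsB o73L pmO73Bp2 masksO73Bp2 DO73Bp2.m DO73Bp2.pi 1 = true := by decide +kernel

theorem chk_setsO73Bp2_2 : chkSetsB o73L pmO73Bp2 masksO73Bp2 DO73Bp2.m DO73Bp2.pi 2 = true := by decide +kernel

theorem chk_setsO73Bp2_3 : chkSetsB o73L pmO73Bp2 masksO73Bp2 DO73Bp2.m DO73Bp2.pi 3 = true := by decide +kernel

theorem chk_setsO73Bp2_4 : chkSetsB o73L pmO73Bp2 masksO73Bp2 DO73Bp2.m DO73Bp2.pi 4 = true := by decide +kernel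

theorem chk_setsO73Bp2_5 : chkSetsB o73L pmO73Bp2 masksO73Bp2 DO73Bp2.m DO73Bp2.pi 5 = true := by decide +kernel

theorem chk_setsO73Bp2 : ∀ i < wsO73Bp2.length, chkSets o73L pmO73Bp2 masksO73Bp2 DO73Bp2.m DO73Bp2.pi i = true := by
  intro i hi
  apply chkSets_of_B
  have h' : i < 6 := hi
  interval_cases i
  · exact chk_setsO73Bp2_0
  · exact chk_setsO73Bp2_1
  · exact chk_setsO73Bp2_2
  · exact chk_setsO73Bp2_3
  · exact chk_setsO73Bp2_4
  · exact chk_setsO73Bp2_5

theorem chk_distinctO73Bp2 : chkDistinct o73L masksO73Bp2 DO73Bp2.m = true :=
  chkDistinct_of_invB o73L masksO73Bp2 DO73Bp2.m invO73Bp2 (by decide +kernel)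

end Cfsg.Agent.Lib.Helper6.MultD
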