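import Cfsg.Agent.Lib.Helper6.MultD.O73LML

set_option autoImplicit false
set_option maxRecDepth 100000

/-! The subgroup `U4(2)` of the presented group `O73`: its model. -/

namespace Cfsg.Agent.Lib.Helper6.MultD

open Cfsg.Agent.Lib.Helper6.PM Cfsg.Agent.Lib.Helper6.O73M Cfsg.Agent.Lib.Helper1

theorem chk_tabO73UM_0 : chkTab o73L wsO73UM pmO73LM 0 = true := by decide +kernel

theorem chk_tabO73UM_1 : chkTab o73L wsO73UM pmO73LM 1 = true := by decide +kernel

theorem chk_tabO73UM_2 : chkTab o73L wsO73UM pmO73LM 2 = true := by decide +kernel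

theorem chk_tabO73UM_3 : chkTab o73L wsO73UM pmO73LM 3 = true := by decide +kernel

theorem chk_tabO73UM_4 : chkTab o73L wsO73UM pmO73LM 4 = true := by decide +kernel

theorem tabO73UM : TabFacts o73L wsO73UM pmO73LM := by
  apply tabFacts_of_chk
  intro i hi
  have h' : i < 5 := hi
  interval_cases i
  · exact chk_tabO73UM_0
  · exact chk_tabO73UM_1
  · exact chk_tabO73UM_2
  · exact chk_tabO73UM_3
  · exact chk_tabO73UM_4

/-- the model of the subgroup `U4(2)` -/
noncomputable def o73U : PModel := sub o73L wsO73UM pmO73LM tabO73UM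

end Cfsg.Agent.Lib.Helper6.MultD
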