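import Cfsg.Agent.Lib.Helper6.Mult.PM3
import Cfsg.Agent.Lib.Helper6.MultD.O73UML
import Cfsg.Agent.Lib.Helper6.MultD.O73Cp2D

set_option autoImplicit false
set_option maxRecDepth 100000

/-! The subgroup `U4(2)` of the presented group `O73` on 320 sets, data O73Cp2: the checks of the generators. -/

namespace Cfsg.Agent.Lib.Helper6.MultD

open Cfsg.Agent.Lib.Helper6.PM Cfsg.Agent.Lib.Helper6.O73M Cfsg.Agent.Lib.Helper1

theorem chk_tabO73Cp2_0 : chkTab o73U wsO73Cp2 pmO73Cp2 0 = true := by decide +kernel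

theorem chk_tabO73Cp2_1 : chkTab o73U wsO73Cp2 pmO73Cp2 1 = true := by decide +kernel

theorem chk_tabO73Cp2_2 : chkTab o73U wsO73Cp2 pmO73Cp2 2 = true := by decide +kernel

theorem chk_tabO73Cp2_3 : chkTab o73U wsO73Cp2 pmO73Cp2 3 = true := by decide +kernel

theorem chk_tabO73Cp2_4 : chkTab o73U wsO73Cp2 pmO73Cp2 4 = true := by decide +kernel

theorem chk_relPO73Cp2_0 : chkRelP o73U DO73Cp2 pmO73Cp2 0 = true := by decide +kernel

theorem chk_relPO73Cp2_1 : chkRelP o73U DO73Cp2 pmO73Cp2 1 = true := by decide +kernel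

theorem chk_relPO73Cp2_2 : chkRelP o73U DO73Cp2 pmO73Cp2 2 = true := by decide +kernel

theorem chk_relPO73Cp2_3 : chkRelP o73U DO73Cp2 pmO73Cp2 3 = true := by decide +kernel

theorem chk_relPO73Cp2_4 : chkRelP o73U DO73Cp2 pmO73Cp2 4 = true := by decide +kernel

theorem chk_relPO73Cp2_5 : chkRelP o73U DO73Cp2 pmO73Cp2 5 = true := by decide +kernel

theorem chk_relPO73Cp2_6 : chkRelP o73U DO73Cp2 pmO73Cp2 6 = true := by decide +kernel

theorem chk_relPO73Cp2_7 : chkRelP o73U DO73Cp2 pmO73Cp2 7 = true := by decide +kernel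

theorem chk_relPO73Cp2_8 : chkRelP o73U DO73Cp2 pmO73Cp2 8 = true := by decide +kernel

theorem chk_relPO73Cp2_9 : chkRelP o73U DO73Cp2 pmO73Cp2 9 = true := by decide +kernel

theorem chk_relPO73Cp2_10 : chkRelP o73U DO73Cp2 pmO73Cp2 10 = true := by decide +kernel

theorem chk_relPO73Cp2_11 : chkRelP o73U DO73Cp2 pmO73Cp2 11 = true := by decide +kernel

theorem chk_relPO73Cp2_12 : chkRelP o73U DO73Cp2 pmO73Cp2 12 = true := by decide +kernel

theorem chk_relPO73Cp2_13 : chkRelP o73U DO73Cp2 pmO73Cp2 13 = true := by decide +kernel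

theorem chk_relPO73Cp2_14 : chkRelP o73U DO73Cp2 pmO73Cp2 14 = true := by decide +kernel

theorem chk_relPO73Cp2_15 : chkRelP o73U DO73Cp2 pmO73Cp2 15 = true := by decide +kernel

theorem chk_relPO73Cp2_16 : chkRelP o73U DO73Cp2 pmO73Cp2 16 = true := by decide +kernel

theorem chk_relPO73Cp2_17 : chkRelP o73U DO73Cp2 pmO73Cp2 17 = true := by decide +kernel

theorem chk_relPO73Cp2_18 : chkRelP o73U DO73Cp2 pmO73Cp2 18 = true := by decide +kernel

theorem chk_relPO73Cp2_19 : chkRelP o73U DO73Cp2 pmO73Cp2 19 = true := by decide +kernel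

theorem chk_relPO73Cp2_20 : chkRelP o73U DO73Cp2 pmO73Cp2 20 = true := by decide +kernel

theorem chk_relPO73Cp2_21 : chkRelP o73U DO73Cp2 pmO73Cp2 21 = true := by decide +kernel

theorem chk_relPO73Cp2_22 : chkRelP o73U DO73Cp2 pmO73Cp2 22 = true := by decide +kernel

theorem chk_relPO73Cp2_23 : chkRelP o73U DO73Cp2 pmO73Cp2 23 = true := by decide +kernel

theorem chk_relPO73Cp2_24 : chkRelP o73U DO73Cp2 pmO73Cp2 24 = true := by decide +kernel

theorem chk_relPO73Cp2_25 : chkRelP o73U DO73Cp2 pmO73Cp2 25 = true := by decide +kernel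

theorem chk_ordPO73Cp2_0 : chkOrdP o73U DO73Cp2 pmO73Cp2 0 = true := by decide +kernel

theorem chk_ordPO73Cp2_1 : chkOrdP o73U DO73Cp2 pmO73Cp2 1 = true := by decide +kernel

theorem chk_ordPO73Cp2_2 : chkOrdP o73U DO73Cp2 pmO73Cp2 2 = true := by decide +kernel

theorem chk_ordPO73Cp2_3 : chkOrdP o73U DO73Cp2 pmO73Cp2 3 = true := by decide +kernel

theorem chk_ordPO73Cp2_4 : chkOrdP o73U DO73Cp2 pmO73Cp2 4 = true := by decide +kernel

theorem chk_lwPO73Cp2_0 : chkLwP o73U wsO73Cp2 pmO73Cp2 lwO73Cp2 0 = true := by decide +kernel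

theorem chk_lwPO73Cp2_1 : chkLwP o73U wsO73Cp2 pmO73Cp2 lwO73Cp2 1 = true := by decide +kernel

theorem chk_lwPO73Cp2_2 : chkLwP o73U wsO73Cp2 pmO73Cp2 lwO73Cp2 2 = true := by decide +kernel

theorem chk_lwPO73Cp2_3 : chkLwP o73U wsO73Cp2 pmO73Cp2 lwO73Cp2 3 = true := by decide +kernel

theorem chk_lwPO73Cp2_4 : chkLwP o73U wsO73Cp2 pmO73Cp2 lwO73Cp2 4 = true := by decide +kernel

theorem coreO73Cp2 : CoreFacts o73U DO73Cp2 wsO73Cp2 pmO73Cp2 lwO73Cp2 := by
  apply coreFacts_of_chk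
  · rfl
  · intro i hi
    have h' : i < 5 := hi
    interval_cases i
    · exact chk_tabO73Cp2_0
    · exact chk_tabO73Cp2_1
    · exact chk_tabO73Cp2_2
    · exact chk_tabO73Cp2_3
    · exact chk_tabO73Cp2_4
  · intro r hr
    have h' : r < 26 := hr
    interval_cases r
    · exact chk_relPO73Cp2_0
    · exact chk_relPO73Cp2_1
    · exact chk_relPO73Cp2_2
    · exact chk_relPO73Cp2_3
    · exact chk_relPO73Cp2_4
    · exact chk_relPO73Cp2_5
    · exact chk_relPO73Cp2_6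
    · exact chk_relPO73Cp2_7
    · exact chk_relPO73Cp2_8
    · exact chk_relPO73Cp2_9
    · exact chk_relPO73Cp2_10
    · exact chk_relPO73Cp2_11
    · exact chk_relPO73Cp2_12
    · exact chk_relPO73Cp2_13
    · exact chk_relPO73Cp2_14
    · exact chk_relPO73Cp2_15
    · exact chk_relPO73Cp2_16
    · exact chk_relPO73Cp2_17
    · exact chk_relPO73Cp2_18
    · exact chk_relPO73Cp2_19
    · exact chk_relPO73Cp2_20
    · exact chk_relPO73Cp2_21
    · exact chk_relPO73Cp2_22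
    · exact chk_relPO73Cp2_23
    · exact chk_relPO73Cp2_24
    · exact chk_relPO73Cp2_25
  · intro i hi
    have h' : i < 5 := hi
    interval_cases i
    · exact chk_ordPO73Cp2_0
    · exact chk_ordPO73Cp2_1
    · exact chk_ordPO73Cp2_2
    · exact chk_ordPO73Cp2_3
    · exact chk_ordPO73Cp2_4
  · intro c hc
    have h' : c < 5 := hc
    interval_cases c
    · exact chk_lwPO73Cp2_0
    · exact chk_lwPO73Cp2_1
    · exact chk_lwPO73Cp2_2
    · exact chk_lwPO73Cp2_3
    · exact chk_lwPO73Cp2_4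

end Cfsg.Agent.Lib.Helper6.MultD
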