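import Cfsg.Agent.Lib.Helper6.Mult.PM3
import Cfsg.Agent.Lib.Helper6.MultD.O73UML
import Cfsg.Agent.Lib.Helper6.MultD.O73Cp3D

set_option autoImplicit false
set_option maxRecDepth 100000

/-! The subgroup `U4(2)` of the presented group `O73` on 405 sets, data O73Cp3: the checks of the generators. -/

namespace Cfsg.Agent.Lib.Helper6.MultD

open Cfsg.Agent.Lib.Helper6.PM Cfsg.Agent.Lib.Helper6.O73M Cfsg.Agent.Lib.Helper1

theorem chk_tabO73Cp3_0 : chkTab o73U wsO73Cp3 pmO73Cp3 0 = true := by decide +kernel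

theorem chk_tabO73Cp3_1 : chkTab o73U wsO73Cp3 pmO73Cp3 1 = true := by decide +kernel

theorem chk_tabO73Cp3_2 : chkTab o73U wsO73Cp3 pmO73Cp3 2 = true := by decide +kernel

theorem chk_tabO73Cp3_3 : chkTab o73U wsO73Cp3 pmO73Cp3 3 = true := by decide +kernel

theorem chk_relPO73Cp3_0 : chkRelP o73U DO73Cp3 pmO73Cp3 0 = true := by decide +kernel

theorem chk_relPO73Cp3_1 : chkRelP o73U DO73Cp3 pmO73Cp3 1 = true := by decide +kernel

theorem chk_relPO73Cp3_2 : chkRelP o73U DO73Cp3 pmO73Cp3 2 = true := by decide +kernel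

theorem chk_relPO73Cp3_3 : chkRelP o73U DO73Cp3 pmO73Cp3 3 = true := by decide +kernel

theorem chk_relPO73Cp3_4 : chkRelP o73U DO73Cp3 pmO73Cp3 4 = true := by decide +kernel

theorem chk_relPO73Cp3_5 : chkRelP o73U DO73Cp3 pmO73Cp3 5 = true := by decide +kernel

theorem chk_relPO73Cp3_6 : chkRelP o73U DO73Cp3 pmO73Cp3 6 = true := by decide +kernel

theorem chk_relPO73Cp3_7 : chkRelP o73U DO73Cp3 pmO73Cp3 7 = true := by decide +kernel

theorem chk_relPO73Cp3_8 : chkRelP o73U DO73Cp3 pmO73Cp3 8 = true := by decide +kernel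

theorem chk_relPO73Cp3_9 : chkRelP o73U DO73Cp3 pmO73Cp3 9 = true := by decide +kernel

theorem chk_relPO73Cp3_10 : chkRelP o73U DO73Cp3 pmO73Cp3 10 = true := by decide +kernel

theorem chk_relPO73Cp3_11 : chkRelP o73U DO73Cp3 pmO73Cp3 11 = true := by decide +kernel

theorem chk_relPO73Cp3_12 : chkRelP o73U DO73Cp3 pmO73Cp3 12 = true := by decide +kernel

theorem chk_relPO73Cp3_13 : chkRelP o73U DO73Cp3 pmO73Cp3 13 = true := by decide +kernel

theorem chk_relPO73Cp3_14 : chkRelP o73U DO73Cp3 pmO73Cp3 14 = true := by decide +kernel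

theorem chk_relPO73Cp3_15 : chkRelP o73U DO73Cp3 pmO73Cp3 15 = true := by decide +kernel

theorem chk_relPO73Cp3_16 : chkRelP o73U DO73Cp3 pmO73Cp3 16 = true := by decide +kernel

theorem chk_relPO73Cp3_17 : chkRelP o73U DO73Cp3 pmO73Cp3 17 = true := by decide +kernel

theorem chk_relPO73Cp3_18 : chkRelP o73U DO73Cp3 pmO73Cp3 18 = true := by decide +kernel

theorem chk_relPO73Cp3_19 : chkRelP o73U DO73Cp3 pmO73Cp3 19 = true := by decide +kernel

theorem chk_relPO73Cp3_20 : chkRelP o73U DO73Cp3 pmO73Cp3 20 = true := by decide +kernel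

theorem chk_relPO73Cp3_21 : chkRelP o73U DO73Cp3 pmO73Cp3 21 = true := by decide +kernel

theorem chk_relPO73Cp3_22 : chkRelP o73U DO73Cp3 pmO73Cp3 22 = true := by decide +kernel

theorem chk_relPO73Cp3_23 : chkRelP o73U DO73Cp3 pmO73Cp3 23 = true := by decide +kernel

theorem chk_relPO73Cp3_24 : chkRelP o73U DO73Cp3 pmO73Cp3 24 = true := by decide +kernel

theorem chk_relPO73Cp3_25 : chkRelP o73U DO73Cp3 pmO73Cp3 25 = true := by decide +kernel

theorem chk_ordPO73Cp3_0 : chkOrdP o73U DO73Cp3 pmO73Cp3 0 = true := by decide +kernel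

theorem chk_ordPO73Cp3_1 : chkOrdP o73U DO73Cp3 pmO73Cp3 1 = true := by decide +kernel

theorem chk_ordPO73Cp3_2 : chkOrdP o73U DO73Cp3 pmO73Cp3 2 = true := by decide +kernel

theorem chk_ordPO73Cp3_3 : chkOrdP o73U DO73Cp3 pmO73Cp3 3 = true := by decide +kernel

theorem chk_lwPO73Cp3_0 : chkLwP o73U wsO73Cp3 pmO73Cp3 lwO73Cp3 0 = true := by decide +kernel

theorem chk_lwPO73Cp3_1 : chkLwP o73U wsO73Cp3 pmO73Cp3 lwO73Cp3 1 = true := by decide +kernel

theorem chk_lwPO73Cp3_2 : chkLwP o73U wsO73Cp3 pmO73Cp3 lwO73Cp3 2 = true := by decide +kernel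

theorem chk_lwPO73Cp3_3 : chkLwP o73U wsO73Cp3 pmO73Cp3 lwO73Cp3 3 = true := by decide +kernel

theorem chk_lwPO73Cp3_4 : chkLwP o73U wsO73Cp3 pmO73Cp3 lwO73Cp3 4 = true := by decide +kernel

theorem coreO73Cp3 : CoreFacts o73U DO73Cp3 wsO73Cp3 pmO73Cp3 lwO73Cp3 := by
  apply coreFacts_of_chk
  · rfl
  · intro i hi
    have h' : i < 4 := hi
    interval_cases i
    · exact chk_tabO73Cp3_0
    · exact chk_tabO73Cp3_1
    · exact chk_tabO73Cp3_2
    · exact chk_tabO73Cp3_3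
  · intro r hr
    have h' : r < 26 := hr
    interval_cases r
    · exact chk_relPO73Cp3_0
    · exact chk_relPO73Cp3_1
    · exact chk_relPO73Cp3_2
    · exact chk_relPO73Cp3_3
    · exact chk_relPO73Cp3_4
    · exact chk_relPO73Cp3_5
    · exact chk_relPO73Cp3_6
    · exact chk_relPO73Cp3_7
    · exact chk_relPO73Cp3_8
    · exact chk_relPO73Cp3_9
    · exact chk_relPO73Cp3_10
    · exact chk_relPO73Cp3_11
    · exact chk_relPO73Cp3_12
    · exact chk_relPO73Cp3_13
    · exact chk_relPO73Cp3_14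
    · exact chk_relPO73Cp3_15
    · exact chk_relPO73Cp3_16
    · exact chk_relPO73Cp3_17
    · exact chk_relPO73Cp3_18
    · exact chk_relPO73Cp3_19
    · exact chk_relPO73Cp3_20
    · exact chk_relPO73Cp3_21
    · exact chk_relPO73Cp3_22
    · exact chk_relPO73Cp3_23
    · exact chk_relPO73Cp3_24
    · exact chk_relPO73Cp3_25
  · intro i hi
    have h' : i < 4 := hi
    interval_cases i
    · exact chk_ordPO73Cp3_0
    · exact chk_ordPO73Cp3_1
    · exact chk_ordPO73Cp3_2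
    · exact chk_ordPO73Cp3_3
  · intro c hc
    have h' : c < 5 := hc
    interval_cases c
    · exact chk_lwPO73Cp3_0
    · exact chk_lwPO73Cp3_1
    · exact chk_lwPO73Cp3_2
    · exact chk_lwPO73Cp3_3
    · exact chk_lwPO73Cp3_4

end Cfsg.Agent.Lib.Helper6.MultD
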