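import Cfsg.Agent.Lib.Helper6.Mult.Y422A
import Cfsg.Agent.Lib.Helper6.MultD.O83M
import Cfsg.Agent.Lib.Helper6.Mult.PM2

set_option autoImplicit false
set_option maxRecDepth 100000

/-! The subgroups `O8+(3)`, `3^6:L4(3)` and `L4(3)` of the presented group `Y422`: the tables of their generators, and their models. -/

namespace Cfsg.Agent.Lib.Helper6.MultD

open Cfsg.Agent.Lib.Helper6.PM Cfsg.Agent.Lib.Helper6.Y422M Cfsg.Agent.Lib.Helper1

theorem chk_tabO83W_0 : chkTab y422Model wsO83W pmO83W 0 = true := by decide +kernel

theorem chk_tabO83W_1 : chkTab y422Model wsO83W pmO83W 1 = true := by decide +kernel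

theorem chk_tabO83W_2 : chkTab y422Model wsO83W pmO83W 2 = true := by decide +kernel

theorem chk_tabO83W_3 : chkTab y422Model wsO83W pmO83W 3 = true := by decide +kernel

theorem chk_tabO83W_4 : chkTab y422Model wsO83W pmO83W 4 = true := by decide +kernel

theorem chk_tabO83W_5 : chkTab y422Model wsO83W pmO83W 5 = true := by decide +kernel

theorem chk_tabO83W_6 : chkTab y422Model wsO83W pmO83W 6 = true := by decide +kernel

theorem chk_tabO83W_7 : chkTab y422Model wsO83W pmO83W 7 = true := by decide +kernel

theorem tabO83W : TabFacts y422Model wsO83W pmO83W := by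
  apply tabFacts_of_chk
  intro i hi
  have h' : i < 8 := hi
  interval_cases i
  · exact chk_tabO83W_0
  · exact chk_tabO83W_1
  · exact chk_tabO83W_2
  · exact chk_tabO83W_3
  · exact chk_tabO83W_4
  · exact chk_tabO83W_5
  · exact chk_tabO83W_6
  · exact chk_tabO83W_7

/-- the model of the subgroup -/
noncomputable def o83W : PModel := sub y422Model wsO83W pmO83W tabO83W

theorem chk_tabO83K_0 : chkTab o83W wsO83K pmO83K 0 = true := by decide +kernel

theorem chk_tabO83K_1 : chkTab o83W wsO83K pmO83K 1 = true := by decide +kernel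

theorem chk_tabO83K_2 : chkTab o83W wsO83K pmO83K 2 = true := by decide +kernel

theorem chk_tabO83K_3 : chkTab o83W wsO83K pmO83K 3 = true := by decide +kernel

theorem chk_tabO83K_4 : chkTab o83W wsO83K pmO83K 4 = true := by decide +kernel

theorem chk_tabO83K_5 : chkTab o83W wsO83K pmO83K 5 = true := by decide +kernel

theorem chk_tabO83K_6 : chkTab o83W wsO83K pmO83K 6 = true := by decide +kernel

theorem chk_tabO83K_7 : chkTab o83W wsO83K pmO83K 7 = true := by decide +kernel

theorem tabO83K : TabFacts o83W wsO83K pmO83K := by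
  apply tabFacts_of_chk
  intro i hi
  have h' : i < 8 := hi
  interval_cases i
  · exact chk_tabO83K_0
  · exact chk_tabO83K_1
  · exact chk_tabO83K_2
  · exact chk_tabO83K_3
  · exact chk_tabO83K_4
  · exact chk_tabO83K_5
  · exact chk_tabO83K_6
  · exact chk_tabO83K_7

/-- the model of the subgroup -/
noncomputable def o83K : PModel := sub o83W wsO83K pmO83K tabO83K

theorem chk_tabO83L_0 : chkTab o83K wsO83L pmO83K 0 = true := by decide +kernel

theorem chk_tabO83L_1 : chkTab o83K wsO83L pmO83K 1 = true := by decide +kernel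

theorem chk_tabO83L_2 : chkTab o83K wsO83L pmO83K 2 = true := by decide +kernel

theorem chk_tabO83L_3 : chkTab o83K wsO83L pmO83K 3 = true := by decide +kernel

theorem chk_tabO83L_4 : chkTab o83K wsO83L pmO83K 4 = true := by decide +kernel

theorem chk_tabO83L_5 : chkTab o83K wsO83L pmO83K 5 = true := by decide +kernel

theorem chk_tabO83L_6 : chkTab o83K wsO83L pmO83K 6 = true := by decide +kernel

theorem tabO83L : TabFacts o83K wsO83L pmO83K := by
  apply tabFacts_of_chk
  intro i hi
  have h' : i < 7 := hi
  interval_cases i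
  · exact chk_tabO83L_0
  · exact chk_tabO83L_1
  · exact chk_tabO83L_2
  · exact chk_tabO83L_3
  · exact chk_tabO83L_4
  · exact chk_tabO83L_5
  · exact chk_tabO83L_6

/-- the model of the subgroup -/
noncomputable def o83L : PModel := sub o83K wsO83L pmO83K tabO83L


end Cfsg.Agent.Lib.Helper6.MultD
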