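import Cfsg.Agent.Lib.Helper6.Mult.PM3
import Cfsg.Agent.Lib.Helper6.MultD.O83ML
import Cfsg.Agent.Lib.Helper6.MultD.O83Ap3D

set_option autoImplicit false
set_option maxRecDepth 100000

/-! The subgroup `O8+(3)` of the presented group `Y422` on 1120 sets, data O83Ap3: the checks of the generators. -/

namespace Cfsg.Agent.Lib.Helper6.MultD

open Cfsg.Agent.Lib.Helper6.PM Cfsg.Agent.Lib.Helper6.Y422M Cfsg.Agent.Lib.Helper1

theorem chk_tabO83Ap3_0 : chkTab o83W wsO83Ap3 pmO83Ap3 0 = true := by decide +kernel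

theorem chk_tabO83Ap3_1 : chkTab o83W wsO83Ap3 pmO83Ap3 1 = true := by decide +kernel

theorem chk_tabO83Ap3_2 : chkTab o83W wsO83Ap3 pmO83Ap3 2 = true := by decide +kernel

theorem chk_tabO83Ap3_3 : chkTab o83W wsO83Ap3 pmO83Ap3 3 = true := by decide +kernel

theorem chk_tabO83Ap3_4 : chkTab o83W wsO83Ap3 pmO83Ap3 4 = true := by decide +kernel

theorem chk_tabO83Ap3_5 : chkTab o83W wsO83Ap3 pmO83Ap3 5 = true := by decide +kernel

theorem chk_tabO83Ap3_6 : chkTab o83W wsO83Ap3 pmO83Ap3 6 = true := by decide +kernel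

theorem chk_tabO83Ap3_7 : chkTab o83W wsO83Ap3 pmO83Ap3 7 = true := by decide +kernel

theorem chk_ordPO83Ap3_0 : chkOrdP o83W DO83Ap3 pmO83Ap3 0 = true := by decide +kernel

theorem chk_ordPO83Ap3_1 : chkOrdP o83W DO83Ap3 pmO83Ap3 1 = true := by decide +kernel

theorem chk_ordPO83Ap3_2 : chkOrdP o83W DO83Ap3 pmO83Ap3 2 = true := by decide +kernel

theorem chk_ordPO83Ap3_3 : chkOrdP o83W DO83Ap3 pmO83Ap3 3 = true := by decide +kernel

theorem chk_ordPO83Ap3_4 : chkOrdP o83W DO83Ap3 pmO83Ap3 4 = true := by decide +kernel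

theorem chk_ordPO83Ap3_5 : chkOrdP o83W DO83Ap3 pmO83Ap3 5 = true := by decide +kernel

theorem chk_ordPO83Ap3_6 : chkOrdP o83W DO83Ap3 pmO83Ap3 6 = true := by decide +kernel

theorem chk_ordPO83Ap3_7 : chkOrdP o83W DO83Ap3 pmO83Ap3 7 = true := by decide +kernel

theorem chk_lwPO83Ap3_0 : chkLwP o83W wsO83Ap3 pmO83Ap3 lwO83Ap3 0 = true := by decide +kernel

theorem chk_lwPO83Ap3_1 : chkLwP o83W wsO83Ap3 pmO83Ap3 lwO83Ap3 1 = true := by decide +kernel

theorem chk_lwPO83Ap3_2 : chkLwP o83W wsO83Ap3 pmO83Ap3 lwO83Ap3 2 = true := by decide +kernel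

theorem chk_lwPO83Ap3_3 : chkLwP o83W wsO83Ap3 pmO83Ap3 lwO83Ap3 3 = true := by decide +kernel

theorem chk_lwPO83Ap3_4 : chkLwP o83W wsO83Ap3 pmO83Ap3 lwO83Ap3 4 = true := by decide +kernel

theorem chk_lwPO83Ap3_5 : chkLwP o83W wsO83Ap3 pmO83Ap3 lwO83Ap3 5 = true := by decide +kernel

theorem chk_lwPO83Ap3_6 : chkLwP o83W wsO83Ap3 pmO83Ap3 lwO83Ap3 6 = true := by decide +kernel

theorem chk_lwPO83Ap3_7 : chkLwP o83W wsO83Ap3 pmO83Ap3 lwO83Ap3 7 = true := by decide +kernel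

theorem coreO83Ap3 : CoreFacts o83W DO83Ap3 wsO83Ap3 pmO83Ap3 lwO83Ap3 := by
  apply coreFacts_of_chk
  · rfl
  · intro i hi
    have h' : i < 8 := hi
    interval_cases i
    · exact chk_tabO83Ap3_0
    · exact chk_tabO83Ap3_1
    · exact chk_tabO83Ap3_2
    · exact chk_tabO83Ap3_3
    · exact chk_tabO83Ap3_4
    · exact chk_tabO83Ap3_5
    · exact chk_tabO83Ap3_6
    · exact chk_tabO83Ap3_7
  · intro r hr
    have h' : r < 0 := hr
    interval_cases r
  · intro i hi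
    have h' : i < 8 := hi
    interval_cases i
    · exact chk_ordPO83Ap3_0
    · exact chk_ordPO83Ap3_1
    · exact chk_ordPO83Ap3_2
    · exact chk_ordPO83Ap3_3
    · exact chk_ordPO83Ap3_4
    · exact chk_ordPO83Ap3_5
    · exact chk_ordPO83Ap3_6
    · exact chk_ordPO83Ap3_7
  · intro c hc
    have h' : c < 8 := hc
    interval_cases c
    · exact chk_lwPO83Ap3_0
    · exact chk_lwPO83Ap3_1
    · exact chk_lwPO83Ap3_2
    · exact chk_lwPO83Ap3_3
    · exact chk_lwPO83Ap3_4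
    · exact chk_lwPO83Ap3_5
    · exact chk_lwPO83Ap3_6
    · exact chk_lwPO83Ap3_7

theorem chk_structO83Ap3 : DO83Ap3.chkStruct = true := by decide +kernel

end Cfsg.Agent.Lib.Helper6.MultD
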