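import Cfsg.Agent.Lib.Helper6.Mult.PM3
import Cfsg.Agent.Lib.Helper6.MultD.O83ML
import Cfsg.Agent.Lib.Helper6.MultD.O83Bp3D

set_option autoImplicit false
set_option maxRecDepth 100000

/-! The subgroup `3^6:L4(3)` of the presented group `Y422` on 729 sets, data O83Bp3: the checks of the generators. -/

namespace Cfsg.Agent.Lib.Helper6.MultD

open Cfsg.Agent.Lib.Helper6.PM Cfsg.Agent.Lib.Helper6.Y422M Cfsg.Agent.Lib.Helper1

theorem chk_tabO83Bp3_0 : chkTab o83K wsO83Bp3 pmO83Bp3 0 = true := by decide +kernel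

theorem chk_tabO83Bp3_1 : chkTab o83K wsO83Bp3 pmO83Bp3 1 = true := by decide +kernel

theorem chk_relPO83Bp3_0 : chkRelP o83K DO83Bp3 pmO83Bp3 0 = true := by decide +kernel

theorem chk_ordPO83Bp3_0 : chkOrdP o83K DO83Bp3 pmO83Bp3 0 = true := by decide +kernel

theorem chk_ordPO83Bp3_1 : chkOrdP o83K DO83Bp3 pmO83Bp3 1 = true := by decide +kernel

theorem chk_lwPO83Bp3_0 : chkLwP o83K wsO83Bp3 pmO83Bp3 lwO83Bp3 0 = true := by decide +kernel

theorem chk_lwPO83Bp3_1 : chkLwP o83K wsO83Bp3 pmO83Bp3 lwO83Bp3 1 = true := by decide +kernel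

theorem chk_lwPO83Bp3_2 : chkLwP o83K wsO83Bp3 pmO83Bp3 lwO83Bp3 2 = true := by decide +kernel

theorem chk_lwPO83Bp3_3 : chkLwP o83K wsO83Bp3 pmO83Bp3 lwO83Bp3 3 = true := by decide +kernel

theorem chk_lwPO83Bp3_4 : chkLwP o83K wsO83Bp3 pmO83Bp3 lwO83Bp3 4 = true := by decide +kernel

theorem chk_lwPO83Bp3_5 : chkLwP o83K wsO83Bp3 pmO83Bp3 lwO83Bp3 5 = true := by decide +kernel

theorem chk_lwPO83Bp3_6 : chkLwP o83K wsO83Bp3 pmO83Bp3 lwO83Bp3 6 = true := by decide +kernel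

theorem chk_lwPO83Bp3_7 : chkLwP o83K wsO83Bp3 pmO83Bp3 lwO83Bp3 7 = true := by decide +kernel

theorem coreO83Bp3 : CoreFacts o83K DO83Bp3 wsO83Bp3 pmO83Bp3 lwO83Bp3 := by
  apply coreFacts_of_chk
  · rfl
  · intro i hi
    have h' : i < 2 := hi
    interval_cases i
    · exact chk_tabO83Bp3_0
    · exact chk_tabO83Bp3_1
  · intro r hr
    have h' : r < 1 := hr
    interval_cases r
    · exact chk_relPO83Bp3_0
  · intro i hi
    have h' : i < 2 := hi
    interval_cases i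
    · exact chk_ordPO83Bp3_0
    · exact chk_ordPO83Bp3_1
  · intro c hc
    have h' : c < 8 := hc
    interval_cases c
    · exact chk_lwPO83Bp3_0
    · exact chk_lwPO83Bp3_1
    · exact chk_lwPO83Bp3_2
    · exact chk_lwPO83Bp3_3
    · exact chk_lwPO83Bp3_4
    · exact chk_lwPO83Bp3_5
    · exact chk_lwPO83Bp3_6
    · exact chk_lwPO83Bp3_7

end Cfsg.Agent.Lib.Helper6.MultD
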