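import Cfsg.Agent.Lib.Helper6.Mult.PM3
import Cfsg.Agent.Lib.Helper6.Mult.Sp8A
import Cfsg.Agent.Lib.Helper6.MultD.SP8Ap2D

set_option autoImplicit false
set_option maxRecDepth 100000

/-! The group `Sp8(2)` on 120 sets, data SP8Ap2: the checks of the generators. -/

namespace Cfsg.Agent.Lib.Helper6.MultD

open Cfsg.Agent.Lib.Helper6.PM Cfsg.Agent.Lib.Helper6.Sp8 Cfsg.Agent.Lib.Helper1

theorem chk_tabSP8Ap2_0 : chkTab sp8Model wsSP8Ap2 pmSP8Ap2 0 = true := by decide +kernel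

theorem chk_tabSP8Ap2_1 : chkTab sp8Model wsSP8Ap2 pmSP8Ap2 1 = true := by decide +kernel

theorem chk_tabSP8Ap2_2 : chkTab sp8Model wsSP8Ap2 pmSP8Ap2 2 = true := by decide +kernel

theorem chk_tabSP8Ap2_3 : chkTab sp8Model wsSP8Ap2 pmSP8Ap2 3 = true := by decide +kernel

theorem chk_tabSP8Ap2_4 : chkTab sp8Model wsSP8Ap2 pmSP8Ap2 4 = true := by decide +kernel

theorem chk_tabSP8Ap2_5 : chkTab sp8Model wsSP8Ap2 pmSP8Ap2 5 = true := by decide +kernel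

theorem chk_tabSP8Ap2_6 : chkTab sp8Model wsSP8Ap2 pmSP8Ap2 6 = true := by decide +kernel

theorem chk_tabSP8Ap2_7 : chkTab sp8Model wsSP8Ap2 pmSP8Ap2 7 = true := by decide +kernel

theorem chk_tabSP8Ap2_8 : chkTab sp8Model wsSP8Ap2 pmSP8Ap2 8 = true := by decide +kernel

theorem chk_relPSP8Ap2_0 : chkRelP sp8Model DSP8Ap2 pmSP8Ap2 0 = true := by decide +kernel

theorem chk_relPSP8Ap2_1 : chkRelP sp8Model DSP8Ap2 pmSP8Ap2 1 = true := by decide +kernel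

theorem chk_relPSP8Ap2_2 : chkRelP sp8Model DSP8Ap2 pmSP8Ap2 2 = true := by decide +kernel

theorem chk_relPSP8Ap2_3 : chkRelP sp8Model DSP8Ap2 pmSP8Ap2 3 = true := by decide +kernel

theorem chk_relPSP8Ap2_4 : chkRelP sp8Model DSP8Ap2 pmSP8Ap2 4 = true := by decide +kernel

theorem chk_relPSP8Ap2_5 : chkRelP sp8Model DSP8Ap2 pmSP8Ap2 5 = true := by decide +kernel

theorem chk_relPSP8Ap2_6 : chkRelP sp8Model DSP8Ap2 pmSP8Ap2 6 = true := by decide +kernel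

theorem chk_relPSP8Ap2_7 : chkRelP sp8Model DSP8Ap2 pmSP8Ap2 7 = true := by decide +kernel

theorem chk_relPSP8Ap2_8 : chkRelP sp8Model DSP8Ap2 pmSP8Ap2 8 = true := by decide +kernel

theorem chk_relPSP8Ap2_9 : chkRelP sp8Model DSP8Ap2 pmSP8Ap2 9 = true := by decide +kernel

theorem chk_relPSP8Ap2_10 : chkRelP sp8Model DSP8Ap2 pmSP8Ap2 10 = true := by decide +kernel

theorem chk_relPSP8Ap2_11 : chkRelP sp8Model DSP8Ap2 pmSP8Ap2 11 = true := by decide +kernel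

theorem chk_relPSP8Ap2_12 : chkRelP sp8Model DSP8Ap2 pmSP8Ap2 12 = true := by decide +kernel

theorem chk_relPSP8Ap2_13 : chkRelP sp8Model DSP8Ap2 pmSP8Ap2 13 = true := by decide +kernel

theorem chk_relPSP8Ap2_14 : chkRelP sp8Model DSP8Ap2 pmSP8Ap2 14 = true := by decide +kernel

theorem chk_relPSP8Ap2_15 : chkRelP sp8Model DSP8Ap2 pmSP8Ap2 15 = true := by decide +kernel

theorem chk_relPSP8Ap2_16 : chkRelP sp8Model DSP8Ap2 pmSP8Ap2 16 = true := by decide +kernel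

theorem chk_relPSP8Ap2_17 : chkRelP sp8Model DSP8Ap2 pmSP8Ap2 17 = true := by decide +kernel

theorem chk_relPSP8Ap2_18 : chkRelP sp8Model DSP8Ap2 pmSP8Ap2 18 = true := by decide +kernel

theorem chk_relPSP8Ap2_19 : chkRelP sp8Model DSP8Ap2 pmSP8Ap2 19 = true := by decide +kernel

theorem chk_relPSP8Ap2_20 : chkRelP sp8Model DSP8Ap2 pmSP8Ap2 20 = true := by decide +kernel

theorem chk_relPSP8Ap2_21 : chkRelP sp8Model DSP8Ap2 pmSP8Ap2 21 = true := by decide +kernel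

theorem chk_relPSP8Ap2_22 : chkRelP sp8Model DSP8Ap2 pmSP8Ap2 22 = true := by decide +kernel

theorem chk_relPSP8Ap2_23 : chkRelP sp8Model DSP8Ap2 pmSP8Ap2 23 = true := by decide +kernel

theorem chk_relPSP8Ap2_24 : chkRelP sp8Model DSP8Ap2 pmSP8Ap2 24 = true := by decide +kernel

theorem chk_relPSP8Ap2_25 : chkRelP sp8Model DSP8Ap2 pmSP8Ap2 25 = true := by decide +kernel

theorem chk_relPSP8Ap2_26 : chkRelP sp8Model DSP8Ap2 pmSP8Ap2 26 = true := by decide +kernel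

theorem chk_relPSP8Ap2_27 : chkRelP sp8Model DSP8Ap2 pmSP8Ap2 27 = true := by decide +kernel

theorem chk_relPSP8Ap2_28 : chkRelP sp8Model DSP8Ap2 pmSP8Ap2 28 = true := by decide +kernel

theorem chk_relPSP8Ap2_29 : chkRelP sp8Model DSP8Ap2 pmSP8Ap2 29 = true := by decide +kernel

theorem chk_relPSP8Ap2_30 : chkRelP sp8Model DSP8Ap2 pmSP8Ap2 30 = true := by decide +kernel

theorem chk_relPSP8Ap2_31 : chkRelP sp8Model DSP8Ap2 pmSP8Ap2 31 = true := by decide +kernel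

theorem chk_relPSP8Ap2_32 : chkRelP sp8Model DSP8Ap2 pmSP8Ap2 32 = true := by decide +kernel

theorem chk_relPSP8Ap2_33 : chkRelP sp8Model DSP8Ap2 pmSP8Ap2 33 = true := by decide +kernel

theorem chk_ordPSP8Ap2_0 : chkOrdP sp8Model DSP8Ap2 pmSP8Ap2 0 = true := by decide +kernel

theorem chk_ordPSP8Ap2_1 : chkOrdP sp8Model DSP8Ap2 pmSP8Ap2 1 = true := by decide +kernel

theorem chk_ordPSP8Ap2_2 : chkOrdP sp8Model DSP8Ap2 pmSP8Ap2 2 = true := by decide +kernel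

theorem chk_ordPSP8Ap2_3 : chkOrdP sp8Model DSP8Ap2 pmSP8Ap2 3 = true := by decide +kernel

theorem chk_ordPSP8Ap2_4 : chkOrdP sp8Model DSP8Ap2 pmSP8Ap2 4 = true := by decide +kernel

theorem chk_ordPSP8Ap2_5 : chkOrdP sp8Model DSP8Ap2 pmSP8Ap2 5 = true := by decide +kernel

theorem chk_ordPSP8Ap2_6 : chkOrdP sp8Model DSP8Ap2 pmSP8Ap2 6 = true := by decide +kernel

theorem chk_ordPSP8Ap2_7 : chkOrdP sp8Model DSP8Ap2 pmSP8Ap2 7 = true := by decide +kernel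

theorem chk_ordPSP8Ap2_8 : chkOrdP sp8Model DSP8Ap2 pmSP8Ap2 8 = true := by decide +kernel

theorem chk_lwPSP8Ap2_0 : chkLwP sp8Model wsSP8Ap2 pmSP8Ap2 lwSP8Ap2 0 = true := by decide +kernel

theorem chk_lwPSP8Ap2_1 : chkLwP sp8Model wsSP8Ap2 pmSP8Ap2 lwSP8Ap2 1 = true := by decide +kernel

theorem chk_lwPSP8Ap2_2 : chkLwP sp8Model wsSP8Ap2 pmSP8Ap2 lwSP8Ap2 2 = true := by decide +kernel

theorem chk_lwPSP8Ap2_3 : chkLwP sp8Model wsSP8Ap2 pmSP8Ap2 lwSP8Ap2 3 = true := by decide +kernel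

theorem chk_lwPSP8Ap2_4 : chkLwP sp8Model wsSP8Ap2 pmSP8Ap2 lwSP8Ap2 4 = true := by decide +kernel

theorem chk_lwPSP8Ap2_5 : chkLwP sp8Model wsSP8Ap2 pmSP8Ap2 lwSP8Ap2 5 = true := by decide +kernel

theorem chk_lwPSP8Ap2_6 : chkLwP sp8Model wsSP8Ap2 pmSP8Ap2 lwSP8Ap2 6 = true := by decide +kernel

theorem chk_lwPSP8Ap2_7 : chkLwP sp8Model wsSP8Ap2 pmSP8Ap2 lwSP8Ap2 7 = true := by decide +kernel

theorem chk_lwPSP8Ap2_8 : chkLwP sp8Model wsSP8Ap2 pmSP8Ap2 lwSP8Ap2 8 = true := by decide +kernel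

theorem coreSP8Ap2 : CoreFacts sp8Model DSP8Ap2 wsSP8Ap2 pmSP8Ap2 lwSP8Ap2 := by
  apply coreFacts_of_chk
  · rfl
  · intro i hi
    have h' : i < 9 := hi
    interval_cases i
    · exact chk_tabSP8Ap2_0
    · exact chk_tabSP8Ap2_1
    · exact chk_tabSP8Ap2_2
    · exact chk_tabSP8Ap2_3
    · exact chk_tabSP8Ap2_4
    · exact chk_tabSP8Ap2_5
    · exact chk_tabSP8Ap2_6
    · exact chk_tabSP8Ap2_7
    · exact chk_tabSP8Ap2_8
  · intro r hr
    have h' : r < 34 := hr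
    interval_cases r
    · exact chk_relPSP8Ap2_0
    · exact chk_relPSP8Ap2_1
    · exact chk_relPSP8Ap2_2
    · exact chk_relPSP8Ap2_3
    · exact chk_relPSP8Ap2_4
    · exact chk_relPSP8Ap2_5
    · exact chk_relPSP8Ap2_6
    · exact chk_relPSP8Ap2_7
    · exact chk_relPSP8Ap2_8
    · exact chk_relPSP8Ap2_9
    · exact chk_relPSP8Ap2_10
    · exact chk_relPSP8Ap2_11
    · exact chk_relPSP8Ap2_12
    · exact chk_relPSP8Ap2_13
    · exact chk_relPSP8Ap2_14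
    · exact chk_relPSP8Ap2_15
    · exact chk_relPSP8Ap2_16
    · exact chk_relPSP8Ap2_17
    · exact chk_relPSP8Ap2_18
    · exact chk_relPSP8Ap2_19
    · exact chk_relPSP8Ap2_20
    · exact chk_relPSP8Ap2_21
    · exact chk_relPSP8Ap2_22
    · exact chk_relPSP8Ap2_23
    · exact chk_relPSP8Ap2_24
    · exact chk_relPSP8Ap2_25
    · exact chk_relPSP8Ap2_26
    · exact chk_relPSP8Ap2_27
    · exact chk_relPSP8Ap2_28
    · exact chk_relPSP8Ap2_29
    · exact chk_relPSP8Ap2_30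
    · exact chk_relPSP8Ap2_31
    · exact chk_relPSP8Ap2_32
    · exact chk_relPSP8Ap2_33
  · intro i hi
    have h' : i < 9 := hi
    interval_cases i
    · exact chk_ordPSP8Ap2_0
    · exact chk_ordPSP8Ap2_1
    · exact chk_ordPSP8Ap2_2
    · exact chk_ordPSP8Ap2_3
    · exact chk_ordPSP8Ap2_4
    · exact chk_ordPSP8Ap2_5
    · exact chk_ordPSP8Ap2_6
    · exact chk_ordPSP8Ap2_7
    · exact chk_ordPSP8Ap2_8
  · intro c hc
    have h' : c < 9 := hc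
    interval_cases c
    · exact chk_lwPSP8Ap2_0
    · exact chk_lwPSP8Ap2_1
    · exact chk_lwPSP8Ap2_2
    · exact chk_lwPSP8Ap2_3
    · exact chk_lwPSP8Ap2_4
    · exact chk_lwPSP8Ap2_5
    · exact chk_lwPSP8Ap2_6
    · exact chk_lwPSP8Ap2_7
    · exact chk_lwPSP8Ap2_8

end Cfsg.Agent.Lib.Helper6.MultD
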