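import Cfsg.Agent.Lib.Helper6.Mult.PM7
import Cfsg.Agent.Lib.Helper6.Mult.Sp8A
import Cfsg.Agent.Lib.Helper6.MultD.SP8Ap2D

set_option autoImplicit false
set_option maxRecDepth 100000

/-! The group `Sp8(2)` on 120 sets, data SP8Ap2: the checks of the action on the sets. -/

namespace Cfsg.Agent.Lib.Helper6.MultD

open Cfsg.Agent.Lib.Helper6.PM Cfsg.Agent.Lib.Helper6.Sp8 Cfsg.Agent.Lib.Helper1

/-- a table recovering the index of a set from its mask modulo 487, when it is unique -/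
noncomputable def invN1SP8Ap2 : ℕ := 0x167c04f1e3c78f1e3c78f1e3c78f1e19f853e3c78f1e3c78f02bc78f1e3c78f1e3c78f1e3c78f1e3c78f1e3c78f1e3c78f1e3c78f197c78f06bc7871e3c78f1e3c78f1abc78f1e3c05d1e3c78f1e37f8f1e3c08b9e3c78e453c78f1e3c78f1e3c78f1e3c78f1e3c78f1e0ef8f1e3c78f1e2af8f1e3c75f1e38f8f113c785be3c78f1e3c78f1e3c78f1e3c78f1e3c7847e1bf8f1e13f8f1e3c3bf1e3c78f1e3c76f1e3c78f1e3c78f13fc2bf1e3c78f0ffc78f1e3c78f1e3c78f1e26f8f1e3c78f1e3c78f1e3c78f1e3c78f1e3c78f1e3c780de00a8f1e3a78f1bbc782be3c70f1e3c78f04bc1cf1e0c786be3c78f1e3c25f1e0f78f1e3c78f1e3c78f1e3c78f1e3c36f1e0b3045e3c78f133c78f1e33f8f1e3c78c9e3c78f1e0678f1e3c78f1e3c5ff1e3c78f1e3c78f1e3c7813e3c31f0d3c78f1e3c78f1e1978f1e3c78f1e3c78f1e3c78f1e3c78f1e3c78dbe3c78f1e0178f1e3c78f1e06f8f1e3c784de3c78f1e3c78b56fc78c3e3c7841e0bf8f1e3c24f1e3c78f1e3c78f1e0878f1e1778f1e05f8f1e3c78f1e3c78f1e21f8e7e3c1fcde3c78f117c78f1e3c2ad3e3c1bac4fc78f1e25f8f1e3c0e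

/-- a table recovering the index of the other sets from their masks modulo 291 -/
noncomputable def invN2SP8Ap2 : ℕ := 0x49a00288000000000000000000002f00e400000000600001d000000000011800000010800000000000000000000000002a0000000000000000000c000000000000000000000000d800000c602c00000000000000000000000000000000000008e02753015c00000000003200000000000000000000000000000000000f4000000000000000007c00000000006b00f21000000000000000000000000000052000000000000000000000000004a000000000000000002400000000000b000000031000000000000005d1e02f00000208000000770000000000000022000008000000000000000000000000000000000000000000000380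

noncomputable def invSP8Ap2 (a : ℕ) : ℕ :=
  if (invN1SP8Ap2 >>> (7 * (a % 487))) % 2 ^ 7 = 120 then (invN2SP8Ap2 >>> (7 * (a % 291))) % 2 ^ 7
  else (invN1SP8Ap2 >>> (7 * (a % 487))) % 2 ^ 7

theorem chk_setsSP8Ap2_0 : chkSetsB sp8Model pmSP8Ap2 masksSP8Ap2 DSP8Ap2.m DSP8Ap2.pi 0 = true := by decide +kernel

theorem chk_setsSP8Ap2_1 : chkSetsB sp8Model pmSP8Ap2 masksSP8Ap2 DSP8Ap2.m DSP8Ap2.pi 1 = true := by decide +kernel

theorem chk_setsSP8Ap2_2 : chkSetsB sp8Model pmSP8Ap2 masksSP8Ap2 DSP8Ap2.m DSP8Ap2.pi 2 = true := by decide +kernel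

theorem chk_setsSP8Ap2_3 : chkSetsB sp8Model pmSP8Ap2 masksSP8Ap2 DSP8Ap2.m DSP8Ap2.pi 3 = true := by decide +kernel

theorem chk_setsSP8Ap2_4 : chkSetsB sp8Model pmSP8Ap2 masksSP8Ap2 DSP8Ap2.m DSP8Ap2.pi 4 = true := by decide +kernel

theorem chk_setsSP8Ap2_5 : chkSetsB sp8Model pmSP8Ap2 masksSP8Ap2 DSP8Ap2.m DSP8Ap2.pi 5 = true := by decide +kernel

theorem chk_setsSP8Ap2_6 : chkSetsB sp8Model pmSP8Ap2 masksSP8Ap2 DSP8Ap2.m DSP8Ap2.pi 6 = true := by decide +kernel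

theorem chk_setsSP8Ap2_7 : chkSetsB sp8Model pmSP8Ap2 masksSP8Ap2 DSP8Ap2.m DSP8Ap2.pi 7 = true := by decide +kernel

theorem chk_setsSP8Ap2_8 : chkSetsB sp8Model pmSP8Ap2 masksSP8Ap2 DSP8Ap2.m DSP8Ap2.pi 8 = true := by decide +kernel

theorem chk_setsSP8Ap2 : ∀ i < wsSP8Ap2.length, chkSets sp8Model pmSP8Ap2 masksSP8Ap2 DSP8Ap2.m DSP8Ap2.pi i = true := by
  intro i hi
  apply chkSets_of_B
  have h' : i < 9 := hi
  interval_cases i
  · exact chk_setsSP8Ap2_0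
  · exact chk_setsSP8Ap2_1
  · exact chk_setsSP8Ap2_2
  · exact chk_setsSP8Ap2_3
  · exact chk_setsSP8Ap2_4
  · exact chk_setsSP8Ap2_5
  · exact chk_setsSP8Ap2_6
  · exact chk_setsSP8Ap2_7
  · exact chk_setsSP8Ap2_8

theorem chk_distinctSP8Ap2 : chkDistinct sp8Model masksSP8Ap2 DSP8Ap2.m = true :=
  chkDistinct_of_invB sp8Model masksSP8Ap2 DSP8Ap2.m invSP8Ap2 (by decide +kernel)

end Cfsg.Agent.Lib.Helper6.MultD
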