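import Mathlib

set_option autoImplicit false
set_option maxRecDepth 100000
set_option maxHeartbeats 8000000

/-! Certificate SP8Cp2: chunk 0 of the combination modulo 4 of the distinguished unknown 0. -/

namespace Cfsg.Agent.Lib.Helper6.MultD

def ysSP8Cp2_0_0 : List ((ℕ × ℕ) × ℕ) := [((1, 4), 2), ((1, 18), 1), ((1, 35), 2), ((1, 36), 3), ((1, 52), 3), ((2, 7), 2), ((2, 9), 3), ((2, 14), 1), ((2, 19), 3), ((1, 0), 2), ((1, 10), 1), ((1, 15), 1), ((1, 23), 1), ((1, 25), 1), ((1, 28), 1), ((1, 32), 1), ((1, 38), 3), ((1, 40), 1), ((1, 45), 1), ((1, 48), 2), ((1, 64), 2), ((1, 66), 3), ((1, 70), 3), ((1, 85), 1), ((1, 99), 2), ((2, 5), 2), ((2, 26), 3), ((2, 31), 2), ((2, 34), 3), ((2, 37), 2), ((1, 46), 1), ((2, 1), 2), ((2, 29), 2), ((2, 74), 2), ((3, 1), 2), ((3, 3), 3), ((3, 4), 2), ((4, 8), 1), ((5, 0), 3), ((5, 2), 2), ((6, 5), 3), ((9, 1), 3), ((9, 3), 3), ((9, 4), 2), ((13, 0), 2), ((16, 0), 1), ((2, 78), 1), ((3, 10), 2), ((4, 14), 1), ((5, 3), 2), ((5, 4), 2), ((5, 10), 3)]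

def LSP8Cp2_0_0 : ℕ := 0x300000000000000000000000200000000000000000000000000000004000000000000000000000001000000080000000600000007000000000000000000000000000000000000000200000002000000000000000300000000000000020000000400000000000000020000000000000001000000020000000100000000000000000000000300000001000000020000000300000000000000000000000200000000000000040000000000000001000000030000000100000003000000000000000000000004000000000000000100000000000000020000000400000001000000010000000000000002000000030000000a00000003000000000000000300000004000000000000000100000000000000040000000500000000000000030000000700000000000000030000000000000005000000070000000000000005000000020000000a00000002000000030000000200000006000000010000000000000002000000070000000800000000000000060000000800000004000000040000000700000007000000070000000a00000004000000050000000800000002000000020000000b00000004000000050000000800000007000000080000000700000005000000010000000c0000000a000000040000000b000000000000000a0000000c0000000600000002000000100000000d0000000500000009000000040000000d0000000d0000000b0000000e0000000e00000008000000000000000100000000000000000000000100000002000000000000000000000001000000000000000000000002000000000000000000000003000000000000000000000000000000000000000000000002000000000000000700000000000000030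0000003000000000000000400000002000000030000000200000003000000020000000200000004000000060000000100000001000000000000000300000001000000030000000500000000000000000000000200000000000000030000000200000003000000020000000400000005000000030000000100000005000000000000000000000001000000010000000200000005000000020000000100000003000000020000000300000003000000030000000100000004000000040000000000000002000000010000000000000004000000020000000300000001000000010000000500000001000000030000000300000001000000040000000100000001000000010000000500000002000000060000000500000004000000010000000500000000000000070000000500000000000000070000000400000003000000080000000700000001000000020000000900000006000000000000000c00000008000000070000000a0000000f0000000f000000040000000600000008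

def TSP8Cp2_0_0 : ℕ := 849

end Cfsg.Agent.Lib.Helper6.MultD
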