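import Mathlib

set_option autoImplicit false
set_option maxRecDepth 100000
set_option maxHeartbeats 8000000

/-! Certificate SP8Cp2: chunk 1 of the combination modulo 4 of the distinguished unknown 0. -/

namespace Cfsg.Agent.Lib.Helper6.MultD

def ysSP8Cp2_0_1 : List ((ℕ × ℕ) × ℕ) := [((6, 2), 1), ((6, 23), 3), ((7, 0), 1), ((7, 8), 2), ((10, 0), 1), ((10, 3), 3), ((11, 0), 2), ((12, 0), 2), ((12, 2), 1), ((12, 3), 1), ((13, 8), 2), ((16, 2), 1), ((19, 8), 2), ((19, 21), 1), ((21, 5), 3), ((3, 5), 2), ((3, 7), 3), ((3, 8), 2), ((4, 1), 3), ((4, 10), 2), ((4, 39), 1), ((6, 7), 1), ((7, 38), 1), ((8, 8), 2), ((8, 12), 2), ((11, 2), 2), ((15, 1), 1), ((15, 2), 3), ((16, 4), 2), ((19, 1), 3), ((19, 3), 2), ((21, 7), 3), ((21, 14), 2), ((3, 20), 2), ((3, 40), 2), ((25, 4), 3), ((25, 61), 1), ((0, 5), 2), ((0, 6), 2), ((0, 9), 2), ((0, 11), 2), ((0, 16), 2), ((0, 19), 2), ((0, 25), 2), ((0, 28), 2), ((0, 38), 2), ((0, 42), 2), ((0, 59), 2), ((0, 82), 2), ((0, 103), 2), ((0, 117), 2)]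

def LSP8Cp2_0_1 : ℕ := 0x4000000000000000000000000000000040000000000000008000000000000000000000005000000040000000000000002000000080000000400000004000000000000000400000008000000070000000000000006000000090000000000000000000000020000000000000002000000020000000000000001000000000000000200000004000000000000000200000000000000070000000600000003000000040000000000000005000000030000000200000001000000040000000000000006000000000000000000000000000000030000000100000003000000010000000400000004000000000000000000000007000000000000000200000000000000070000000300000000000000020000000500000002000000050000000400000001000000000000000400000007000000000000000400000003000000040000000100000005000000040000000100000004000000030000000500000000000000030000000200000006000000060000000100000002000000020000000700000008000000020000000d0000000400000004000000060000000400000004000000080000000500000009000000050000000e000000080000000b000000040000000a0000000a000000010000000000000007000000080000000d000000080000000d000000070000000700000008000000060000000800000019000000040000000e00000010000000160000000200000010000000170000001700000013000000000000000f000000170000000d000000260000001600000018000000000000000300000000000000000000000300000002000000000000000400000003000000000000000000000002000000000000000000000001000000000000000400000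0000000000400000000000000060000000000000001000000000000000500000001000000040000000000000002000000010000000200000001000000020000000200000000000000060000000300000003000000040000000100000003000000050000000300000000000000000000000200000004000000050000000200000001000000020000000000000003000000050000000700000003000000000000000000000003000000030000000a00000003000000020000000300000005000000020000000500000009000000010000000700000004000000040000000000000002000000030000000000000000000000060000000100000007000000030000000700000003000000050000000500000003000000080000000300000007000000030000000b0000000a00000006000000030000000c0000000b0000000b000000000000000d00000013000000000000000d0000000800000005000000180000000d0000000b000000020000000b0000000e0000000000000014000000140000000d000000160000001900000019000000140000000e00000010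

def TSP8Cp2_0_1 : ℕ := 1389

end Cfsg.Agent.Lib.Helper6.MultD
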