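import Mathlib
import Cfsg.Agent.Lib.Helper1.StemZP7
import Cfsg.Agent.Lib.Helper6.MultD.SP8Cp2R0
import Cfsg.Agent.Lib.Helper6.MultD.SP8Cp2Y0_0
import Cfsg.Agent.Lib.Helper6.MultD.SP8Cp2Y0_1

set_option autoImplicit false
set_option maxRecDepth 100000
set_option maxHeartbeats 8000000

/-! Certificate SP8Cp2 for the prime 2. -/

namespace Cfsg.Agent.Lib.Helper6.MultD

open Cfsg.Agent.Lib.Helper1

def specNSP8Cp2 : ℕ := 0xd00c8488140331f23020c1a8197194a8ea87a0498498398180a80478278170870058858248840c4083a630730022721f20a201192188187185c00b84b00a85a8499598890080278068860360260058050350048238838031730228a28428321620e20d18a14e13780068048448348130528228020820018418318116014a13e13a11d1010f30cb0bf0ae13212a12512211f11a1181050e70e30df0d50d10cf0c90c70c60c20c00b60b00ad0a80a60a009c09909708f08a08012f11611310e10c1091071000c50bd0b40a40a309b095094092088086084083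

def unkNSP8Cp2 : ℕ := 0x1078341609038140600ff7f3f5f8fb7d3e5f0f77b3d5e8f3793c5e0ef773b5d8eb753a5cee67238dc4e17037dbcdb6d365b0d66ab51a6d16833d98cb6431d8ac461af978ba5cad166af54a95429f49a250e833f1dcec753a1cce471381bcdc6d361acd46934198ca6431184c05e2e968b2582b954a45027134984b2511c8c44209007e3e1e0e87238198c8622f170b4582b1509c4a2210078301609844200d060240401

def colNSP8Cp2 : ℕ := 0x91908f8e8d8c8b8a898887868584838281807f7e7d7c7b7a7978777675747300727100706f6e6d6c6b6a00006968676600656463620061605f00005e5d00005c5b005a595800000000570056005554000000005352000000510000000000500000004f0000004e004d00000000000000000000004c0000000000000000004b004a00000049000000004800000000000047464544434241403f3e3d3c3b3a3938003736350034333200313000002f2e2d2c002b00002a00290028272625240000232200210000201f1e1d001c001b1a19000000001817160015141312111000000f000e00000d000c000b00000000000a000900000800070600000504000003000000000000020100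

def trSP8Cp2_0 : List (List ((ℕ × ℕ) × ℕ) × ℕ × ℕ) := [(ysSP8Cp2_0_0, LSP8Cp2_0_0, TSP8Cp2_0_0), (ysSP8Cp2_0_1, LSP8Cp2_0_1, TSP8Cp2_0_1)]

def relSP8Cp2 : List (List ((ℕ × ℕ) × ℕ)) := [(trSP8Cp2_0.map fun t => t.1).flatten]

/-- the certificate -/
def CSP8Cp2 : StemZP.ZRCert where
  p := 2
  s := 2
  w := 5
  N := 145
  β := 1
  hmR := 30
  hmQ := 16
  bs := [237]
  es := [1]
  specs := fun i => ((specNSP8Cp2 >>> (12 * i)) % 2 ^ 12 / 2 ^ 7, (specNSP8Cp2 >>> (12 * i)) % 2 ^ 7)
  unk := fun c => (unkNSP8Cp2 >>> (9 * c)) % 2 ^ 9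
  colT := fun b => (colNSP8Cp2 >>> (8 * b)) % 2 ^ 8
  R := fun c => if c < 145 then (RLSP8Cp2_0.getD ((c - 0) / 32) []).getD ((c - 0) % 32) 0 else 0
  rel := relSP8Cp2

end Cfsg.Agent.Lib.Helper6.MultD
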