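import Mathlib

set_option autoImplicit false

/-! The subgroup `L2(16)` of the subgroup `Ω8-(2)` of the group `Sp8(2)`: the generators and their tables. -/

namespace Cfsg.Agent.Lib.Helper6.MultD

/-- the generators of the subgroup as words in the letters -/
def wsSP8LM : List (List ℕ) := [[0, 0, 1, 1, 0, 0, 1, 1, 0, 0, 1, 0, 0, 1, 1, 0, 0, 1, 0, 1, 1, 0, 1, 0, 1, 0], [0, 1, 1, 0, 0, 1, 1, 0, 1, 0, 1, 1, 0, 1, 0, 1, 0, 1, 1, 0, 0, 1, 0, 1, 0, 0, 1, 0, 0, 1, 0, 1, 1, 0, 1, 1, 0, 1]]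

/-- the tables of the generators on the points -/
def pmNSP8LM : List ℕ := [0x737f7c707a767579727e7d717b7774781e12111d171b18141f13101c161a1915535f5c505a565559525e5d515b5754583e32313d373b38343f33303c363a3935b2bebdb1bbb7b4b8b3bfbcb0bab6b5b9dfd3d0dcd6dad9d5ded2d1ddd7dbd8d4929e9d919b979498939f9c909a969599fff3f0fcf6faf9f5fef2f1fdf7fbf8f4878b88848e82818d868a89858f83808ceae6e5e9e3efece0ebe7e4e8e2eeede1a7aba8a4aea2a1ada6aaa9a5afa3a0accac6c5c9c3cfccc0cbc7c4c8c2cecdc1464a49454f43404c474b48444e42414d2b272428222e2d212a262529232f2c20666a69656f63606c676b68646e62616d0b070408020e0d010a060509030f0c00, 0xfd4faa181fad48fa982acf7d7ac82d9f66d431838436d36103b154e6e153b604e755b00205b752e08230d56760d237857cce2b999e2cc97b19ab4efcfb49ac1e5be90cbeb90bee5c3e8c69dbdc6e8b39c0729725229075c7a517f24047f510a241f316a4a311f446249673c1c6749123da688d3f388a6fddbf0de85a5def0ab845f712a0a715f042209277c5c2709527de6c893b3c8e6bd9bb09ec5e59eb0ebc5fed08babd0fea583a886ddfd86a8f3dc4769321269471c3a113f64443f114a6e351b40601b356e48634d16364d6338178ca2f9d9a28cd7f1daf4af8ff4da81af94bae1c1ba94cfe9c2ecb797ecc299b62d035878032d76507b550e2e557b200]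

def pmSP8LM (i q : ℕ) : ℕ := (pmNSP8LM.getD i 0 >>> (8 * q)) % 2 ^ 8

end Cfsg.Agent.Lib.Helper6.MultD
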