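import Cfsg.Agent.Lib.Helper6.Mult.PM3
import Cfsg.Agent.Lib.Helper6.MultD.SP8LML
import Cfsg.Agent.Lib.Helper6.MultD.SP8Cp2D

set_option autoImplicit false
set_option maxRecDepth 100000

/-! The subgroup `L2(16)` on 120 sets, data SP8Cp2: the checks of the generators. -/

namespace Cfsg.Agent.Lib.Helper6.MultD

open Cfsg.Agent.Lib.Helper6.PM Cfsg.Agent.Lib.Helper6.Sp8 Cfsg.Agent.Lib.Helper1

theorem chk_tabSP8Cp2_0 : chkTab sp8L wsSP8Cp2 pmSP8Cp2 0 = true := by decide +kernel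

theorem chk_tabSP8Cp2_1 : chkTab sp8L wsSP8Cp2 pmSP8Cp2 1 = true := by decide +kernel

theorem chk_relPSP8Cp2_0 : chkRelP sp8L DSP8Cp2 pmSP8Cp2 0 = true := by decide +kernel

theorem chk_relPSP8Cp2_1 : chkRelP sp8L DSP8Cp2 pmSP8Cp2 1 = true := by decide +kernel

theorem chk_relPSP8Cp2_2 : chkRelP sp8L DSP8Cp2 pmSP8Cp2 2 = true := by decide +kernel

theorem chk_relPSP8Cp2_3 : chkRelP sp8L DSP8Cp2 pmSP8Cp2 3 = true := by decide +kernel

theorem chk_relPSP8Cp2_4 : chkRelP sp8L DSP8Cp2 pmSP8Cp2 4 = true := by decide +kernel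

theorem chk_relPSP8Cp2_5 : chkRelP sp8L DSP8Cp2 pmSP8Cp2 5 = true := by decide +kernel

theorem chk_relPSP8Cp2_6 : chkRelP sp8L DSP8Cp2 pmSP8Cp2 6 = true := by decide +kernel

theorem chk_relPSP8Cp2_7 : chkRelP sp8L DSP8Cp2 pmSP8Cp2 7 = true := by decide +kernel

theorem chk_relPSP8Cp2_8 : chkRelP sp8L DSP8Cp2 pmSP8Cp2 8 = true := by decide +kernel

theorem chk_relPSP8Cp2_9 : chkRelP sp8L DSP8Cp2 pmSP8Cp2 9 = true := by decide +kernel

theorem chk_relPSP8Cp2_10 : chkRelP sp8L DSP8Cp2 pmSP8Cp2 10 = true := by decide +kernel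

theorem chk_relPSP8Cp2_11 : chkRelP sp8L DSP8Cp2 pmSP8Cp2 11 = true := by decide +kernel

theorem chk_relPSP8Cp2_12 : chkRelP sp8L DSP8Cp2 pmSP8Cp2 12 = true := by decide +kernel

theorem chk_relPSP8Cp2_13 : chkRelP sp8L DSP8Cp2 pmSP8Cp2 13 = true := by decide +kernel

theorem chk_relPSP8Cp2_14 : chkRelP sp8L DSP8Cp2 pmSP8Cp2 14 = true := by decide +kernel

theorem chk_relPSP8Cp2_15 : chkRelP sp8L DSP8Cp2 pmSP8Cp2 15 = true := by decide +kernel

theorem chk_relPSP8Cp2_16 : chkRelP sp8L DSP8Cp2 pmSP8Cp2 16 = true := by decide +kernel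

theorem chk_relPSP8Cp2_17 : chkRelP sp8L DSP8Cp2 pmSP8Cp2 17 = true := by decide +kernel

theorem chk_relPSP8Cp2_18 : chkRelP sp8L DSP8Cp2 pmSP8Cp2 18 = true := by decide +kernel

theorem chk_relPSP8Cp2_19 : chkRelP sp8L DSP8Cp2 pmSP8Cp2 19 = true := by decide +kernel

theorem chk_relPSP8Cp2_20 : chkRelP sp8L DSP8Cp2 pmSP8Cp2 20 = true := by decide +kernel

theorem chk_relPSP8Cp2_21 : chkRelP sp8L DSP8Cp2 pmSP8Cp2 21 = true := by decide +kernel

theorem chk_relPSP8Cp2_22 : chkRelP sp8L DSP8Cp2 pmSP8Cp2 22 = true := by decide +kernel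

theorem chk_relPSP8Cp2_23 : chkRelP sp8L DSP8Cp2 pmSP8Cp2 23 = true := by decide +kernel

theorem chk_ordPSP8Cp2_0 : chkOrdP sp8L DSP8Cp2 pmSP8Cp2 0 = true := by decide +kernel

theorem chk_ordPSP8Cp2_1 : chkOrdP sp8L DSP8Cp2 pmSP8Cp2 1 = true := by decide +kernel

theorem chk_lwPSP8Cp2_0 : chkLwP sp8L wsSP8Cp2 pmSP8Cp2 lwSP8Cp2 0 = true := by decide +kernel

theorem chk_lwPSP8Cp2_1 : chkLwP sp8L wsSP8Cp2 pmSP8Cp2 lwSP8Cp2 1 = true := by decide +kernel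

theorem coreSP8Cp2 : CoreFacts sp8L DSP8Cp2 wsSP8Cp2 pmSP8Cp2 lwSP8Cp2 := by
  apply coreFacts_of_chk
  · rfl
  · intro i hi
    have h' : i < 2 := hi
    interval_cases i
    · exact chk_tabSP8Cp2_0
    · exact chk_tabSP8Cp2_1
  · intro r hr
    have h' : r < 24 := hr
    interval_cases r
    · exact chk_relPSP8Cp2_0
    · exact chk_relPSP8Cp2_1
    · exact chk_relPSP8Cp2_2
    · exact chk_relPSP8Cp2_3
    · exact chk_relPSP8Cp2_4
    · exact chk_relPSP8Cp2_5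
    · exact chk_relPSP8Cp2_6
    · exact chk_relPSP8Cp2_7
    · exact chk_relPSP8Cp2_8
    · exact chk_relPSP8Cp2_9
    · exact chk_relPSP8Cp2_10
    · exact chk_relPSP8Cp2_11
    · exact chk_relPSP8Cp2_12
    · exact chk_relPSP8Cp2_13
    · exact chk_relPSP8Cp2_14
    · exact chk_relPSP8Cp2_15
    · exact chk_relPSP8Cp2_16
    · exact chk_relPSP8Cp2_17
    · exact chk_relPSP8Cp2_18
    · exact chk_relPSP8Cp2_19
    · exact chk_relPSP8Cp2_20
    · exact chk_relPSP8Cp2_21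
    · exact chk_relPSP8Cp2_22
    · exact chk_relPSP8Cp2_23
  · intro i hi
    have h' : i < 2 := hi
    interval_cases i
    · exact chk_ordPSP8Cp2_0
    · exact chk_ordPSP8Cp2_1
  · intro c hc
    have h' : c < 2 := hc
    interval_cases c
    · exact chk_lwPSP8Cp2_0
    · exact chk_lwPSP8Cp2_1

end Cfsg.Agent.Lib.Helper6.MultD
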