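import Cfsg.Agent.Lib.Helper6.Mult.PM7
import Cfsg.Agent.Lib.Helper6.MultD.SP8LML
import Cfsg.Agent.Lib.Helper6.MultD.SP8Cp2D

set_option autoImplicit false
set_option maxRecDepth 100000

/-! The subgroup `L2(16)` on 120 sets, data SP8Cp2: the checks of the action on the sets. -/

namespace Cfsg.Agent.Lib.Helper6.MultD

open Cfsg.Agent.Lib.Helper6.PM Cfsg.Agent.Lib.Helper6.Sp8 Cfsg.Agent.Lib.Helper1

/-- a table recovering the index of a set from its mask modulo 487, when it is unique -/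
noncomputable def invN1SP8Cp2 : ℕ := 0x143c408be08f885e3078f113c78bec7c7835e2978f1e3c78f1e3c78f1e3c78f1e1f78f1e3c78f1e3c5ef1e3c78f077c78f1e3c37f1e3c78a7e3c4ef1e3c0a49e11e7f1e3c78f1e13f8f1e3c78daa8af8f158e78f1e3c78f1e3c78f1e3c78f1e3c1ef1e0c78f1e3c78f1e3c78f1e3c78f1e3c0cf1e1c09f04bc78f1e3c5bf1e10f80fe3c78afe3c78f1e3c4af1e3c78f1e3c3cf1e3c78f1e3c03f1e3c78f1e3c78f1e3c19f1e3c78f197c78f1e3c33f1e3c78f1e3c78f1e1af8f1e3c78f07fc78f1e3c7821e1d78f1e3c78f1e3c0ef1afc7877e05f8f1e3c78f1e3c78f1e0278f1e3c5cf1e1878d12fc5af053c78f1e3c78f1e21f8f1e3c78f1e3c01f1e23f8f1e1078f176a785be0078f1e3c78f1e3c78f1e3c78ebe3c49f1e3c78f1e3678f1e2478f0bfc78f1e3c78f0cbc63f1e3c78f00bc73f1e39781be1370f147c78f1e3c78f1e3c78f1e3c78f1e2caef0ffc78f1e3c78f1e3c78f1e3c78f1e2371f1e3c78f1e3c5811e3c78f1e3c78f017c78f1e3c78efe3c78f1e3c78f1e3c25f1e3178ede0df8f1e3c6a52b3c78f1e3c78f1e3c78d3e3c78f1e3c78f1e3c78f1e3c78f1e3c781fe3c78f1e3c78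

/-- a table recovering the index of the other sets from their masks modulo 47 -/
noncomputable def invN2SP8Cp2 : ℕ := 0x6e0cdb20068f70800003a4f0000022cc00000000000000ae6800000000005a6005002ac127bdc97

noncomputable def invSP8Cp2 (a : ℕ) : ℕ :=
  if (invN1SP8Cp2 >>> (7 * (a % 487))) % 2 ^ 7 = 120 then (invN2SP8Cp2 >>> (7 * (a % 47))) % 2 ^ 7
  else (invN1SP8Cp2 >>> (7 * (a % 487))) % 2 ^ 7

theorem chk_setsSP8Cp2_0 : chkSetsB sp8L pmSP8Cp2 masksSP8Cp2 DSP8Cp2.m DSP8Cp2.pi 0 = true := by decide +kernel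

theorem chk_setsSP8Cp2_1 : chkSetsB sp8L pmSP8Cp2 masksSP8Cp2 DSP8Cp2.m DSP8Cp2.pi 1 = true := by decide +kernel

theorem chk_setsSP8Cp2 : ∀ i < wsSP8Cp2.length, chkSets sp8L pmSP8Cp2 masksSP8Cp2 DSP8Cp2.m DSP8Cp2.pi i = true := by
  intro i hi
  apply chkSets_of_B
  have h' : i < 2 := hi
  interval_cases i
  · exact chk_setsSP8Cp2_0
  · exact chk_setsSP8Cp2_1

theorem chk_distinctSP8Cp2 : chkDistinct sp8L masksSP8Cp2 DSP8Cp2.m = true :=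
  chkDistinct_of_invB sp8L masksSP8Cp2 DSP8Cp2.m invSP8Cp2 (by decide +kernel)

end Cfsg.Agent.Lib.Helper6.MultD
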