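import Cfsg.Agent.Lib.Helper6.MultD.SP8LML
import Cfsg.Agent.Lib.Helper6.Mult.PM2

set_option autoImplicit false
set_option maxRecDepth 100000
set_option maxHeartbeats 8000000

/-! An involution and an element of order 17 of the subgroup `L2(16)`. -/

namespace Cfsg.Agent.Lib.Helper6.MultD

open Cfsg.Agent.Lib.Helper6.PM Cfsg.Agent.Lib.Helper6.Sp8 Cfsg.Agent.Lib.Helper1

noncomputable def wsSP8CE : List (List ℕ) := [[1, 0, 1, 0, 0, 1, 0], [0, 1]]

noncomputable def pmNSP8CE : List ℕ := [0xffd502281a30e7cd163cebc1f3d90e24103aedc7f5df0822f9d3042e1c36e1cbeac0173d0f25f2d80329fed4e6cc1b31052ff8d2e0ca1d37ecc6113b0923f4de98b2654f7d5780aa715b8ca694be6943775d8aa092b86f459eb463497b5186ac8da7705a684295bf644e99b381ab7c5662489fb587ad7a508ba1765c6e4493b9466cbb91a3895e74af8552784a60b79da983547e4c66b19b406abd97a58f58725379ae84b69c4b61ba90476d5f75a288bc96416b5973a48e557fa882b09a4d67210bdcf6c4ee3913c8e2351f2d07d0facee433192b01d6fc270ddaf0c2e83f15341ec9e3d1fb2c06ddf7200a3812c5efdbf1260c3e14c3e93218cfe5d7fd2a00,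 0xc245a027159277f070f71295a720c5424bcc29ae9c1bfe79f97e9b1c2ea94ccbd85fba3d0f886dea6aed088fbd3adf5851d633b48601e463e364810634b356d16ee90c8bb93edb5cdc5bbe390b8c69eee760850230b752d555d237b08205e06774f31691a324c146c641a423119673f4fd7a9f182aad48cf4fc82daa981ffa7dbf38dd5a68ef0a8d0d8a6fe8da5db83f36b154d3e16683048403e66153d431b6a522c74072f51097179075f2c047a2252cab4ec9fb7c991e9e19fc7b49ce2bac139471f6c443a621a126c34476f114939a1df87f4dca2fa828af4acdff789d1a098e6becde59bc3bbb3cd95e6ceb0e898007e26557d035b232b550d7e5628700]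

noncomputable def pmSP8CE (i q : ℕ) : ℕ := (pmNSP8CE.getD i 0 >>> (8 * q)) % 2 ^ 8

theorem chk_tabSP8CE_0 : chkTab sp8L wsSP8CE pmSP8CE 0 = true := by decide +kernel

theorem chk_tabSP8CE_1 : chkTab sp8L wsSP8CE pmSP8CE 1 = true := by decide +kernel

theorem tabSP8CE : TabFacts sp8L wsSP8CE pmSP8CE := by
  apply tabFacts_of_chk
  intro i hi
  have h' : i < 2 := hi
  interval_cases i
  · exact chk_tabSP8CE_0
  · exact chk_tabSP8CE_1

end Cfsg.Agent.Lib.Helper6.MultD
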