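import Cfsg.Agent.Lib.Helper6.MultD.SP8UML
import Cfsg.Agent.Lib.Helper6.Mult.PM2

set_option autoImplicit false
set_option maxRecDepth 100000
set_option maxHeartbeats 8000000

/-! Two commuting involutions of the subgroup `U4(2)` stabilizing a pair of points. -/

namespace Cfsg.Agent.Lib.Helper6.MultD

open Cfsg.Agent.Lib.Helper6.PM Cfsg.Agent.Lib.Helper6.Sp8 Cfsg.Agent.Lib.Helper1

noncomputable def wsSP8HE : List (List ℕ) := [[1, 0, 0, 1, 0, 0], [0, 1, 1, 1, 0, 1, 0, 0, 0, 1, 1, 0, 1]]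

noncomputable def pmNSP8HE : List ℕ := [0x71707372fbfaf9f8bbbab9b83130333261606362ebeae9e8abaaa9a8212023229392919019181b1a59585b5ad3d2d1d08382818009080b0a49484b4ac3c2c1c07d7c7f7ef7f6f5f4b7b6b5b43d3c3f3e6d6c6f6ee7e6e5e4a7a6a5a42d2c2f2e9f9e9d9c1514171655545756dfdedddc8f8e8d8c0504070645444746cfcecdccbdbcbfbe3736353477767574fdfcfffeadacafae2726252467666564edecefee5f5e5d5cd5d4d7d6959497961f1e1d1c4f4e4d4cc5c4c7c6858487860f0e0d0cb1b0b3b23b3a39387b7a7978f1f0f3f2a1a0a3a22b2a29286b6a6968e1e0e3e253525150d9d8dbda99989b9a1312111043424140c9c8cbca89888b8a03020100, 0x71707372757477767d7c7f7e79787b7a61606362656467666d6c6f6e69686b6a555457565150535259585b5a5d5c5f5e454447464140434249484b4a4d4c4f4ebbbab9b8bfbebdbcb7b6b5b4b3b2b1b0abaaa9a8afaeadaca7a6a5a4a3a2a1a09f9e9d9c9b9a999893929190979695948f8e8d8c8b8a89888382818087868584f5f4f7f6f1f0f3f2f9f8fbfafdfcfffee5e4e7e6e1e0e3e2e9e8ebeaedecefeed1d0d3d2d5d4d7d6dddcdfded9d8dbdac1c0c3c2c5c4c7c6cdcccfcec9c8cbca3f3e3d3c3b3a393833323130373635342f2e2d2c2b2a292823222120272625241b1a19181f1e1d1c17161514131211100b0a09080f0e0d0c0706050403020100]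

noncomputable def pmSP8HE (i q : ℕ) : ℕ := (pmNSP8HE.getD i 0 >>> (8 * q)) % 2 ^ 8

theorem chk_tabSP8HE_0 : chkTab sp8U wsSP8HE pmSP8HE 0 = true := by decide +kernel

theorem chk_tabSP8HE_1 : chkTab sp8U wsSP8HE pmSP8HE 1 = true := by decide +kernel

theorem tabSP8HE : TabFacts sp8U wsSP8HE pmSP8HE := by
  apply tabFacts_of_chk
  intro i hi
  have h' : i < 2 := hi
  interval_cases i
  · exact chk_tabSP8HE_0
  · exact chk_tabSP8HE_1

end Cfsg.Agent.Lib.Helper6.MultD
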