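import Cfsg.Agent.Lib.Helper6.MultD.SP8OML
import Cfsg.Agent.Lib.Helper6.Mult.PM2

set_option autoImplicit false
set_option maxRecDepth 100000
set_option maxHeartbeats 8000000

/-! An element of the subgroup `L2(16):2` outside of the subgroup `L2(16)`, as a word of the subgroup `Ω8-(2)`. -/

namespace Cfsg.Agent.Lib.Helper6.MultD

open Cfsg.Agent.Lib.Helper6.PM Cfsg.Agent.Lib.Helper6.Sp8 Cfsg.Agent.Lib.Helper1

noncomputable def wsSP8TM : List (List ℕ) := [[1, 1, 0, 0, 1, 1, 0, 1, 1, 0, 0, 1, 1, 0, 0, 1, 1, 0, 1, 1, 0, 1, 1, 0, 0, 1, 0, 0, 1, 1, 0, 0, 1, 1, 0, 0, 1, 0, 0, 1, 0, 0]]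

noncomputable def pmNSP8TM : List ℕ := [0x73727170777675747f7e7d7c7b7a797863626160676665646f6e6d6c6b6a696853525150575655545f5e5d5c5b5a595843424140474645444f4e4d4c4b4a4948bfbebdbcbbbab9b8b3b2b1b0b7b6b5b4afaeadacabaaa9a8a3a2a1a0a7a6a5a49f9e9d9c9b9a999893929190979695948f8e8d8c8b8a89888382818087868584f7f6f5f4f3f2f1f0fbfaf9f8fffefdfce7e6e5e4e3e2e1e0ebeae9e8efeeedecd7d6d5d4d3d2d1d0dbdad9d8dfdedddcc7c6c5c4c3c2c1c0cbcac9c8cfcecdcc3b3a39383f3e3d3c37363534333231302b2a29282f2e2d2c27262524232221201b1a19181f1e1d1c17161514131211100b0a09080f0e0d0c0706050403020100]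

noncomputable def pmSP8TM (i q : ℕ) : ℕ := (pmNSP8TM.getD i 0 >>> (8 * q)) % 2 ^ 8

theorem chk_tabSP8TM_0 : chkTab sp8O wsSP8TM pmSP8TM 0 = true := by decide +kernel

theorem tabSP8TM : TabFacts sp8O wsSP8TM pmSP8TM := by
  apply tabFacts_of_chk
  intro i hi
  have h' : i < 1 := hi
  interval_cases i
  · exact chk_tabSP8TM_0

end Cfsg.Agent.Lib.Helper6.MultD
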