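import Mathlib

set_option autoImplicit false

/-! The subgroup `U4(2)` of the subgroup `2^6:U4(2)` of the group `Sp8(2)`: the generators and their tables. -/

namespace Cfsg.Agent.Lib.Helper6.MultD

/-- the generators of the subgroup as words in the letters -/
def wsSP8UM : List (List ℕ) := [[0, 0, 0, 0, 1, 1, 1, 0, 0, 0, 0, 0, 0, 0, 0, 1, 0, 1, 0, 1, 0, 0, 0, 0, 1, 0, 0, 1, 1, 1], [0, 0, 0, 0, 1, 0, 1, 0, 1, 1, 1, 0, 0, 0, 0, 0, 0, 0, 0, 1, 1, 1, 0, 0, 0, 0, 1, 1, 1, 0, 1, 0, 1, 1, 1, 0, 0]]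

/-- the tables of the generators on the points -/
def pmNSP8UM : List ℕ := [0xf84870c79f2f17a7ff4f77c0982810a1f94971c69e2e16a6fe4e76c1992911a119a991267ecef6461eae962179c9f14018a890277fcff7471faf972078c8f04b13a39b2c74c4fc4c14a49c2b73c3fb4a12a29a2d75c5fd4d15a59d2a72c2fa4af2427acd95251dadf5457dca92221aabf3437bcc94241cacf4447ccb93231bab53e3db6c3484bc0c54e4dc6b3383bb0a52e2da6d3585bd0d55e5dd6a3282ba0ab2023a8dd5655dedb5053d8ad2625aebb3033b8cd4645cecb4043c8bd3635be0b8083087df6f57e7bf0f3780d86850e1b9093186de6e56e6be0e3681d96951e159e9d1663e8eb6065eeed6613989b10058e8d0673f8fb7075fefd7603888b00, 0xff8c8ffc37444734c1b2b1c2097a790aef9c9fec27545724d1a2a1d2196a691a15666516ddaeadde2b585b28e39093e005767506cdbebdce3b484b38f38083f0b9cac9ba7102017287f4f7844f3c3f4ca9dad9aa6112116297e4e7945f2c2f5c532023509be8eb986d1e1d6ea5d6d5a6433033408bf8fb887d0e0d7eb5c6c5b6493a394a81f2f18277040774bfcccfbc592a295a91e2e19267141764afdcdfaca3d0d3a06b181b689deeed9e55262556b3c0c3b07b080b788dfefd8e453635460f7c7f0cc7b4b7c431424132f98a89fa1f6c6f1cd7a4a7d421525122e99a99eae59695e62d5e5d2edba8abd813606310f58685f63d4e4d3ecbb8bbc803707300]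

def pmSP8UM (i q : ℕ) : ℕ := (pmNSP8UM.getD i 0 >>> (8 * q)) % 2 ^ 8

end Cfsg.Agent.Lib.Helper6.MultD
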