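import Cfsg.Agent.Lib.Helper6.MultD.SP8PML
import Cfsg.Agent.Lib.Helper6.MultD.SP8UM
import Cfsg.Agent.Lib.Helper6.Mult.PM2

set_option autoImplicit false
set_option maxRecDepth 100000

/-! The subgroup `U4(2)` of the subgroup `2^6:U4(2)` of the group `Sp8(2)`: the tables of its generators, and its model. -/

namespace Cfsg.Agent.Lib.Helper6.MultD

open Cfsg.Agent.Lib.Helper6.PM Cfsg.Agent.Lib.Helper6.Sp8 Cfsg.Agent.Lib.Helper1

theorem chk_tabSP8UM_0 : chkTab sp8P wsSP8UM pmSP8UM 0 = true := by decide +kernel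

theorem chk_tabSP8UM_1 : chkTab sp8P wsSP8UM pmSP8UM 1 = true := by decide +kernel

theorem tabSP8UM : TabFacts sp8P wsSP8UM pmSP8UM := by
  apply tabFacts_of_chk
  intro i hi
  have h' : i < 2 := hi
  interval_cases i
  · exact chk_tabSP8UM_0
  · exact chk_tabSP8UM_1

/-- the model of the subgroup -/
noncomputable def sp8U : PModel := sub sp8P wsSP8UM pmSP8UM tabSP8UM

end Cfsg.Agent.Lib.Helper6.MultD
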