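import Cfsg.Agent.Lib.Helper6.MultD.SP8SG
import Cfsg.Agent.Lib.Helper6.MultD.SP8TM
import Cfsg.Agent.Lib.Helper6.MultD.SP8CE
import Cfsg.Agent.Lib.Helper6.MultD.SP8HE
import Cfsg.Agent.Lib.Helper6.MultD.SP8HD
import Cfsg.Agent.Lib.Helper6.MultD.SP8UML
import Cfsg.Agent.Lib.Helper6.MultD.SP8Ap2D
import Cfsg.Agent.Lib.Helper6.MultD.SP8Ap3D
import Cfsg.Agent.Lib.Helper6.MultD.SP8Ap5D
import Cfsg.Agent.Lib.Helper6.MultD.SP8Bp2D
import Cfsg.Agent.Lib.Helper6.MultD.SP8Cp2D
import Cfsg.Agent.Lib.Helper6.MultD.SP8Ep3D
import Cfsg.Agent.Lib.Helper6.MultD.SP8Fp3D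
import Cfsg.Agent.Lib.Helper6.MultD.SP8Gp3D
import Cfsg.Agent.Lib.Helper6.Mult.PM7
import Cfsg.Agent.Lib.Helper6.WP9

set_option autoImplicit false
set_option maxRecDepth 100000
set_option maxHeartbeats 8000000

/-! The subgroups of the group `Sp8(2)` used for its multiplier: miscellaneous checks. -/

namespace Cfsg.Agent.Lib.Helper6.MultD

open Cfsg.Agent.Lib.Helper6.PM Cfsg.Agent.Lib.Helper6.Sp8 Cfsg.Agent.Lib.Helper1

open Cfsg.Agent.Lib.Helper6.TC Cfsg.Agent.Lib.Helper6.TCD

/-- the first sets of the three families of 120 sets are the same -/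
theorem chk_masks0SP8 : masksSP8Ap3 0 = masksSP8Ap2 0 ∧ masksSP8Ap5 0 = masksSP8Ap2 0 := by decide +kernel

/-- the generators of the subgroup `Ω8-(2)` stabilize the first of the 120 sets -/
theorem chk_fixASP8 : ((List.range 2).all fun i => (List.range 256).all fun q =>
    (masksSP8Ap2 0).testBit q == (masksSP8Ap2 0).testBit (pmSP8OM i q)) = true := by decide +kernel

/-- the first letter stabilizes the first of the 120 sets -/
theorem chk_fixArSP8 : ((List.range 256).all fun q =>
    (masksSP8Ap2 0).testBit q == (masksSP8Ap2 0).testBit (Cfsg.Agent.Lib.Helper6.Sp8.px 0 q)) = true := by decide +kernel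

/-- the generators of the subgroup `L2(16)` stabilize the first of the 24192 sets -/
theorem chk_fixBSP8 : ((List.range 2).all fun i => (List.range 256).all fun q =>
    (masksSP8Bp2 0).testBit q == (masksSP8Bp2 0).testBit (pmSP8LM i q)) = true := by decide +kernel

/-- the outer element stabilizes the first of the 24192 sets -/
theorem chk_fixBtSP8 : ((List.range 256).all fun q =>
    (masksSP8Bp2 0).testBit q == (masksSP8Bp2 0).testBit (pmSP8TM 0 q)) = true := by decide +kernel

theorem chk_famSP8_0 : chkSetsB sp8O pmSP8LM masksSP8Cp2 120 DSP8Cp2.pi 0 = true := by decide +kernel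

theorem chk_famSP8_1 : chkSetsB sp8O pmSP8LM masksSP8Cp2 120 DSP8Cp2.pi 1 = true := by decide +kernel

theorem chk_piFSP8 : ((List.range 2).all fun i => (List.range 120).all fun j => decide (DSP8Cp2.pi i j < 120)) = true := by
  decide +kernel

/-- the mask of the image of the first of the 120 sets of the subgroup `L2(16)` under the outer element -/
noncomputable def cmSP8 : ℕ := 0x80004200000480902000000100088800000000000000400000410020000002

theorem chk_cmSP8 : ((List.range 256).all fun q => cmSP8.testBit q == (masksSP8Cp2 0).testBit (pmSP8TM 0 q)) = true := by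
  decide +kernel

theorem chk_cmneSP8 : ((List.range 120).all fun j => cmSP8 % 2 ^ 256 != masksSP8Cp2 j % 2 ^ 256) = true := by
  decide +kernel

/-- the involution and the element of order 17 stabilize the first of the 120 sets -/
theorem chk_fixCSP8 : ((List.range 2).all fun i => (List.range 256).all fun q =>
    (masksSP8Cp2 0).testBit q == (masksSP8Cp2 0).testBit (pmSP8CE i q)) = true := by decide +kernel

/-- the involution has order dividing 2 -/
theorem chk_c2SP8 : ((List.range 256).all fun q => wappS pmSP8LM [1, 0, 1, 0, 0, 1, 0, 1, 0, 1, 0, 0, 1, 0] q == q) = true := by decide +kernel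

/-- the element of order 17 has order dividing 17 -/
theorem chk_g17SP8 : ((List.range 256).all fun q => wappS pmSP8LM [0, 1, 0, 1, 0, 1, 0, 1, 0, 1, 0, 1, 0, 1, 0, 1, 0, 1, 0, 1, 0, 1, 0, 1, 0, 1, 0, 1, 0, 1, 0, 1, 0, 1] q == q) = true := by decide +kernel

theorem chk_neSP8 : pmSP8CE 0 1 ≠ 1 ∧ pmSP8CE 1 1 ≠ 1 := by decide +kernel

/-- the generators of the subgroup `2^6:U4(2)` fix the first of the 119 points -/
theorem chk_fixESP8 : ((List.range 2).all fun i => (List.range 256).all fun q =>
    (masksSP8Ep3 0).testBit q == (masksSP8Ep3 0).testBit (pmSP8PM i q)) = true := by decide +kernel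

/-- the generators of the subgroup `U4(2)` fix the first of the 64 points -/
theorem chk_fixFSP8 : ((List.range 2).all fun i => (List.range 256).all fun q =>
    (masksSP8Fp3 0).testBit q == (masksSP8Fp3 0).testBit (pmSP8UM i q)) = true := by decide +kernel

/-- the two involutions stabilize the first of the 720 pairs -/
theorem chk_fixHSP8 : ((List.range 2).all fun i => (List.range 256).all fun q =>
    (masksSP8H 0).testBit q == (masksSP8H 0).testBit (pmSP8HE i q)) = true := by decide +kernel

/-- the two involutions: their squares are trivial and they commute -/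
theorem chk_invHSP8 : ((List.range 256).all fun q =>
    wappS pmSP8UM (wsSP8HE.getD 0 [] ++ wsSP8HE.getD 0 []) q == q &&
    wappS pmSP8UM (wsSP8HE.getD 1 [] ++ wsSP8HE.getD 1 []) q == q &&
    wappS pmSP8UM (wsSP8HE.getD 0 [] ++ wsSP8HE.getD 1 []) q == wappS pmSP8UM (wsSP8HE.getD 1 [] ++ wsSP8HE.getD 0 []) q) = true := by
  decide +kernel

theorem chk_neHSP8 : pmSP8HE 0 4 ≠ 4 ∧ pmSP8HE 1 8 ≠ 8 ∧ pmSP8HE 0 4 ≠ pmSP8HE 1 4 := by
  decide +kernel

/-- the generators of the subgroup `Ω8-(2)` have order dividing 3 -/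
theorem chk_ab3SP8 : ((List.range 2).all fun i => (List.range 256).all fun q =>
    wappS Cfsg.Agent.Lib.Helper6.Sp8.px (wsSP8OM.getD i [] ++ wsSP8OM.getD i [] ++ wsSP8OM.getD i []) q == q) = true := by
  decide +kernel

/-- a relation of the subgroup `Ω8-(2)` -/
theorem chk_r1SP8 : ((List.range 256).all fun q => wappS pmSP8Bp2 [0, 1, 0, 1, 0, 1, 0, 1, 0, 1, 0, 1, 0, 1, 0, 1] q == q) = true := by decide +kernel

/-- another relation of the subgroup `Ω8-(2)` -/
theorem chk_r2SP8 : ((List.range 256).all fun q => wappS pmSP8Bp2 [0, 1, 0, 1, 1, 0, 1, 0, 1, 1, 0, 1, 0, 1, 1, 0, 1, 0, 1, 1, 0, 1, 0, 1, 1, 0, 1, 0, 1, 1, 0, 1, 0, 1, 1, 0, 1, 0, 1, 1] q == q) = true := by decide +kernel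

/-- the first generator of the subgroup `L2(16)` has order dividing 3 -/
theorem chk_x3SP8 : ((List.range 256).all fun q => wappS pmSP8LM [0, 0, 0] q == q) = true := by decide +kernel

/-- the second generator of the subgroup `L2(16)` has order dividing 5 -/
theorem chk_y5SP8 : ((List.range 256).all fun q => wappS pmSP8LM [1, 1, 1, 1, 1] q == q) = true := by decide +kernel

/-- the first generator of the subgroup `2^6:U4(2)` has order dividing 5 -/
theorem chk_P0SP8 : ((List.range 256).all fun q => wappS pmSP8PM [0, 0, 0, 0, 0] q == q) = true := by decide +kernel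

/-- the second generator of the subgroup `2^6:U4(2)` has order dividing 4 -/
theorem chk_P1SP8 : ((List.range 256).all fun q => wappS pmSP8PM [1, 1, 1, 1] q == q) = true := by decide +kernel

/-- the product of the generators of the subgroup `2^6:U4(2)` has order dividing 9 -/
theorem chk_P2SP8 : ((List.range 256).all fun q => wappS pmSP8PM [0, 1, 0, 1, 0, 1, 0, 1, 0, 1, 0, 1, 0, 1, 0, 1, 0, 1] q == q) = true := by decide +kernel

/-- the first generator of the subgroup `U4(2)` has order dividing 9 -/
theorem chk_U0SP8 : ((List.range 256).all fun q => wappS pmSP8UM [0, 0, 0, 0, 0, 0, 0, 0, 0] q == q) = true := by decide +kernel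

/-- the second generator of the subgroup `U4(2)` has order dividing 4 -/
theorem chk_U1SP8 : ((List.range 256).all fun q => wappS pmSP8UM [1, 1, 1, 1] q == q) = true := by decide +kernel

/-- the product of the generators of the subgroup `U4(2)` has order dividing 5 -/
theorem chk_U2SP8 : ((List.range 256).all fun q => wappS pmSP8UM [0, 1, 0, 1, 0, 1, 0, 1, 0, 1] q == q) = true := by decide +kernel


end Cfsg.Agent.Lib.Helper6.MultD
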