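import Mathlib
import Cfsg.Agent.Lib.Helper1.StemZP7
import Cfsg.Agent.Lib.Helper6.MultD.SP8Ep3R0

set_option autoImplicit false
set_option maxRecDepth 100000
set_option maxHeartbeats 8000000

/-! Certificate SP8Ep3 for the prime 3. -/

namespace Cfsg.Agent.Lib.Helper6.MultD

open Cfsg.Agent.Lib.Helper1

def specNSP8Ep3 : ℕ := 0x994601335b80b008837275352d218e186c98a8ca87a0d92990b80880680278b7016b568a58958649b48340d3ae38938838334732e30d2b72b1299208d1bd03ca5a8988080b78a7827806915814ba4b74353c23b738b38630229122c221206204189183d00c82c80a807897003c33923273143002ae29f28328120320018dc03c007994814043ac38230629828928828415e1501451150df0d43813803012801801571491170e84001521231131070bd14d1461351211090ee0e60dd0ce0ac0a209e09809608c08a08210009208810b105103101086084080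

def unkNSP8Ep3 : ℕ := 0x82c12070280c01fefe7ebf1f6fa7cbe1eef67abd1e6f278bc1deee76bb1d6ea74ba1cce572389c2e06fb79badc6db61acd56a34da4d16833998c863b198ac260afd78ba5b2d566b1582b95aab552a550a752a9144a150275369a4ca5d2c9549a3518883b1d4e873391c4e06f369acd46933994c86331184c05f2d968b0572b154a8532813c984b2410c84401e0e06e36198c45e2e168a852281309446200d05c2c15

def colNSP8Ep3 : ℕ := 0x908f8e8d8c8b8a898887868584838281807f7e7d7c7b7a7978777675747300727170006f6e6d6c6b6a69680000670066656463626160005f005e0000005d5c5b5a000059580057000056005500000054530052005150004f4e004d4c4b4a490048470046454400004300424140003f3e3d003c00000000003b3a00000039000000000000000000000000000000000038373635343332310030002f2e2d002c002b2a29282726250000002423002221201f1e1d00001c1b00001a19000018000000001716001500000014000000131211000010000f000e0d0c00000b0a0900080700060000050000000000040000030201000000000000000000000000000000000000000000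

def relSP8Ep3 : List (List ((ℕ × ℕ) × ℕ)) := []

/-- the certificate -/
def CSP8Ep3 : StemZP.ZRCert where
  p := 3
  s := 2
  w := 6
  N := 144
  β := 3
  hmR := 60
  hmQ := 48
  bs := []
  es := []
  specs := fun i => ((specNSP8Ep3 >>> (12 * i)) % 2 ^ 12 / 2 ^ 7, (specNSP8Ep3 >>> (12 * i)) % 2 ^ 7)
  unk := fun c => (unkNSP8Ep3 >>> (9 * c)) % 2 ^ 9
  colT := fun b => (colNSP8Ep3 >>> (8 * b)) % 2 ^ 8
  R := fun c => if c < 144 then (RLSP8Ep3_0.getD ((c - 0) / 32) []).getD ((c - 0) % 32) 0 else 0
  rel := relSP8Ep3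

end Cfsg.Agent.Lib.Helper6.MultD
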