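import Mathlib

set_option autoImplicit false

/-! The subgroup `Ω8-(2)` of the group `Sp8(2)`: the generators and their tables. -/

namespace Cfsg.Agent.Lib.Helper6.MultD

/-- the generators of the subgroup as words in the letters -/
def wsSP8OM : List (List ℕ) := [[0, 3, 4, 5, 2, 3, 4, 1, 3, 2, 0, 2, 3, 1, 4, 3, 2, 5, 4, 3, 1, 0, 8, 6, 7, 5, 6, 4, 5, 2, 3, 4, 1, 3, 2, 0, 2, 3, 1, 4, 3, 2, 5, 4, 6, 5, 7, 6, 8, 0], [1, 3, 4, 3, 1, 3, 4, 6, 7, 5, 6, 1, 3, 4, 5, 2, 3, 4, 1, 3, 2, 0, 2, 3, 1, 4, 3, 2, 5, 4, 3, 1, 6, 5, 7, 6, 2, 0, 2, 4, 3, 2, 0, 8, 7, 6, 1, 3, 4, 5, 2, 3, 4, 1, 3, 2, 0, 2, 3, 1, 4, 3, 2, 5, 4, 3, 1, 6, 7, 8, 0, 2, 3, 4, 7, 6, 5, 3, 4, 1, 3, 2, 0, 2, 3, 1, 4, 3, 5, 6, 7]]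

/-- the tables of the generators on the points -/
def pmNSP8OM : List ℕ := [0xc9d6eff68f90a9b9405f667f06192038d1cef7ee9788b1a158477e671e013824edf2cbd2abb48d9d647b425b223d041cf5ead3cab3ac95857c635a433a251c04cdd2ebf28b94adbd445b627b021d243cd5caf3ea938cb5a55c437a631a053c20e9f6cfd6afb08999607f465f26390018f1eed7ceb7a8918178675e473e211808c1dee7fe8798a1b148576e770e112830d9c6ffe69f80b9a9504f766f1609302ce5fac3daa3bc85956c734a532a350c14fde2dbc2bba49d8d746b524b322d140cc5dae3fa839ca5b54c536a730a152c34ddc2fbe29b84bdad544b726b120d3428e1fec7dea7b8819168774e572e310810f9e6dfc6bfa09989706f564f3629100, 0xb47d12dba16807ce1cd5ba7309c0af6679b0df166ca5ca03d11877bec40d62ab32fb945d27ee81489a533cf58f4629e0ff365990ea234c85579ef138428be42d08c1ae671dd4bb72a06906cfb57c13dac50c63aad01976bf6da4cb0278b1de178e4728e19b523df426ef804933fa955c438ae52c569ff039eb224d84fe37589125ec834a30f9965f8d442be298513ef7e8214e87fd345b924089e62f559cf33aa36a05ccb67f10d90bc2ad641ed7b8716ea7c8017bb2dd14c60f60a9d31a75bc99503ff68c452ae331f8975e24ed824b549df23b4188e72efc355a93e9204f861fd6b9700ac3ac65b77e11d8a26b04cdd21b74bdc70e61a87ab3dc156fa6c900]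

def pmSP8OM (i q : ℕ) : ℕ := (pmNSP8OM.getD i 0 >>> (8 * q)) % 2 ^ 8

end Cfsg.Agent.Lib.Helper6.MultD
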