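import Cfsg.Agent.Lib.Helper6.Mult.PM3
import Cfsg.Agent.Lib.Helper6.MultD.SP8OML
import Cfsg.Agent.Lib.Helper6.MultD.SP8Ep3D

set_option autoImplicit false
set_option maxRecDepth 100000

/-! The subgroup `Ω8-(2)` on 119 points, data SP8Ep3: the checks of the generators. -/

namespace Cfsg.Agent.Lib.Helper6.MultD

open Cfsg.Agent.Lib.Helper6.PM Cfsg.Agent.Lib.Helper6.Sp8 Cfsg.Agent.Lib.Helper1

theorem chk_tabSP8Ep3_0 : chkTab sp8O wsSP8Ep3 pmSP8Ep3 0 = true := by decide +kernel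

theorem chk_tabSP8Ep3_1 : chkTab sp8O wsSP8Ep3 pmSP8Ep3 1 = true := by decide +kernel

theorem chk_relPSP8Ep3_0 : chkRelP sp8O DSP8Ep3 pmSP8Ep3 0 = true := by decide +kernel

theorem chk_relPSP8Ep3_1 : chkRelP sp8O DSP8Ep3 pmSP8Ep3 1 = true := by decide +kernel

theorem chk_relPSP8Ep3_2 : chkRelP sp8O DSP8Ep3 pmSP8Ep3 2 = true := by decide +kernel

theorem chk_relPSP8Ep3_3 : chkRelP sp8O DSP8Ep3 pmSP8Ep3 3 = true := by decide +kernel

theorem chk_relPSP8Ep3_4 : chkRelP sp8O DSP8Ep3 pmSP8Ep3 4 = true := by decide +kernel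

theorem chk_relPSP8Ep3_5 : chkRelP sp8O DSP8Ep3 pmSP8Ep3 5 = true := by decide +kernel

theorem chk_relPSP8Ep3_6 : chkRelP sp8O DSP8Ep3 pmSP8Ep3 6 = true := by decide +kernel

theorem chk_relPSP8Ep3_7 : chkRelP sp8O DSP8Ep3 pmSP8Ep3 7 = true := by decide +kernel

theorem chk_relPSP8Ep3_8 : chkRelP sp8O DSP8Ep3 pmSP8Ep3 8 = true := by decide +kernel

theorem chk_relPSP8Ep3_9 : chkRelP sp8O DSP8Ep3 pmSP8Ep3 9 = true := by decide +kernel

theorem chk_relPSP8Ep3_10 : chkRelP sp8O DSP8Ep3 pmSP8Ep3 10 = true := by decide +kernel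

theorem chk_relPSP8Ep3_11 : chkRelP sp8O DSP8Ep3 pmSP8Ep3 11 = true := by decide +kernel

theorem chk_relPSP8Ep3_12 : chkRelP sp8O DSP8Ep3 pmSP8Ep3 12 = true := by decide +kernel

theorem chk_relPSP8Ep3_13 : chkRelP sp8O DSP8Ep3 pmSP8Ep3 13 = true := by decide +kernel

theorem chk_relPSP8Ep3_14 : chkRelP sp8O DSP8Ep3 pmSP8Ep3 14 = true := by decide +kernel

theorem chk_relPSP8Ep3_15 : chkRelP sp8O DSP8Ep3 pmSP8Ep3 15 = true := by decide +kernel

theorem chk_relPSP8Ep3_16 : chkRelP sp8O DSP8Ep3 pmSP8Ep3 16 = true := by decide +kernel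

theorem chk_relPSP8Ep3_17 : chkRelP sp8O DSP8Ep3 pmSP8Ep3 17 = true := by decide +kernel

theorem chk_relPSP8Ep3_18 : chkRelP sp8O DSP8Ep3 pmSP8Ep3 18 = true := by decide +kernel

theorem chk_relPSP8Ep3_19 : chkRelP sp8O DSP8Ep3 pmSP8Ep3 19 = true := by decide +kernel

theorem chk_relPSP8Ep3_20 : chkRelP sp8O DSP8Ep3 pmSP8Ep3 20 = true := by decide +kernel

theorem chk_relPSP8Ep3_21 : chkRelP sp8O DSP8Ep3 pmSP8Ep3 21 = true := by decide +kernel

theorem chk_relPSP8Ep3_22 : chkRelP sp8O DSP8Ep3 pmSP8Ep3 22 = true := by decide +kernel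

theorem chk_relPSP8Ep3_23 : chkRelP sp8O DSP8Ep3 pmSP8Ep3 23 = true := by decide +kernel

theorem chk_ordPSP8Ep3_0 : chkOrdP sp8O DSP8Ep3 pmSP8Ep3 0 = true := by decide +kernel

theorem chk_ordPSP8Ep3_1 : chkOrdP sp8O DSP8Ep3 pmSP8Ep3 1 = true := by decide +kernel

theorem chk_lwPSP8Ep3_0 : chkLwP sp8O wsSP8Ep3 pmSP8Ep3 lwSP8Ep3 0 = true := by decide +kernel

theorem chk_lwPSP8Ep3_1 : chkLwP sp8O wsSP8Ep3 pmSP8Ep3 lwSP8Ep3 1 = true := by decide +kernel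

theorem coreSP8Ep3 : CoreFacts sp8O DSP8Ep3 wsSP8Ep3 pmSP8Ep3 lwSP8Ep3 := by
  apply coreFacts_of_chk
  · rfl
  · intro i hi
    have h' : i < 2 := hi
    interval_cases i
    · exact chk_tabSP8Ep3_0
    · exact chk_tabSP8Ep3_1
  · intro r hr
    have h' : r < 24 := hr
    interval_cases r
    · exact chk_relPSP8Ep3_0
    · exact chk_relPSP8Ep3_1
    · exact chk_relPSP8Ep3_2
    · exact chk_relPSP8Ep3_3
    · exact chk_relPSP8Ep3_4
    · exact chk_relPSP8Ep3_5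
    · exact chk_relPSP8Ep3_6
    · exact chk_relPSP8Ep3_7
    · exact chk_relPSP8Ep3_8
    · exact chk_relPSP8Ep3_9
    · exact chk_relPSP8Ep3_10
    · exact chk_relPSP8Ep3_11
    · exact chk_relPSP8Ep3_12
    · exact chk_relPSP8Ep3_13
    · exact chk_relPSP8Ep3_14
    · exact chk_relPSP8Ep3_15
    · exact chk_relPSP8Ep3_16
    · exact chk_relPSP8Ep3_17
    · exact chk_relPSP8Ep3_18
    · exact chk_relPSP8Ep3_19
    · exact chk_relPSP8Ep3_20
    · exact chk_relPSP8Ep3_21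
    · exact chk_relPSP8Ep3_22
    · exact chk_relPSP8Ep3_23
  · intro i hi
    have h' : i < 2 := hi
    interval_cases i
    · exact chk_ordPSP8Ep3_0
    · exact chk_ordPSP8Ep3_1
  · intro c hc
    have h' : c < 2 := hc
    interval_cases c
    · exact chk_lwPSP8Ep3_0
    · exact chk_lwPSP8Ep3_1

end Cfsg.Agent.Lib.Helper6.MultD
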