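import Cfsg.Agent.Lib.Helper6.Mult.PM7
import Cfsg.Agent.Lib.Helper6.MultD.SP8OML
import Cfsg.Agent.Lib.Helper6.MultD.SP8Ep3D

set_option autoImplicit false
set_option maxRecDepth 100000

/-! The subgroup `Ω8-(2)` on 119 points, data SP8Ep3: the checks of the action on the sets. -/

namespace Cfsg.Agent.Lib.Helper6.MultD

open Cfsg.Agent.Lib.Helper6.PM Cfsg.Agent.Lib.Helper6.Sp8 Cfsg.Agent.Lib.Helper1

/-- a table recovering the index of a set from its mask modulo 479, when it is unique -/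
noncomputable def invN1SP8Ep3 : ℕ := 0x1dfbf7efdfbf7efdfbf7ee43bf7efdfbf7efdfbf7efdfbf7efdfbf7efdc177efdfbf7efdfbf7efdfbf7efdfbe199dfbf7efdcc81efdda77ef83b8e83dfbf7efdfbf7efde7f7efdfbb1ef396dfefdfbf7efdfba6efdfbf7efdfbf7efdfbf7efdfbc6efdf3f739dfbf7efdfbab2bdfbf7efdf9f7efdec77efdfbf7efa3bd5ee4bbf7b5dfbf70fdfb86ba6bbf0efdfbf7a3dfbf7efdfbf7efdc677efdfbe2efdfbf7efdfb6fefdfb8befdfbf7efdfbd6eec91886bdfbf7afdfbf767dfbe3efdfbf7efde477efdfbf78bbbbf7efdf8b8ee47bf7efdfbf7efdfbf7efdfbf7efde177efdd416ee0fbe9efdfbf7efd7bf7ef97bf7efdfbf7efdfbf7efdfbd2efdfbf7efdfbf7a9dfbf7efdfbf709dfbf7efdfbc7efdfbf7efdef6cefdfbf7ee9fbf72897bf77fb7bcbee8bbf7eeabbf73bdfbdbefdfbd0efdfbf7ee27bebefdfbf7efdfb9eefdfbb093dee77e9dfbf714b3be4efdfbf7eeddea1efdfbf7efdc2f7efdfbf7efde1eaeedbbf7efdfbf7efdd277efdfbcaefdfbf7efdd777efdd7f7efdfbf7efdfbc4efdfbf7efdfbf71fdfbf7ee5df77ee7fbf731dfbb99bdf377ee4d03beef29f7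

/-- a table recovering the index of the other sets from their masks modulo 23 -/
noncomputable def invN2SP8Ep3 : ℕ := 0x16403a0002072000000000a40000034d80

noncomputable def invSP8Ep3 (a : ℕ) : ℕ :=
  if (invN1SP8Ep3 >>> (7 * (a % 479))) % 2 ^ 7 = 119 then (invN2SP8Ep3 >>> (7 * (a % 23))) % 2 ^ 7
  else (invN1SP8Ep3 >>> (7 * (a % 479))) % 2 ^ 7

theorem chk_setsSP8Ep3_0 : chkSetsB sp8O pmSP8Ep3 masksSP8Ep3 DSP8Ep3.m DSP8Ep3.pi 0 = true := by decide +kernel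

theorem chk_setsSP8Ep3_1 : chkSetsB sp8O pmSP8Ep3 masksSP8Ep3 DSP8Ep3.m DSP8Ep3.pi 1 = true := by decide +kernel

theorem chk_setsSP8Ep3 : ∀ i < wsSP8Ep3.length, chkSets sp8O pmSP8Ep3 masksSP8Ep3 DSP8Ep3.m DSP8Ep3.pi i = true := by
  intro i hi
  apply chkSets_of_B
  have h' : i < 2 := hi
  interval_cases i
  · exact chk_setsSP8Ep3_0
  · exact chk_setsSP8Ep3_1

theorem chk_distinctSP8Ep3 : chkDistinct sp8O masksSP8Ep3 DSP8Ep3.m = true :=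
  chkDistinct_of_invB sp8O masksSP8Ep3 DSP8Ep3.m invSP8Ep3 (by decide +kernel)

end Cfsg.Agent.Lib.Helper6.MultD
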