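import Mathlib
import Cfsg.Agent.Lib.Helper1.StemZP7
import Cfsg.Agent.Lib.Helper6.MultD.SP8Fp3R0

set_option autoImplicit false
set_option maxRecDepth 100000
set_option maxHeartbeats 8000000

/-! Certificate SP8Fp3 for the prime 3. -/

namespace Cfsg.Agent.Lib.Helper6.MultD

open Cfsg.Agent.Lib.Helper1

def specNSP8Fp3 : ℕ := 0x684c8b80ae248a895009c4b84702d09a0b40604c05802053065048c9041a431461581a08f0d64a99512a1540240384610a194221441ea34c7700b294528630a548a794021240c60181202401021890f61d43805e156198298a313a23c4585008c2944d896124234448570aa1442704c08421c4288310220022040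

def unkNSP8Fp3 : ℕ := 0x97969594939291908f8e8d8c8b8a898887868584838281807f7e7d7c7b7a79787776747371706f6e6c6b6a696867646361605f5c585755544e3f3e3d3c3b3a3938373635343231302f2c2a2726252423201f1e1b16140f0d08

def colNSP8Fp3 : ℕ := 0xb362bd6ab529d2a3427ce9b325ca93223c68b121c28301fbe7af1dba72e00376c01ab466c803160bd72d580002b54014a84e00026000002548011a200000000084000000000000000000000000407cf1d386cd19305cb1500509922200010003c0001c3460b1400009101c0000c00000001400400000000600100000000100000000000000

def relSP8Fp3 : List (List ((ℕ × ℕ) × ℕ)) := []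

/-- the certificate -/
def CSP8Fp3 : StemZP.ZRCert where
  p := 3
  s := 2
  w := 6
  N := 89
  β := 3
  hmR := 60
  hmQ := 48
  bs := []
  es := []
  specs := fun i => ((specNSP8Fp3 >>> (11 * i)) % 2 ^ 11 / 2 ^ 6, (specNSP8Fp3 >>> (11 * i)) % 2 ^ 6)
  unk := fun c => (unkNSP8Fp3 >>> (8 * c)) % 2 ^ 8
  colT := fun b => (colNSP8Fp3 >>> (7 * b)) % 2 ^ 7
  R := fun c => if c < 89 then (RLSP8Fp3_0.getD ((c - 0) / 32) []).getD ((c - 0) % 32) 0 else 0
  rel := relSP8Fp3

end Cfsg.Agent.Lib.Helper6.MultD
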