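import Mathlib

set_option autoImplicit false

/-! The subgroup `2^6:U4(2)` of the subgroup `Ω8-(2)` of the group `Sp8(2)`: the generators and their tables. -/

namespace Cfsg.Agent.Lib.Helper6.MultD

/-- the generators of the subgroup as words in the letters -/
def wsSP8PM : List (List ℕ) := [[0, 1, 1, 0, 1, 1, 0, 0, 1, 0, 0, 1, 0, 0, 1, 1, 0, 1, 1, 0, 1, 1, 0, 1, 0, 1, 1, 0, 0, 1, 0, 0, 1, 0, 1, 0, 1, 1, 0, 0, 1, 0, 0], [1, 0, 0, 1, 0, 1, 0, 0, 1, 0, 0, 1, 1, 0, 1, 0, 0, 1, 1, 0, 0, 1, 0, 0, 1, 0, 0, 1, 0, 1, 1, 0, 1, 1, 0, 1]]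

/-- the tables of the generators on the points -/
def pmNSP8PM : List ℕ := [0x4ac9ca49890a098a8b080b8848cbc84b1f9c9f1cdc5f5cdfde5d5edd1d9e9d1ed15251d21291921110939013d35053d08407048747c4c74445c6c54686050685bf3c3fbc7cfffc7f7efdfe7dbd3e3dbeea696ae929aaa92a2ba8ab28e86b68eb24a7a427e76467e4e56665e626a5a62571f2f172b23132b1b03330b373f0f3703ab9ba39f97a79fafb787bf838bbb83b6fecef6cac2f2cafae2d2ead6deeed6ea12221a262e1e26160e3e063a32023a0f47774f737b4b73435b6b536f67576f5cf4c4fcc0c8f8c0f0e8d8e0dcd4e4dce9a191a9959dad95a5bd8db58981b189b54d7d457971417949516159656d5d65501828102c24142c1c04340c303808300, 0xff4a49fcf84d4efbc77271c4c07576c39b2e2d989c292a9fa31615a0a41112a7ab1e1da8ac191aaf9326259094212297cf7a79ccc87d7ecbf74241f4f04546f38c393a8f8b3e3d88b40102b7b30605b0e85d5eebef5a59ecd06566d3d76261d4d86d6edbdf6a69dce05556e3e75251e4bc090abfbb0e0db884313287833635807fcac97c78cdce7b47f2f14440f5f6431baead181ca9aa1f23969520249192272b9e9d282c999a2f13a6a51014a1a2174ffaf94c48fdfe4b77c2c17470c5c6730cb9ba0f0bbebd08348182373386853068ddde6b6fdad96c50e5e65357e2e15458edee5b5feae95c60d5d66367d2d1643c898a3f3b8e8d3804b1b20703b6b500]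

def pmSP8PM (i q : ℕ) : ℕ := (pmNSP8PM.getD i 0 >>> (8 * q)) % 2 ^ 8

end Cfsg.Agent.Lib.Helper6.MultD
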