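import Cfsg.Agent.Lib.Helper6.Mult.PM3
import Cfsg.Agent.Lib.Helper6.MultD.SP8PML
import Cfsg.Agent.Lib.Helper6.MultD.SP8Fp3D

set_option autoImplicit false
set_option maxRecDepth 100000

/-! The subgroup `2^6:U4(2)` on 64 points, data SP8Fp3: the checks of the generators. -/

namespace Cfsg.Agent.Lib.Helper6.MultD

open Cfsg.Agent.Lib.Helper6.PM Cfsg.Agent.Lib.Helper6.Sp8 Cfsg.Agent.Lib.Helper1

theorem chk_tabSP8Fp3_0 : chkTab sp8P wsSP8Fp3 pmSP8Fp3 0 = true := by decide +kernel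

theorem chk_tabSP8Fp3_1 : chkTab sp8P wsSP8Fp3 pmSP8Fp3 1 = true := by decide +kernel

theorem chk_relPSP8Fp3_0 : chkRelP sp8P DSP8Fp3 pmSP8Fp3 0 = true := by decide +kernel

theorem chk_relPSP8Fp3_1 : chkRelP sp8P DSP8Fp3 pmSP8Fp3 1 = true := by decide +kernel

theorem chk_relPSP8Fp3_2 : chkRelP sp8P DSP8Fp3 pmSP8Fp3 2 = true := by decide +kernel

theorem chk_relPSP8Fp3_3 : chkRelP sp8P DSP8Fp3 pmSP8Fp3 3 = true := by decide +kernel

theorem chk_relPSP8Fp3_4 : chkRelP sp8P DSP8Fp3 pmSP8Fp3 4 = true := by decide +kernel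

theorem chk_relPSP8Fp3_5 : chkRelP sp8P DSP8Fp3 pmSP8Fp3 5 = true := by decide +kernel

theorem chk_relPSP8Fp3_6 : chkRelP sp8P DSP8Fp3 pmSP8Fp3 6 = true := by decide +kernel

theorem chk_relPSP8Fp3_7 : chkRelP sp8P DSP8Fp3 pmSP8Fp3 7 = true := by decide +kernel

theorem chk_relPSP8Fp3_8 : chkRelP sp8P DSP8Fp3 pmSP8Fp3 8 = true := by decide +kernel

theorem chk_relPSP8Fp3_9 : chkRelP sp8P DSP8Fp3 pmSP8Fp3 9 = true := by decide +kernel

theorem chk_relPSP8Fp3_10 : chkRelP sp8P DSP8Fp3 pmSP8Fp3 10 = true := by decide +kernel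

theorem chk_relPSP8Fp3_11 : chkRelP sp8P DSP8Fp3 pmSP8Fp3 11 = true := by decide +kernel

theorem chk_relPSP8Fp3_12 : chkRelP sp8P DSP8Fp3 pmSP8Fp3 12 = true := by decide +kernel

theorem chk_relPSP8Fp3_13 : chkRelP sp8P DSP8Fp3 pmSP8Fp3 13 = true := by decide +kernel

theorem chk_relPSP8Fp3_14 : chkRelP sp8P DSP8Fp3 pmSP8Fp3 14 = true := by decide +kernel

theorem chk_relPSP8Fp3_15 : chkRelP sp8P DSP8Fp3 pmSP8Fp3 15 = true := by decide +kernel

theorem chk_relPSP8Fp3_16 : chkRelP sp8P DSP8Fp3 pmSP8Fp3 16 = true := by decide +kernel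

theorem chk_relPSP8Fp3_17 : chkRelP sp8P DSP8Fp3 pmSP8Fp3 17 = true := by decide +kernel

theorem chk_relPSP8Fp3_18 : chkRelP sp8P DSP8Fp3 pmSP8Fp3 18 = true := by decide +kernel

theorem chk_relPSP8Fp3_19 : chkRelP sp8P DSP8Fp3 pmSP8Fp3 19 = true := by decide +kernel

theorem chk_relPSP8Fp3_20 : chkRelP sp8P DSP8Fp3 pmSP8Fp3 20 = true := by decide +kernel

theorem chk_relPSP8Fp3_21 : chkRelP sp8P DSP8Fp3 pmSP8Fp3 21 = true := by decide +kernel

theorem chk_relPSP8Fp3_22 : chkRelP sp8P DSP8Fp3 pmSP8Fp3 22 = true := by decide +kernel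

theorem chk_relPSP8Fp3_23 : chkRelP sp8P DSP8Fp3 pmSP8Fp3 23 = true := by decide +kernel

theorem chk_ordPSP8Fp3_0 : chkOrdP sp8P DSP8Fp3 pmSP8Fp3 0 = true := by decide +kernel

theorem chk_ordPSP8Fp3_1 : chkOrdP sp8P DSP8Fp3 pmSP8Fp3 1 = true := by decide +kernel

theorem chk_lwPSP8Fp3_0 : chkLwP sp8P wsSP8Fp3 pmSP8Fp3 lwSP8Fp3 0 = true := by decide +kernel

theorem chk_lwPSP8Fp3_1 : chkLwP sp8P wsSP8Fp3 pmSP8Fp3 lwSP8Fp3 1 = true := by decide +kernel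

theorem coreSP8Fp3 : CoreFacts sp8P DSP8Fp3 wsSP8Fp3 pmSP8Fp3 lwSP8Fp3 := by
  apply coreFacts_of_chk
  · rfl
  · intro i hi
    have h' : i < 2 := hi
    interval_cases i
    · exact chk_tabSP8Fp3_0
    · exact chk_tabSP8Fp3_1
  · intro r hr
    have h' : r < 24 := hr
    interval_cases r
    · exact chk_relPSP8Fp3_0
    · exact chk_relPSP8Fp3_1
    · exact chk_relPSP8Fp3_2
    · exact chk_relPSP8Fp3_3
    · exact chk_relPSP8Fp3_4
    · exact chk_relPSP8Fp3_5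
    · exact chk_relPSP8Fp3_6
    · exact chk_relPSP8Fp3_7
    · exact chk_relPSP8Fp3_8
    · exact chk_relPSP8Fp3_9
    · exact chk_relPSP8Fp3_10
    · exact chk_relPSP8Fp3_11
    · exact chk_relPSP8Fp3_12
    · exact chk_relPSP8Fp3_13
    · exact chk_relPSP8Fp3_14
    · exact chk_relPSP8Fp3_15
    · exact chk_relPSP8Fp3_16
    · exact chk_relPSP8Fp3_17
    · exact chk_relPSP8Fp3_18
    · exact chk_relPSP8Fp3_19
    · exact chk_relPSP8Fp3_20
    · exact chk_relPSP8Fp3_21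
    · exact chk_relPSP8Fp3_22
    · exact chk_relPSP8Fp3_23
  · intro i hi
    have h' : i < 2 := hi
    interval_cases i
    · exact chk_ordPSP8Fp3_0
    · exact chk_ordPSP8Fp3_1
  · intro c hc
    have h' : c < 2 := hc
    interval_cases c
    · exact chk_lwPSP8Fp3_0
    · exact chk_lwPSP8Fp3_1

end Cfsg.Agent.Lib.Helper6.MultD
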