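import Cfsg.Agent.Lib.Helper6.Mult.PM7
import Cfsg.Agent.Lib.Helper6.MultD.SP8PML
import Cfsg.Agent.Lib.Helper6.MultD.SP8Fp3D

set_option autoImplicit false
set_option maxRecDepth 100000

/-! The subgroup `2^6:U4(2)` on 64 points, data SP8Fp3: the checks of the action on the sets. -/

namespace Cfsg.Agent.Lib.Helper6.MultD

open Cfsg.Agent.Lib.Helper6.PM Cfsg.Agent.Lib.Helper6.Sp8 Cfsg.Agent.Lib.Helper1

/-- a table recovering the index of a set from its mask modulo 263, when it is unique -/
noncomputable def invN1SP8Fp3 : ℕ := 0x10204081020408101ac0810203781020408022040810204080b06408102040810204036490c081020408102040810204080f1fc0810203a8102040810202d8102040810204029020400f020408102040810204081020408102040810201a81020408102040490204081020408101ec081006c08100e40810201f8102040810204081020403d0204081018408102038808a02a6d02016810204081020408102040810204081020408102040810204080ca0408102040810204080e6040802e01981020408102040470204081020408100bab810204081002c08102040230204081020408102040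

/-- a table recovering the index of the other sets from their masks modulo 107 -/
noncomputable def invN2SP8Fp3 : ℕ := 0x303800000000001400000080002000000005c54000003c00000004800000000000188000000000000000000130000a000000ec0004e000000401f13000c0003a003100000000000000000000330001a00000178100000250001480

noncomputable def invSP8Fp3 (a : ℕ) : ℕ :=
  if (invN1SP8Fp3 >>> (7 * (a % 263))) % 2 ^ 7 = 64 then (invN2SP8Fp3 >>> (7 * (a % 107))) % 2 ^ 7
  else (invN1SP8Fp3 >>> (7 * (a % 263))) % 2 ^ 7

theorem chk_setsSP8Fp3_0 : chkSetsB sp8P pmSP8Fp3 masksSP8Fp3 DSP8Fp3.m DSP8Fp3.pi 0 = true := by decide +kernel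

theorem chk_setsSP8Fp3_1 : chkSetsB sp8P pmSP8Fp3 masksSP8Fp3 DSP8Fp3.m DSP8Fp3.pi 1 = true := by decide +kernel

theorem chk_setsSP8Fp3 : ∀ i < wsSP8Fp3.length, chkSets sp8P pmSP8Fp3 masksSP8Fp3 DSP8Fp3.m DSP8Fp3.pi i = true := by
  intro i hi
  apply chkSets_of_B
  have h' : i < 2 := hi
  interval_cases i
  · exact chk_setsSP8Fp3_0
  · exact chk_setsSP8Fp3_1

theorem chk_distinctSP8Fp3 : chkDistinct sp8P masksSP8Fp3 DSP8Fp3.m = true :=
  chkDistinct_of_invB sp8P masksSP8Fp3 DSP8Fp3.m invSP8Fp3 (by decide +kernel)

end Cfsg.Agent.Lib.Helper6.MultD
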