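import Cfsg.Agent.Lib.Helper6.Mult.PM3
import Cfsg.Agent.Lib.Helper6.MultD.SP8UML
import Cfsg.Agent.Lib.Helper6.MultD.SP8HD

set_option autoImplicit false
set_option maxRecDepth 100000

/-! The subgroup `U4(2)` on 720 pairs of points, data SP8H: the checks of the generators. -/

namespace Cfsg.Agent.Lib.Helper6.MultD

open Cfsg.Agent.Lib.Helper6.PM Cfsg.Agent.Lib.Helper6.Sp8 Cfsg.Agent.Lib.Helper1

theorem chk_tabSP8H_0 : chkTab sp8U wsSP8H pmSP8H 0 = true := by decide +kernel

theorem chk_tabSP8H_1 : chkTab sp8U wsSP8H pmSP8H 1 = true := by decide +kernel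

theorem chk_ordPSP8H_0 : chkOrdP sp8U DSP8H pmSP8H 0 = true := by decide +kernel

theorem chk_ordPSP8H_1 : chkOrdP sp8U DSP8H pmSP8H 1 = true := by decide +kernel

theorem chk_lwPSP8H_0 : chkLwP sp8U wsSP8H pmSP8H lwSP8H 0 = true := by decide +kernel

theorem chk_lwPSP8H_1 : chkLwP sp8U wsSP8H pmSP8H lwSP8H 1 = true := by decide +kernel

theorem coreSP8H : CoreFacts sp8U DSP8H wsSP8H pmSP8H lwSP8H := by
  apply coreFacts_of_chk
  · rfl
  · intro i hi
    have h' : i < 2 := hi
    interval_cases i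
    · exact chk_tabSP8H_0
    · exact chk_tabSP8H_1
  · intro r hr
    have h' : r < 0 := hr
    interval_cases r
  · intro i hi
    have h' : i < 2 := hi
    interval_cases i
    · exact chk_ordPSP8H_0
    · exact chk_ordPSP8H_1
  · intro c hc
    have h' : c < 2 := hc
    interval_cases c
    · exact chk_lwPSP8H_0
    · exact chk_lwPSP8H_1

end Cfsg.Agent.Lib.Helper6.MultD
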