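import Cfsg.Agent.Lib.Helper6.Mult.PM3
import Cfsg.Agent.Lib.Helper6.Mult.Sp8A
import Cfsg.Agent.Lib.Helper6.MultD.SP8Ap3D

set_option autoImplicit false
set_option maxRecDepth 100000

/-! The group `Sp8(2)` on 120 sets, data SP8Ap3: the checks of the generators. -/

namespace Cfsg.Agent.Lib.Helper6.MultD

open Cfsg.Agent.Lib.Helper6.PM Cfsg.Agent.Lib.Helper6.Sp8 Cfsg.Agent.Lib.Helper1

theorem chk_tabSP8Ap3_0 : chkTab sp8Model wsSP8Ap3 pmSP8Ap3 0 = true := by decide +kernel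

theorem chk_tabSP8Ap3_1 : chkTab sp8Model wsSP8Ap3 pmSP8Ap3 1 = true := by decide +kernel

theorem chk_tabSP8Ap3_2 : chkTab sp8Model wsSP8Ap3 pmSP8Ap3 2 = true := by decide +kernel

theorem chk_tabSP8Ap3_3 : chkTab sp8Model wsSP8Ap3 pmSP8Ap3 3 = true := by decide +kernel

theorem chk_tabSP8Ap3_4 : chkTab sp8Model wsSP8Ap3 pmSP8Ap3 4 = true := by decide +kernel

theorem chk_tabSP8Ap3_5 : chkTab sp8Model wsSP8Ap3 pmSP8Ap3 5 = true := by decide +kernel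

theorem chk_tabSP8Ap3_6 : chkTab sp8Model wsSP8Ap3 pmSP8Ap3 6 = true := by decide +kernel

theorem chk_tabSP8Ap3_7 : chkTab sp8Model wsSP8Ap3 pmSP8Ap3 7 = true := by decide +kernel

theorem chk_tabSP8Ap3_8 : chkTab sp8Model wsSP8Ap3 pmSP8Ap3 8 = true := by decide +kernel

theorem chk_relPSP8Ap3_0 : chkRelP sp8Model DSP8Ap3 pmSP8Ap3 0 = true := by decide +kernel

theorem chk_relPSP8Ap3_1 : chkRelP sp8Model DSP8Ap3 pmSP8Ap3 1 = true := by decide +kernel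

theorem chk_relPSP8Ap3_2 : chkRelP sp8Model DSP8Ap3 pmSP8Ap3 2 = true := by decide +kernel

theorem chk_relPSP8Ap3_3 : chkRelP sp8Model DSP8Ap3 pmSP8Ap3 3 = true := by decide +kernel

theorem chk_relPSP8Ap3_4 : chkRelP sp8Model DSP8Ap3 pmSP8Ap3 4 = true := by decide +kernel

theorem chk_relPSP8Ap3_5 : chkRelP sp8Model DSP8Ap3 pmSP8Ap3 5 = true := by decide +kernel

theorem chk_relPSP8Ap3_6 : chkRelP sp8Model DSP8Ap3 pmSP8Ap3 6 = true := by decide +kernel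

theorem chk_relPSP8Ap3_7 : chkRelP sp8Model DSP8Ap3 pmSP8Ap3 7 = true := by decide +kernel

theorem chk_relPSP8Ap3_8 : chkRelP sp8Model DSP8Ap3 pmSP8Ap3 8 = true := by decide +kernel

theorem chk_relPSP8Ap3_9 : chkRelP sp8Model DSP8Ap3 pmSP8Ap3 9 = true := by decide +kernel

theorem chk_relPSP8Ap3_10 : chkRelP sp8Model DSP8Ap3 pmSP8Ap3 10 = true := by decide +kernel

theorem chk_relPSP8Ap3_11 : chkRelP sp8Model DSP8Ap3 pmSP8Ap3 11 = true := by decide +kernel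

theorem chk_relPSP8Ap3_12 : chkRelP sp8Model DSP8Ap3 pmSP8Ap3 12 = true := by decide +kernel

theorem chk_relPSP8Ap3_13 : chkRelP sp8Model DSP8Ap3 pmSP8Ap3 13 = true := by decide +kernel

theorem chk_relPSP8Ap3_14 : chkRelP sp8Model DSP8Ap3 pmSP8Ap3 14 = true := by decide +kernel

theorem chk_relPSP8Ap3_15 : chkRelP sp8Model DSP8Ap3 pmSP8Ap3 15 = true := by decide +kernel

theorem chk_relPSP8Ap3_16 : chkRelP sp8Model DSP8Ap3 pmSP8Ap3 16 = true := by decide +kernel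

theorem chk_relPSP8Ap3_17 : chkRelP sp8Model DSP8Ap3 pmSP8Ap3 17 = true := by decide +kernel

theorem chk_relPSP8Ap3_18 : chkRelP sp8Model DSP8Ap3 pmSP8Ap3 18 = true := by decide +kernel

theorem chk_relPSP8Ap3_19 : chkRelP sp8Model DSP8Ap3 pmSP8Ap3 19 = true := by decide +kernel

theorem chk_relPSP8Ap3_20 : chkRelP sp8Model DSP8Ap3 pmSP8Ap3 20 = true := by decide +kernel

theorem chk_relPSP8Ap3_21 : chkRelP sp8Model DSP8Ap3 pmSP8Ap3 21 = true := by decide +kernel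

theorem chk_relPSP8Ap3_22 : chkRelP sp8Model DSP8Ap3 pmSP8Ap3 22 = true := by decide +kernel

theorem chk_relPSP8Ap3_23 : chkRelP sp8Model DSP8Ap3 pmSP8Ap3 23 = true := by decide +kernel

theorem chk_relPSP8Ap3_24 : chkRelP sp8Model DSP8Ap3 pmSP8Ap3 24 = true := by decide +kernel

theorem chk_relPSP8Ap3_25 : chkRelP sp8Model DSP8Ap3 pmSP8Ap3 25 = true := by decide +kernel

theorem chk_relPSP8Ap3_26 : chkRelP sp8Model DSP8Ap3 pmSP8Ap3 26 = true := by decide +kernel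

theorem chk_relPSP8Ap3_27 : chkRelP sp8Model DSP8Ap3 pmSP8Ap3 27 = true := by decide +kernel

theorem chk_relPSP8Ap3_28 : chkRelP sp8Model DSP8Ap3 pmSP8Ap3 28 = true := by decide +kernel

theorem chk_relPSP8Ap3_29 : chkRelP sp8Model DSP8Ap3 pmSP8Ap3 29 = true := by decide +kernel

theorem chk_relPSP8Ap3_30 : chkRelP sp8Model DSP8Ap3 pmSP8Ap3 30 = true := by decide +kernel

theorem chk_relPSP8Ap3_31 : chkRelP sp8Model DSP8Ap3 pmSP8Ap3 31 = true := by decide +kernel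

theorem chk_ordPSP8Ap3_0 : chkOrdP sp8Model DSP8Ap3 pmSP8Ap3 0 = true := by decide +kernel

theorem chk_ordPSP8Ap3_1 : chkOrdP sp8Model DSP8Ap3 pmSP8Ap3 1 = true := by decide +kernel

theorem chk_ordPSP8Ap3_2 : chkOrdP sp8Model DSP8Ap3 pmSP8Ap3 2 = true := by decide +kernel

theorem chk_ordPSP8Ap3_3 : chkOrdP sp8Model DSP8Ap3 pmSP8Ap3 3 = true := by decide +kernel

theorem chk_ordPSP8Ap3_4 : chkOrdP sp8Model DSP8Ap3 pmSP8Ap3 4 = true := by decide +kernel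

theorem chk_ordPSP8Ap3_5 : chkOrdP sp8Model DSP8Ap3 pmSP8Ap3 5 = true := by decide +kernel

theorem chk_ordPSP8Ap3_6 : chkOrdP sp8Model DSP8Ap3 pmSP8Ap3 6 = true := by decide +kernel

theorem chk_ordPSP8Ap3_7 : chkOrdP sp8Model DSP8Ap3 pmSP8Ap3 7 = true := by decide +kernel

theorem chk_ordPSP8Ap3_8 : chkOrdP sp8Model DSP8Ap3 pmSP8Ap3 8 = true := by decide +kernel

theorem chk_lwPSP8Ap3_0 : chkLwP sp8Model wsSP8Ap3 pmSP8Ap3 lwSP8Ap3 0 = true := by decide +kernel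

theorem chk_lwPSP8Ap3_1 : chkLwP sp8Model wsSP8Ap3 pmSP8Ap3 lwSP8Ap3 1 = true := by decide +kernel

theorem chk_lwPSP8Ap3_2 : chkLwP sp8Model wsSP8Ap3 pmSP8Ap3 lwSP8Ap3 2 = true := by decide +kernel

theorem chk_lwPSP8Ap3_3 : chkLwP sp8Model wsSP8Ap3 pmSP8Ap3 lwSP8Ap3 3 = true := by decide +kernel

theorem chk_lwPSP8Ap3_4 : chkLwP sp8Model wsSP8Ap3 pmSP8Ap3 lwSP8Ap3 4 = true := by decide +kernel

theorem chk_lwPSP8Ap3_5 : chkLwP sp8Model wsSP8Ap3 pmSP8Ap3 lwSP8Ap3 5 = true := by decide +kernel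

theorem chk_lwPSP8Ap3_6 : chkLwP sp8Model wsSP8Ap3 pmSP8Ap3 lwSP8Ap3 6 = true := by decide +kernel

theorem chk_lwPSP8Ap3_7 : chkLwP sp8Model wsSP8Ap3 pmSP8Ap3 lwSP8Ap3 7 = true := by decide +kernel

theorem chk_lwPSP8Ap3_8 : chkLwP sp8Model wsSP8Ap3 pmSP8Ap3 lwSP8Ap3 8 = true := by decide +kernel

theorem coreSP8Ap3 : CoreFacts sp8Model DSP8Ap3 wsSP8Ap3 pmSP8Ap3 lwSP8Ap3 := by
  apply coreFacts_of_chk
  · rfl
  · intro i hi
    have h' : i < 9 := hi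
    interval_cases i
    · exact chk_tabSP8Ap3_0
    · exact chk_tabSP8Ap3_1
    · exact chk_tabSP8Ap3_2
    · exact chk_tabSP8Ap3_3
    · exact chk_tabSP8Ap3_4
    · exact chk_tabSP8Ap3_5
    · exact chk_tabSP8Ap3_6
    · exact chk_tabSP8Ap3_7
    · exact chk_tabSP8Ap3_8
  · intro r hr
    have h' : r < 32 := hr
    interval_cases r
    · exact chk_relPSP8Ap3_0
    · exact chk_relPSP8Ap3_1
    · exact chk_relPSP8Ap3_2
    · exact chk_relPSP8Ap3_3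
    · exact chk_relPSP8Ap3_4
    · exact chk_relPSP8Ap3_5
    · exact chk_relPSP8Ap3_6
    · exact chk_relPSP8Ap3_7
    · exact chk_relPSP8Ap3_8
    · exact chk_relPSP8Ap3_9
    · exact chk_relPSP8Ap3_10
    · exact chk_relPSP8Ap3_11
    · exact chk_relPSP8Ap3_12
    · exact chk_relPSP8Ap3_13
    · exact chk_relPSP8Ap3_14
    · exact chk_relPSP8Ap3_15
    · exact chk_relPSP8Ap3_16
    · exact chk_relPSP8Ap3_17
    · exact chk_relPSP8Ap3_18
    · exact chk_relPSP8Ap3_19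
    · exact chk_relPSP8Ap3_20
    · exact chk_relPSP8Ap3_21
    · exact chk_relPSP8Ap3_22
    · exact chk_relPSP8Ap3_23
    · exact chk_relPSP8Ap3_24
    · exact chk_relPSP8Ap3_25
    · exact chk_relPSP8Ap3_26
    · exact chk_relPSP8Ap3_27
    · exact chk_relPSP8Ap3_28
    · exact chk_relPSP8Ap3_29
    · exact chk_relPSP8Ap3_30
    · exact chk_relPSP8Ap3_31
  · intro i hi
    have h' : i < 9 := hi
    interval_cases i
    · exact chk_ordPSP8Ap3_0
    · exact chk_ordPSP8Ap3_1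
    · exact chk_ordPSP8Ap3_2
    · exact chk_ordPSP8Ap3_3
    · exact chk_ordPSP8Ap3_4
    · exact chk_ordPSP8Ap3_5
    · exact chk_ordPSP8Ap3_6
    · exact chk_ordPSP8Ap3_7
    · exact chk_ordPSP8Ap3_8
  · intro c hc
    have h' : c < 9 := hc
    interval_cases c
    · exact chk_lwPSP8Ap3_0
    · exact chk_lwPSP8Ap3_1
    · exact chk_lwPSP8Ap3_2
    · exact chk_lwPSP8Ap3_3
    · exact chk_lwPSP8Ap3_4
    · exact chk_lwPSP8Ap3_5
    · exact chk_lwPSP8Ap3_6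
    · exact chk_lwPSP8Ap3_7
    · exact chk_lwPSP8Ap3_8

end Cfsg.Agent.Lib.Helper6.MultD
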