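import Cfsg.Agent.Lib.Helper6.Mult.PM7
import Cfsg.Agent.Lib.Helper6.Mult.Sp8A
import Cfsg.Agent.Lib.Helper6.MultD.SP8Ap3D

set_option autoImplicit false
set_option maxRecDepth 100000

/-! The group `Sp8(2)` on 120 sets, data SP8Ap3: the checks of the action on the sets. -/

namespace Cfsg.Agent.Lib.Helper6.MultD

open Cfsg.Agent.Lib.Helper6.PM Cfsg.Agent.Lib.Helper6.Sp8 Cfsg.Agent.Lib.Helper1

/-- a table recovering the index of a set from its mask modulo 487, when it is unique -/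
noncomputable def invN1SP8Ap3 : ℕ := 0x18bc08f1e3c78f1e3c78f1e3c78f1e0ef85be3c78f1e3c78f057c78f1e3c78f1e3c78f1e3c78f1e3c78f1e3c78f1e3c78f1e3c78f1bfc78f063c789be3c78f1e3c78f1c7c78f1e3c09d9e3c78f1e3778f1e3c06b9e3c78eca7c78f1e3c78f1e3c78f1e3c78f1e3c78f1e0878f1e3c78f1e28f8f1e3c72f1e3af8f10bc784fe3c78f1e3c78f1e3c78f1e3c78f1e3c787be1278f1e1b78f1e3c4ef1e3c78f1e3c77f1e3c78f1e3c78f183c32f1e3c78f133c78f1e3c78f1e3c78f1e2a78f1e3c78f1e3c78f1e3c78f1e3c78f1e3c78f1e3c7809e0120f1e3578f19fc783fe3c73f1e3c78f06fc30f1e10f89fe3c78f1e3c2af1e06f8f1e3c78f1e3c78f1e3c78f1e3c48f1e163935e3c78f16bc78f1e31f8f1e3c78d7e3c78f1e0bf8f1e3c78f1e3c65f1e3c78f1e3c78f1e3c7817e3c19f0c7c78f1e3c78f1e0a78f1e3c78f1e3c78f1e3c78f1e3c78f1e3c78bfe3c78f1e00f8f1e3c78f1e07f8f1e3c787fe3c78f1e3c78bda3c78b7e3c784be0b78f1e3c34f1e3c78f1e3c78f1e03f8f1e1c78f1e0778f1e3c78f1e3c78f1e24f8e1e3c13cde3c78f14fc78f1e3c3bdbe3c1cae47c78f1e2c78f1e3c12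

/-- a table recovering the index of the other sets from their masks modulo 291 -/
noncomputable def invN2SP8Ap3 : ℕ := 0x285e0230000000000000000000004300f800000000520001a800000000011000000020800000000000000000000000002580000000000000000014000000000000000000000000d200000ba02a80000000000000000000000000000000000004602845012800000000004c00000000000000000000000000000000000ac000000000000000006e00000000006101019800000000000000000000000000047000000000000000000000000003a000000000000000000f00000000000880000002b00000000000000591403200000170000000740000000000000018000007800000000000000000000000000000000000000000000180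

noncomputable def invSP8Ap3 (a : ℕ) : ℕ :=
  if (invN1SP8Ap3 >>> (7 * (a % 487))) % 2 ^ 7 = 120 then (invN2SP8Ap3 >>> (7 * (a % 291))) % 2 ^ 7
  else (invN1SP8Ap3 >>> (7 * (a % 487))) % 2 ^ 7

theorem chk_setsSP8Ap3_0 : chkSetsB sp8Model pmSP8Ap3 masksSP8Ap3 DSP8Ap3.m DSP8Ap3.pi 0 = true := by decide +kernel

theorem chk_setsSP8Ap3_1 : chkSetsB sp8Model pmSP8Ap3 masksSP8Ap3 DSP8Ap3.m DSP8Ap3.pi 1 = true := by decide +kernel

theorem chk_setsSP8Ap3_2 : chkSetsB sp8Model pmSP8Ap3 masksSP8Ap3 DSP8Ap3.m DSP8Ap3.pi 2 = true := by decide +kernel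

theorem chk_setsSP8Ap3_3 : chkSetsB sp8Model pmSP8Ap3 masksSP8Ap3 DSP8Ap3.m DSP8Ap3.pi 3 = true := by decide +kernel

theorem chk_setsSP8Ap3_4 : chkSetsB sp8Model pmSP8Ap3 masksSP8Ap3 DSP8Ap3.m DSP8Ap3.pi 4 = true := by decide +kernel

theorem chk_setsSP8Ap3_5 : chkSetsB sp8Model pmSP8Ap3 masksSP8Ap3 DSP8Ap3.m DSP8Ap3.pi 5 = true := by decide +kernel

theorem chk_setsSP8Ap3_6 : chkSetsB sp8Model pmSP8Ap3 masksSP8Ap3 DSP8Ap3.m DSP8Ap3.pi 6 = true := by decide +kernel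

theorem chk_setsSP8Ap3_7 : chkSetsB sp8Model pmSP8Ap3 masksSP8Ap3 DSP8Ap3.m DSP8Ap3.pi 7 = true := by decide +kernel

theorem chk_setsSP8Ap3_8 : chkSetsB sp8Model pmSP8Ap3 masksSP8Ap3 DSP8Ap3.m DSP8Ap3.pi 8 = true := by decide +kernel

theorem chk_setsSP8Ap3 : ∀ i < wsSP8Ap3.length, chkSets sp8Model pmSP8Ap3 masksSP8Ap3 DSP8Ap3.m DSP8Ap3.pi i = true := by
  intro i hi
  apply chkSets_of_B
  have h' : i < 9 := hi
  interval_cases i
  · exact chk_setsSP8Ap3_0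
  · exact chk_setsSP8Ap3_1
  · exact chk_setsSP8Ap3_2
  · exact chk_setsSP8Ap3_3
  · exact chk_setsSP8Ap3_4
  · exact chk_setsSP8Ap3_5
  · exact chk_setsSP8Ap3_6
  · exact chk_setsSP8Ap3_7
  · exact chk_setsSP8Ap3_8

theorem chk_distinctSP8Ap3 : chkDistinct sp8Model masksSP8Ap3 DSP8Ap3.m = true :=
  chkDistinct_of_invB sp8Model masksSP8Ap3 DSP8Ap3.m invSP8Ap3 (by decide +kernel)

end Cfsg.Agent.Lib.Helper6.MultD
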