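import Cfsg.Agent.Lib.Helper6.Mult.PM3
import Cfsg.Agent.Lib.Helper6.Mult.Sp8A
import Cfsg.Agent.Lib.Helper6.MultD.SP8Ap5D

set_option autoImplicit false
set_option maxRecDepth 100000

/-! The group `Sp8(2)` on 120 sets, data SP8Ap5: the checks of the generators. -/

namespace Cfsg.Agent.Lib.Helper6.MultD

open Cfsg.Agent.Lib.Helper6.PM Cfsg.Agent.Lib.Helper6.Sp8 Cfsg.Agent.Lib.Helper1

theorem chk_tabSP8Ap5_0 : chkTab sp8Model wsSP8Ap5 pmSP8Ap5 0 = true := by decide +kernel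

theorem chk_tabSP8Ap5_1 : chkTab sp8Model wsSP8Ap5 pmSP8Ap5 1 = true := by decide +kernel

theorem chk_tabSP8Ap5_2 : chkTab sp8Model wsSP8Ap5 pmSP8Ap5 2 = true := by decide +kernel

theorem chk_tabSP8Ap5_3 : chkTab sp8Model wsSP8Ap5 pmSP8Ap5 3 = true := by decide +kernel

theorem chk_tabSP8Ap5_4 : chkTab sp8Model wsSP8Ap5 pmSP8Ap5 4 = true := by decide +kernel

theorem chk_tabSP8Ap5_5 : chkTab sp8Model wsSP8Ap5 pmSP8Ap5 5 = true := by decide +kernel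

theorem chk_tabSP8Ap5_6 : chkTab sp8Model wsSP8Ap5 pmSP8Ap5 6 = true := by decide +kernel

theorem chk_tabSP8Ap5_7 : chkTab sp8Model wsSP8Ap5 pmSP8Ap5 7 = true := by decide +kernel

theorem chk_tabSP8Ap5_8 : chkTab sp8Model wsSP8Ap5 pmSP8Ap5 8 = true := by decide +kernel

theorem chk_relPSP8Ap5_0 : chkRelP sp8Model DSP8Ap5 pmSP8Ap5 0 = true := by decide +kernel

theorem chk_relPSP8Ap5_1 : chkRelP sp8Model DSP8Ap5 pmSP8Ap5 1 = true := by decide +kernel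

theorem chk_relPSP8Ap5_2 : chkRelP sp8Model DSP8Ap5 pmSP8Ap5 2 = true := by decide +kernel

theorem chk_relPSP8Ap5_3 : chkRelP sp8Model DSP8Ap5 pmSP8Ap5 3 = true := by decide +kernel

theorem chk_relPSP8Ap5_4 : chkRelP sp8Model DSP8Ap5 pmSP8Ap5 4 = true := by decide +kernel

theorem chk_relPSP8Ap5_5 : chkRelP sp8Model DSP8Ap5 pmSP8Ap5 5 = true := by decide +kernel

theorem chk_relPSP8Ap5_6 : chkRelP sp8Model DSP8Ap5 pmSP8Ap5 6 = true := by decide +kernel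

theorem chk_relPSP8Ap5_7 : chkRelP sp8Model DSP8Ap5 pmSP8Ap5 7 = true := by decide +kernel

theorem chk_relPSP8Ap5_8 : chkRelP sp8Model DSP8Ap5 pmSP8Ap5 8 = true := by decide +kernel

theorem chk_relPSP8Ap5_9 : chkRelP sp8Model DSP8Ap5 pmSP8Ap5 9 = true := by decide +kernel

theorem chk_relPSP8Ap5_10 : chkRelP sp8Model DSP8Ap5 pmSP8Ap5 10 = true := by decide +kernel

theorem chk_relPSP8Ap5_11 : chkRelP sp8Model DSP8Ap5 pmSP8Ap5 11 = true := by decide +kernel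

theorem chk_relPSP8Ap5_12 : chkRelP sp8Model DSP8Ap5 pmSP8Ap5 12 = true := by decide +kernel

theorem chk_relPSP8Ap5_13 : chkRelP sp8Model DSP8Ap5 pmSP8Ap5 13 = true := by decide +kernel

theorem chk_relPSP8Ap5_14 : chkRelP sp8Model DSP8Ap5 pmSP8Ap5 14 = true := by decide +kernel

theorem chk_relPSP8Ap5_15 : chkRelP sp8Model DSP8Ap5 pmSP8Ap5 15 = true := by decide +kernel

theorem chk_relPSP8Ap5_16 : chkRelP sp8Model DSP8Ap5 pmSP8Ap5 16 = true := by decide +kernel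

theorem chk_relPSP8Ap5_17 : chkRelP sp8Model DSP8Ap5 pmSP8Ap5 17 = true := by decide +kernel

theorem chk_relPSP8Ap5_18 : chkRelP sp8Model DSP8Ap5 pmSP8Ap5 18 = true := by decide +kernel

theorem chk_relPSP8Ap5_19 : chkRelP sp8Model DSP8Ap5 pmSP8Ap5 19 = true := by decide +kernel

theorem chk_relPSP8Ap5_20 : chkRelP sp8Model DSP8Ap5 pmSP8Ap5 20 = true := by decide +kernel

theorem chk_relPSP8Ap5_21 : chkRelP sp8Model DSP8Ap5 pmSP8Ap5 21 = true := by decide +kernel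

theorem chk_relPSP8Ap5_22 : chkRelP sp8Model DSP8Ap5 pmSP8Ap5 22 = true := by decide +kernel

theorem chk_relPSP8Ap5_23 : chkRelP sp8Model DSP8Ap5 pmSP8Ap5 23 = true := by decide +kernel

theorem chk_relPSP8Ap5_24 : chkRelP sp8Model DSP8Ap5 pmSP8Ap5 24 = true := by decide +kernel

theorem chk_relPSP8Ap5_25 : chkRelP sp8Model DSP8Ap5 pmSP8Ap5 25 = true := by decide +kernel

theorem chk_relPSP8Ap5_26 : chkRelP sp8Model DSP8Ap5 pmSP8Ap5 26 = true := by decide +kernel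

theorem chk_relPSP8Ap5_27 : chkRelP sp8Model DSP8Ap5 pmSP8Ap5 27 = true := by decide +kernel

theorem chk_relPSP8Ap5_28 : chkRelP sp8Model DSP8Ap5 pmSP8Ap5 28 = true := by decide +kernel

theorem chk_relPSP8Ap5_29 : chkRelP sp8Model DSP8Ap5 pmSP8Ap5 29 = true := by decide +kernel

theorem chk_relPSP8Ap5_30 : chkRelP sp8Model DSP8Ap5 pmSP8Ap5 30 = true := by decide +kernel

theorem chk_relPSP8Ap5_31 : chkRelP sp8Model DSP8Ap5 pmSP8Ap5 31 = true := by decide +kernel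

theorem chk_ordPSP8Ap5_0 : chkOrdP sp8Model DSP8Ap5 pmSP8Ap5 0 = true := by decide +kernel

theorem chk_ordPSP8Ap5_1 : chkOrdP sp8Model DSP8Ap5 pmSP8Ap5 1 = true := by decide +kernel

theorem chk_ordPSP8Ap5_2 : chkOrdP sp8Model DSP8Ap5 pmSP8Ap5 2 = true := by decide +kernel

theorem chk_ordPSP8Ap5_3 : chkOrdP sp8Model DSP8Ap5 pmSP8Ap5 3 = true := by decide +kernel

theorem chk_ordPSP8Ap5_4 : chkOrdP sp8Model DSP8Ap5 pmSP8Ap5 4 = true := by decide +kernel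

theorem chk_ordPSP8Ap5_5 : chkOrdP sp8Model DSP8Ap5 pmSP8Ap5 5 = true := by decide +kernel

theorem chk_ordPSP8Ap5_6 : chkOrdP sp8Model DSP8Ap5 pmSP8Ap5 6 = true := by decide +kernel

theorem chk_ordPSP8Ap5_7 : chkOrdP sp8Model DSP8Ap5 pmSP8Ap5 7 = true := by decide +kernel

theorem chk_ordPSP8Ap5_8 : chkOrdP sp8Model DSP8Ap5 pmSP8Ap5 8 = true := by decide +kernel

theorem chk_lwPSP8Ap5_0 : chkLwP sp8Model wsSP8Ap5 pmSP8Ap5 lwSP8Ap5 0 = true := by decide +kernel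

theorem chk_lwPSP8Ap5_1 : chkLwP sp8Model wsSP8Ap5 pmSP8Ap5 lwSP8Ap5 1 = true := by decide +kernel

theorem chk_lwPSP8Ap5_2 : chkLwP sp8Model wsSP8Ap5 pmSP8Ap5 lwSP8Ap5 2 = true := by decide +kernel

theorem chk_lwPSP8Ap5_3 : chkLwP sp8Model wsSP8Ap5 pmSP8Ap5 lwSP8Ap5 3 = true := by decide +kernel

theorem chk_lwPSP8Ap5_4 : chkLwP sp8Model wsSP8Ap5 pmSP8Ap5 lwSP8Ap5 4 = true := by decide +kernel

theorem chk_lwPSP8Ap5_5 : chkLwP sp8Model wsSP8Ap5 pmSP8Ap5 lwSP8Ap5 5 = true := by decide +kernel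

theorem chk_lwPSP8Ap5_6 : chkLwP sp8Model wsSP8Ap5 pmSP8Ap5 lwSP8Ap5 6 = true := by decide +kernel

theorem chk_lwPSP8Ap5_7 : chkLwP sp8Model wsSP8Ap5 pmSP8Ap5 lwSP8Ap5 7 = true := by decide +kernel

theorem chk_lwPSP8Ap5_8 : chkLwP sp8Model wsSP8Ap5 pmSP8Ap5 lwSP8Ap5 8 = true := by decide +kernel

theorem coreSP8Ap5 : CoreFacts sp8Model DSP8Ap5 wsSP8Ap5 pmSP8Ap5 lwSP8Ap5 := by
  apply coreFacts_of_chk
  · rfl
  · intro i hi
    have h' : i < 9 := hi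
    interval_cases i
    · exact chk_tabSP8Ap5_0
    · exact chk_tabSP8Ap5_1
    · exact chk_tabSP8Ap5_2
    · exact chk_tabSP8Ap5_3
    · exact chk_tabSP8Ap5_4
    · exact chk_tabSP8Ap5_5
    · exact chk_tabSP8Ap5_6
    · exact chk_tabSP8Ap5_7
    · exact chk_tabSP8Ap5_8
  · intro r hr
    have h' : r < 32 := hr
    interval_cases r
    · exact chk_relPSP8Ap5_0
    · exact chk_relPSP8Ap5_1
    · exact chk_relPSP8Ap5_2
    · exact chk_relPSP8Ap5_3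
    · exact chk_relPSP8Ap5_4
    · exact chk_relPSP8Ap5_5
    · exact chk_relPSP8Ap5_6
    · exact chk_relPSP8Ap5_7
    · exact chk_relPSP8Ap5_8
    · exact chk_relPSP8Ap5_9
    · exact chk_relPSP8Ap5_10
    · exact chk_relPSP8Ap5_11
    · exact chk_relPSP8Ap5_12
    · exact chk_relPSP8Ap5_13
    · exact chk_relPSP8Ap5_14
    · exact chk_relPSP8Ap5_15
    · exact chk_relPSP8Ap5_16
    · exact chk_relPSP8Ap5_17
    · exact chk_relPSP8Ap5_18
    · exact chk_relPSP8Ap5_19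
    · exact chk_relPSP8Ap5_20
    · exact chk_relPSP8Ap5_21
    · exact chk_relPSP8Ap5_22
    · exact chk_relPSP8Ap5_23
    · exact chk_relPSP8Ap5_24
    · exact chk_relPSP8Ap5_25
    · exact chk_relPSP8Ap5_26
    · exact chk_relPSP8Ap5_27
    · exact chk_relPSP8Ap5_28
    · exact chk_relPSP8Ap5_29
    · exact chk_relPSP8Ap5_30
    · exact chk_relPSP8Ap5_31
  · intro i hi
    have h' : i < 9 := hi
    interval_cases i
    · exact chk_ordPSP8Ap5_0
    · exact chk_ordPSP8Ap5_1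
    · exact chk_ordPSP8Ap5_2
    · exact chk_ordPSP8Ap5_3
    · exact chk_ordPSP8Ap5_4
    · exact chk_ordPSP8Ap5_5
    · exact chk_ordPSP8Ap5_6
    · exact chk_ordPSP8Ap5_7
    · exact chk_ordPSP8Ap5_8
  · intro c hc
    have h' : c < 9 := hc
    interval_cases c
    · exact chk_lwPSP8Ap5_0
    · exact chk_lwPSP8Ap5_1
    · exact chk_lwPSP8Ap5_2
    · exact chk_lwPSP8Ap5_3
    · exact chk_lwPSP8Ap5_4
    · exact chk_lwPSP8Ap5_5
    · exact chk_lwPSP8Ap5_6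
    · exact chk_lwPSP8Ap5_7
    · exact chk_lwPSP8Ap5_8

end Cfsg.Agent.Lib.Helper6.MultD
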