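import Mathlib
import Cfsg.Agent.Lib.Helper6.MultD.SP8Cp2H
import Cfsg.Agent.Lib.Helper6.MultD.SP8Cp2K0_0
import Cfsg.Agent.Lib.Helper6.MultD.SP8Cp2K0_1

set_option autoImplicit false
set_option maxRecDepth 100000
set_option maxHeartbeats 8000000

/-! Certificate SP8Cp2: the checks of the combinations modulo 4 and the full certificate. -/

namespace Cfsg.Agent.Lib.Helper6.MultD

open Cfsg.Agent.Lib.Helper1

open Cfsg.Agent.Lib.Helper6.Mult StemZP

theorem chunksSP8Cp2_0 : ∀ t ∈ trSP8Cp2_0, chunkOK DSP8Cp2 4 t.1 t.2.1 t.2.2 = true := by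
  intro t ht
  simp only [trSP8Cp2_0, List.mem_cons, List.not_mem_nil, or_false] at ht
  rcases ht with rfl | rfl
  · exact chunkSP8Cp2_0_0
  · exact chunkSP8Cp2_0_1

theorem hTSP8Cp2_0 : (trSP8Cp2_0.map fun t => t.2.2).sum < StemZD.X := by decide +kernel

theorem hdigSP8Cp2_0 : ((List.range DSP8Cp2.n).all fun c =>
    (trSP8Cp2_0.map fun t => t.2.1).sum / StemZD.X ^ c % StemZD.X % 4 == if c = 237 then 2 else 0) = true := by
  decide +kernel

theorem chk_relSP8Cp2_0 : chkRel DSP8Cp2 CSP8Cp2.toP (trSP8Cp2_0.map fun t => t.1).flatten 237 1 = true :=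
  chkRel_of_chunks DSP8Cp2 CSP8Cp2.toP trSP8Cp2_0 237 1 chunksSP8Cp2_0 hTSP8Cp2_0 hdigSP8Cp2_0

theorem chk_certSP8Cp2 : chkCertR DSP8Cp2 CSP8Cp2 = true := by
  apply chkCertR_of_main DSP8Cp2 CSP8Cp2 chk_mainSP8Cp2
  show (List.range 1).all _ = true
  have e : List.range 1 = [0] := rfl
  rw [e]
  simp only [List.all_cons, List.all_nil, Bool.and_true, Bool.and_eq_true]
  exact chk_relSP8Cp2_0

end Cfsg.Agent.Lib.Helper6.MultD
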