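import Cfsg.Agent.Lib.Helper6.Mult.SuzA
import Cfsg.Agent.Lib.Helper6.MultD.SUZGM
import Cfsg.Agent.Lib.Helper6.Mult.PM2

set_option autoImplicit false
set_option maxRecDepth 100000

/-! The subgroup `G2(4)` of the presented group `Suz`: the tables of its generators, and its model. -/

namespace Cfsg.Agent.Lib.Helper6.MultD

open Cfsg.Agent.Lib.Helper6.PM Cfsg.Agent.Lib.Helper6.SuzM Cfsg.Agent.Lib.Helper1

theorem chk_tabSUZGM_0 : chkTab suzModel wsSUZGM pmSUZGM 0 = true := by decide +kernel

theorem chk_tabSUZGM_1 : chkTab suzModel wsSUZGM pmSUZGM 1 = true := by decide +kernel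

theorem chk_tabSUZGM_2 : chkTab suzModel wsSUZGM pmSUZGM 2 = true := by decide +kernel

theorem chk_tabSUZGM_3 : chkTab suzModel wsSUZGM pmSUZGM 3 = true := by decide +kernel

theorem chk_tabSUZGM_4 : chkTab suzModel wsSUZGM pmSUZGM 4 = true := by decide +kernel

theorem chk_tabSUZGM_5 : chkTab suzModel wsSUZGM pmSUZGM 5 = true := by decide +kernel

theorem tabSUZGM : TabFacts suzModel wsSUZGM pmSUZGM := by
  apply tabFacts_of_chk
  intro i hi
  have h' : i < 6 := hi
  interval_cases i
  · exact chk_tabSUZGM_0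
  · exact chk_tabSUZGM_1
  · exact chk_tabSUZGM_2
  · exact chk_tabSUZGM_3
  · exact chk_tabSUZGM_4
  · exact chk_tabSUZGM_5

/-- the model of the subgroup `G2(4)` -/
noncomputable def suzG : PModel := sub suzModel wsSUZGM pmSUZGM tabSUZGM

end Cfsg.Agent.Lib.Helper6.MultD
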