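import Cfsg.Agent.Lib.Helper6.Mult.PM3
import Cfsg.Agent.Lib.Helper6.MultD.SUZGML
import Cfsg.Agent.Lib.Helper6.MultD.SUZGp2D

set_option autoImplicit false
set_option maxRecDepth 100000

/-! The subgroup `G2(4)` of the presented group `Suz` on 416 points, data SUZGp2: the checks of the generators. -/

namespace Cfsg.Agent.Lib.Helper6.MultD

open Cfsg.Agent.Lib.Helper6.PM Cfsg.Agent.Lib.Helper6.SuzM Cfsg.Agent.Lib.Helper1

theorem chk_tabSUZGp2_0 : chkTab suzG wsSUZGp2 pmSUZGp2 0 = true := by decide +kernel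

theorem chk_tabSUZGp2_1 : chkTab suzG wsSUZGp2 pmSUZGp2 1 = true := by decide +kernel

theorem chk_tabSUZGp2_2 : chkTab suzG wsSUZGp2 pmSUZGp2 2 = true := by decide +kernel

theorem chk_relPSUZGp2_0 : chkRelP suzG DSUZGp2 pmSUZGp2 0 = true := by decide +kernel

theorem chk_relPSUZGp2_1 : chkRelP suzG DSUZGp2 pmSUZGp2 1 = true := by decide +kernel

theorem chk_relPSUZGp2_2 : chkRelP suzG DSUZGp2 pmSUZGp2 2 = true := by decide +kernel

theorem chk_relPSUZGp2_3 : chkRelP suzG DSUZGp2 pmSUZGp2 3 = true := by decide +kernel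

theorem chk_relPSUZGp2_4 : chkRelP suzG DSUZGp2 pmSUZGp2 4 = true := by decide +kernel

theorem chk_relPSUZGp2_5 : chkRelP suzG DSUZGp2 pmSUZGp2 5 = true := by decide +kernel

theorem chk_relPSUZGp2_6 : chkRelP suzG DSUZGp2 pmSUZGp2 6 = true := by decide +kernel

theorem chk_relPSUZGp2_7 : chkRelP suzG DSUZGp2 pmSUZGp2 7 = true := by decide +kernel

theorem chk_relPSUZGp2_8 : chkRelP suzG DSUZGp2 pmSUZGp2 8 = true := by decide +kernel

theorem chk_relPSUZGp2_9 : chkRelP suzG DSUZGp2 pmSUZGp2 9 = true := by decide +kernel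

theorem chk_relPSUZGp2_10 : chkRelP suzG DSUZGp2 pmSUZGp2 10 = true := by decide +kernel

theorem chk_relPSUZGp2_11 : chkRelP suzG DSUZGp2 pmSUZGp2 11 = true := by decide +kernel

theorem chk_relPSUZGp2_12 : chkRelP suzG DSUZGp2 pmSUZGp2 12 = true := by decide +kernel

theorem chk_relPSUZGp2_13 : chkRelP suzG DSUZGp2 pmSUZGp2 13 = true := by decide +kernel

theorem chk_relPSUZGp2_14 : chkRelP suzG DSUZGp2 pmSUZGp2 14 = true := by decide +kernel

theorem chk_relPSUZGp2_15 : chkRelP suzG DSUZGp2 pmSUZGp2 15 = true := by decide +kernel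

theorem chk_ordPSUZGp2_0 : chkOrdP suzG DSUZGp2 pmSUZGp2 0 = true := by decide +kernel

theorem chk_ordPSUZGp2_1 : chkOrdP suzG DSUZGp2 pmSUZGp2 1 = true := by decide +kernel

theorem chk_ordPSUZGp2_2 : chkOrdP suzG DSUZGp2 pmSUZGp2 2 = true := by decide +kernel

theorem chk_lwPSUZGp2_0 : chkLwP suzG wsSUZGp2 pmSUZGp2 lwSUZGp2 0 = true := by decide +kernel

theorem chk_lwPSUZGp2_1 : chkLwP suzG wsSUZGp2 pmSUZGp2 lwSUZGp2 1 = true := by decide +kernel

theorem chk_lwPSUZGp2_2 : chkLwP suzG wsSUZGp2 pmSUZGp2 lwSUZGp2 2 = true := by decide +kernel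

theorem chk_lwPSUZGp2_3 : chkLwP suzG wsSUZGp2 pmSUZGp2 lwSUZGp2 3 = true := by decide +kernel

theorem chk_lwPSUZGp2_4 : chkLwP suzG wsSUZGp2 pmSUZGp2 lwSUZGp2 4 = true := by decide +kernel

theorem chk_lwPSUZGp2_5 : chkLwP suzG wsSUZGp2 pmSUZGp2 lwSUZGp2 5 = true := by decide +kernel

theorem coreSUZGp2 : CoreFacts suzG DSUZGp2 wsSUZGp2 pmSUZGp2 lwSUZGp2 := by
  apply coreFacts_of_chk
  · rfl
  · intro i hi
    have h' : i < 3 := hi
    interval_cases i
    · exact chk_tabSUZGp2_0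
    · exact chk_tabSUZGp2_1
    · exact chk_tabSUZGp2_2
  · intro r hr
    have h' : r < 16 := hr
    interval_cases r
    · exact chk_relPSUZGp2_0
    · exact chk_relPSUZGp2_1
    · exact chk_relPSUZGp2_2
    · exact chk_relPSUZGp2_3
    · exact chk_relPSUZGp2_4
    · exact chk_relPSUZGp2_5
    · exact chk_relPSUZGp2_6
    · exact chk_relPSUZGp2_7
    · exact chk_relPSUZGp2_8
    · exact chk_relPSUZGp2_9
    · exact chk_relPSUZGp2_10
    · exact chk_relPSUZGp2_11
    · exact chk_relPSUZGp2_12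
    · exact chk_relPSUZGp2_13
    · exact chk_relPSUZGp2_14
    · exact chk_relPSUZGp2_15
  · intro i hi
    have h' : i < 3 := hi
    interval_cases i
    · exact chk_ordPSUZGp2_0
    · exact chk_ordPSUZGp2_1
    · exact chk_ordPSUZGp2_2
  · intro c hc
    have h' : c < 6 := hc
    interval_cases c
    · exact chk_lwPSUZGp2_0
    · exact chk_lwPSUZGp2_1
    · exact chk_lwPSUZGp2_2
    · exact chk_lwPSUZGp2_3
    · exact chk_lwPSUZGp2_4
    · exact chk_lwPSUZGp2_5

theorem chk_ptsSUZGp2 : chkPts suzG DSUZGp2 wsSUZGp2 pmSUZGp2 PLSUZGp2 PLISUZGp2 = true := by decide +kernel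

end Cfsg.Agent.Lib.Helper6.MultD
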