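import Cfsg.Agent.Lib.Helper6.Mult.PM3
import Cfsg.Agent.Lib.Helper6.Mult.SuzA
import Cfsg.Agent.Lib.Helper6.MultD.SUZTp2D

set_option autoImplicit false
set_option maxRecDepth 100000

/-! The presented group `Suz` on 1782 points, data SUZTp2: the checks of the generators. -/

namespace Cfsg.Agent.Lib.Helper6.MultD

open Cfsg.Agent.Lib.Helper6.PM Cfsg.Agent.Lib.Helper6.SuzM Cfsg.Agent.Lib.Helper1

theorem chk_tabSUZTp2_0 : chkTab suzModel wsSUZTp2 pmSUZTp2 0 = true := by decide +kernel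

theorem chk_tabSUZTp2_1 : chkTab suzModel wsSUZTp2 pmSUZTp2 1 = true := by decide +kernel

theorem chk_tabSUZTp2_2 : chkTab suzModel wsSUZTp2 pmSUZTp2 2 = true := by decide +kernel

theorem chk_tabSUZTp2_3 : chkTab suzModel wsSUZTp2 pmSUZTp2 3 = true := by decide +kernel

theorem chk_relPSUZTp2_0 : chkRelP suzModel DSUZTp2 pmSUZTp2 0 = true := by decide +kernel

theorem chk_relPSUZTp2_1 : chkRelP suzModel DSUZTp2 pmSUZTp2 1 = true := by decide +kernel

theorem chk_relPSUZTp2_2 : chkRelP suzModel DSUZTp2 pmSUZTp2 2 = true := by decide +kernel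

theorem chk_relPSUZTp2_3 : chkRelP suzModel DSUZTp2 pmSUZTp2 3 = true := by decide +kernel

theorem chk_relPSUZTp2_4 : chkRelP suzModel DSUZTp2 pmSUZTp2 4 = true := by decide +kernel

theorem chk_relPSUZTp2_5 : chkRelP suzModel DSUZTp2 pmSUZTp2 5 = true := by decide +kernel

theorem chk_relPSUZTp2_6 : chkRelP suzModel DSUZTp2 pmSUZTp2 6 = true := by decide +kernel

theorem chk_relPSUZTp2_7 : chkRelP suzModel DSUZTp2 pmSUZTp2 7 = true := by decide +kernel

theorem chk_relPSUZTp2_8 : chkRelP suzModel DSUZTp2 pmSUZTp2 8 = true := by decide +kernel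

theorem chk_relPSUZTp2_9 : chkRelP suzModel DSUZTp2 pmSUZTp2 9 = true := by decide +kernel

theorem chk_relPSUZTp2_10 : chkRelP suzModel DSUZTp2 pmSUZTp2 10 = true := by decide +kernel

theorem chk_relPSUZTp2_11 : chkRelP suzModel DSUZTp2 pmSUZTp2 11 = true := by decide +kernel

theorem chk_relPSUZTp2_12 : chkRelP suzModel DSUZTp2 pmSUZTp2 12 = true := by decide +kernel

theorem chk_ordPSUZTp2_0 : chkOrdP suzModel DSUZTp2 pmSUZTp2 0 = true := by decide +kernel

theorem chk_ordPSUZTp2_1 : chkOrdP suzModel DSUZTp2 pmSUZTp2 1 = true := by decide +kernel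

theorem chk_ordPSUZTp2_2 : chkOrdP suzModel DSUZTp2 pmSUZTp2 2 = true := by decide +kernel

theorem chk_ordPSUZTp2_3 : chkOrdP suzModel DSUZTp2 pmSUZTp2 3 = true := by decide +kernel

theorem chk_lwPSUZTp2_0 : chkLwP suzModel wsSUZTp2 pmSUZTp2 lwSUZTp2 0 = true := by decide +kernel

theorem chk_lwPSUZTp2_1 : chkLwP suzModel wsSUZTp2 pmSUZTp2 lwSUZTp2 1 = true := by decide +kernel

theorem chk_lwPSUZTp2_2 : chkLwP suzModel wsSUZTp2 pmSUZTp2 lwSUZTp2 2 = true := by decide +kernel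

theorem chk_lwPSUZTp2_3 : chkLwP suzModel wsSUZTp2 pmSUZTp2 lwSUZTp2 3 = true := by decide +kernel

theorem chk_lwPSUZTp2_4 : chkLwP suzModel wsSUZTp2 pmSUZTp2 lwSUZTp2 4 = true := by decide +kernel

theorem chk_lwPSUZTp2_5 : chkLwP suzModel wsSUZTp2 pmSUZTp2 lwSUZTp2 5 = true := by decide +kernel

theorem chk_lwPSUZTp2_6 : chkLwP suzModel wsSUZTp2 pmSUZTp2 lwSUZTp2 6 = true := by decide +kernel

theorem coreSUZTp2 : CoreFacts suzModel DSUZTp2 wsSUZTp2 pmSUZTp2 lwSUZTp2 := by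
  apply coreFacts_of_chk
  · rfl
  · intro i hi
    have h' : i < 4 := hi
    interval_cases i
    · exact chk_tabSUZTp2_0
    · exact chk_tabSUZTp2_1
    · exact chk_tabSUZTp2_2
    · exact chk_tabSUZTp2_3
  · intro r hr
    have h' : r < 13 := hr
    interval_cases r
    · exact chk_relPSUZTp2_0
    · exact chk_relPSUZTp2_1
    · exact chk_relPSUZTp2_2
    · exact chk_relPSUZTp2_3
    · exact chk_relPSUZTp2_4
    · exact chk_relPSUZTp2_5
    · exact chk_relPSUZTp2_6
    · exact chk_relPSUZTp2_7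
    · exact chk_relPSUZTp2_8
    · exact chk_relPSUZTp2_9
    · exact chk_relPSUZTp2_10
    · exact chk_relPSUZTp2_11
    · exact chk_relPSUZTp2_12
  · intro i hi
    have h' : i < 4 := hi
    interval_cases i
    · exact chk_ordPSUZTp2_0
    · exact chk_ordPSUZTp2_1
    · exact chk_ordPSUZTp2_2
    · exact chk_ordPSUZTp2_3
  · intro c hc
    have h' : c < 7 := hc
    interval_cases c
    · exact chk_lwPSUZTp2_0
    · exact chk_lwPSUZTp2_1
    · exact chk_lwPSUZTp2_2
    · exact chk_lwPSUZTp2_3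
    · exact chk_lwPSUZTp2_4
    · exact chk_lwPSUZTp2_5
    · exact chk_lwPSUZTp2_6

theorem chk_ptsSUZTp2 : chkPts suzModel DSUZTp2 wsSUZTp2 pmSUZTp2 PLSUZTp2 PLISUZTp2 = true := by decide +kernel

end Cfsg.Agent.Lib.Helper6.MultD
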