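import Cfsg.Agent.Lib.Helper6.MultD.SUZGML
import Cfsg.Agent.Lib.Helper6.MultD.SUZTp2D
import Cfsg.Agent.Lib.Helper6.MultD.SUZTp3D
import Cfsg.Agent.Lib.Helper6.MultD.SUZTp5D
import Cfsg.Agent.Lib.Helper6.MultD.SUZGp2D
import Cfsg.Agent.Lib.Helper6.MultD.SUZGp3D
import Cfsg.Agent.Lib.Helper6.MultD.SUZGp5D
import Cfsg.Agent.Lib.Helper6.WP9
import Cfsg.Agent.Lib.Helper6.TCP.J2

set_option autoImplicit false
set_option maxRecDepth 100000

/-! The subgroups `G2(4)` and `J2` of the presented group `Suz`: miscellaneous checks. -/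

namespace Cfsg.Agent.Lib.Helper6.MultD

open Cfsg.Agent.Lib.Helper6.PM Cfsg.Agent.Lib.Helper6.SuzM Cfsg.Agent.Lib.Helper1

open Cfsg.Agent.Lib.Helper6.TC

/-- the generators of the subgroup `G2(4)` fix the first point -/
theorem fixSUZGM : ∀ i < 6, pmSUZGM i 0 = 0 := by decide +kernel

/-- the first five generators fix the point 995 -/
theorem fix995SUZGM : ∀ i < 5, pmSUZGM i 995 = 995 := by decide +kernel

theorem PL_zeroSUZT : PLSUZTp2 0 = 0 ∧ PLSUZTp3 0 = 0 ∧ PLSUZTp5 0 = 0 := by decide +kernel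

theorem PL_zeroSUZG : PLSUZGp2 0 = 995 ∧ PLSUZGp3 0 = 995 ∧ PLSUZGp5 0 = 995 := by decide +kernel

/-- the relators of `J2` hold for the first five generators -/
theorem chk_j2rel : (Cfsg.Agent.Lib.Helper6.TCP.J2.base.all fun b => (List.range 1782).all fun q =>
    wappS pmSUZGM b q == q) = true := by decide +kernel

/-- the first generator moves a point -/
theorem chk_move : pmSUZGM 0 2 ≠ 2 := by decide +kernel

/-- the first two generators do not commute -/
theorem chk_noncomm : wappS pmSUZGM [0, 1] 1 ≠ wappS pmSUZGM [1, 0] 1 := by decide +kernel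

/-- the sixth generator is conjugate to the second one -/
theorem chk_conj : ((List.range 1782).all fun q =>
    wappS pmSUZGM [5] q == wappS pmSUZGM [1, 5, 1, 5, 1] q) = true := by decide +kernel

theorem chk_inv15 : ((List.range 1782).all fun q =>
    wappS pmSUZGM [1, 5, 5, 1] q == q) = true := by decide +kernel

end Cfsg.Agent.Lib.Helper6.MultD
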