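import Cfsg.Agent.Lib.Helper6.Mult.PM3
import Cfsg.Agent.Lib.Helper6.MultD.SUZGML
import Cfsg.Agent.Lib.Helper6.MultD.SUZGp3D

set_option autoImplicit false
set_option maxRecDepth 100000

/-! The subgroup `G2(4)` of the presented group `Suz` on 416 points, data SUZGp3: the checks of the generators. -/

namespace Cfsg.Agent.Lib.Helper6.MultD

open Cfsg.Agent.Lib.Helper6.PM Cfsg.Agent.Lib.Helper6.SuzM Cfsg.Agent.Lib.Helper1

theorem chk_tabSUZGp3_0 : chkTab suzG wsSUZGp3 pmSUZGp3 0 = true := by decide +kernel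

theorem chk_tabSUZGp3_1 : chkTab suzG wsSUZGp3 pmSUZGp3 1 = true := by decide +kernel

theorem chk_tabSUZGp3_2 : chkTab suzG wsSUZGp3 pmSUZGp3 2 = true := by decide +kernel

theorem chk_relPSUZGp3_0 : chkRelP suzG DSUZGp3 pmSUZGp3 0 = true := by decide +kernel

theorem chk_relPSUZGp3_1 : chkRelP suzG DSUZGp3 pmSUZGp3 1 = true := by decide +kernel

theorem chk_relPSUZGp3_2 : chkRelP suzG DSUZGp3 pmSUZGp3 2 = true := by decide +kernel

theorem chk_relPSUZGp3_3 : chkRelP suzG DSUZGp3 pmSUZGp3 3 = true := by decide +kernel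

theorem chk_relPSUZGp3_4 : chkRelP suzG DSUZGp3 pmSUZGp3 4 = true := by decide +kernel

theorem chk_relPSUZGp3_5 : chkRelP suzG DSUZGp3 pmSUZGp3 5 = true := by decide +kernel

theorem chk_ordPSUZGp3_0 : chkOrdP suzG DSUZGp3 pmSUZGp3 0 = true := by decide +kernel

theorem chk_ordPSUZGp3_1 : chkOrdP suzG DSUZGp3 pmSUZGp3 1 = true := by decide +kernel

theorem chk_ordPSUZGp3_2 : chkOrdP suzG DSUZGp3 pmSUZGp3 2 = true := by decide +kernel

theorem chk_lwPSUZGp3_0 : chkLwP suzG wsSUZGp3 pmSUZGp3 lwSUZGp3 0 = true := by decide +kernel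

theorem chk_lwPSUZGp3_1 : chkLwP suzG wsSUZGp3 pmSUZGp3 lwSUZGp3 1 = true := by decide +kernel

theorem chk_lwPSUZGp3_2 : chkLwP suzG wsSUZGp3 pmSUZGp3 lwSUZGp3 2 = true := by decide +kernel

theorem chk_lwPSUZGp3_3 : chkLwP suzG wsSUZGp3 pmSUZGp3 lwSUZGp3 3 = true := by decide +kernel

theorem chk_lwPSUZGp3_4 : chkLwP suzG wsSUZGp3 pmSUZGp3 lwSUZGp3 4 = true := by decide +kernel

theorem chk_lwPSUZGp3_5 : chkLwP suzG wsSUZGp3 pmSUZGp3 lwSUZGp3 5 = true := by decide +kernel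

theorem coreSUZGp3 : CoreFacts suzG DSUZGp3 wsSUZGp3 pmSUZGp3 lwSUZGp3 := by
  apply coreFacts_of_chk
  · rfl
  · intro i hi
    have h' : i < 3 := hi
    interval_cases i
    · exact chk_tabSUZGp3_0
    · exact chk_tabSUZGp3_1
    · exact chk_tabSUZGp3_2
  · intro r hr
    have h' : r < 6 := hr
    interval_cases r
    · exact chk_relPSUZGp3_0
    · exact chk_relPSUZGp3_1
    · exact chk_relPSUZGp3_2
    · exact chk_relPSUZGp3_3
    · exact chk_relPSUZGp3_4
    · exact chk_relPSUZGp3_5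
  · intro i hi
    have h' : i < 3 := hi
    interval_cases i
    · exact chk_ordPSUZGp3_0
    · exact chk_ordPSUZGp3_1
    · exact chk_ordPSUZGp3_2
  · intro c hc
    have h' : c < 6 := hc
    interval_cases c
    · exact chk_lwPSUZGp3_0
    · exact chk_lwPSUZGp3_1
    · exact chk_lwPSUZGp3_2
    · exact chk_lwPSUZGp3_3
    · exact chk_lwPSUZGp3_4
    · exact chk_lwPSUZGp3_5

theorem chk_ptsSUZGp3 : chkPts suzG DSUZGp3 wsSUZGp3 pmSUZGp3 PLSUZGp3 PLISUZGp3 = true := by decide +kernel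

end Cfsg.Agent.Lib.Helper6.MultD
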