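import Cfsg.Agent.Lib.Helper6.Mult.PM3
import Cfsg.Agent.Lib.Helper6.MultD.SUZGML
import Cfsg.Agent.Lib.Helper6.MultD.SUZGp5D

set_option autoImplicit false
set_option maxRecDepth 100000

/-! The subgroup `G2(4)` of the presented group `Suz` on 416 points, data SUZGp5: the checks of the generators. -/

namespace Cfsg.Agent.Lib.Helper6.MultD

open Cfsg.Agent.Lib.Helper6.PM Cfsg.Agent.Lib.Helper6.SuzM Cfsg.Agent.Lib.Helper1

theorem chk_tabSUZGp5_0 : chkTab suzG wsSUZGp5 pmSUZGp5 0 = true := by decide +kernel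

theorem chk_tabSUZGp5_1 : chkTab suzG wsSUZGp5 pmSUZGp5 1 = true := by decide +kernel

theorem chk_tabSUZGp5_2 : chkTab suzG wsSUZGp5 pmSUZGp5 2 = true := by decide +kernel

theorem chk_relPSUZGp5_0 : chkRelP suzG DSUZGp5 pmSUZGp5 0 = true := by decide +kernel

theorem chk_relPSUZGp5_1 : chkRelP suzG DSUZGp5 pmSUZGp5 1 = true := by decide +kernel

theorem chk_relPSUZGp5_2 : chkRelP suzG DSUZGp5 pmSUZGp5 2 = true := by decide +kernel

theorem chk_relPSUZGp5_3 : chkRelP suzG DSUZGp5 pmSUZGp5 3 = true := by decide +kernel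

theorem chk_relPSUZGp5_4 : chkRelP suzG DSUZGp5 pmSUZGp5 4 = true := by decide +kernel

theorem chk_relPSUZGp5_5 : chkRelP suzG DSUZGp5 pmSUZGp5 5 = true := by decide +kernel

theorem chk_ordPSUZGp5_0 : chkOrdP suzG DSUZGp5 pmSUZGp5 0 = true := by decide +kernel

theorem chk_ordPSUZGp5_1 : chkOrdP suzG DSUZGp5 pmSUZGp5 1 = true := by decide +kernel

theorem chk_ordPSUZGp5_2 : chkOrdP suzG DSUZGp5 pmSUZGp5 2 = true := by decide +kernel

theorem chk_lwPSUZGp5_0 : chkLwP suzG wsSUZGp5 pmSUZGp5 lwSUZGp5 0 = true := by decide +kernel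

theorem chk_lwPSUZGp5_1 : chkLwP suzG wsSUZGp5 pmSUZGp5 lwSUZGp5 1 = true := by decide +kernel

theorem chk_lwPSUZGp5_2 : chkLwP suzG wsSUZGp5 pmSUZGp5 lwSUZGp5 2 = true := by decide +kernel

theorem chk_lwPSUZGp5_3 : chkLwP suzG wsSUZGp5 pmSUZGp5 lwSUZGp5 3 = true := by decide +kernel

theorem chk_lwPSUZGp5_4 : chkLwP suzG wsSUZGp5 pmSUZGp5 lwSUZGp5 4 = true := by decide +kernel

theorem chk_lwPSUZGp5_5 : chkLwP suzG wsSUZGp5 pmSUZGp5 lwSUZGp5 5 = true := by decide +kernel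

theorem coreSUZGp5 : CoreFacts suzG DSUZGp5 wsSUZGp5 pmSUZGp5 lwSUZGp5 := by
  apply coreFacts_of_chk
  · rfl
  · intro i hi
    have h' : i < 3 := hi
    interval_cases i
    · exact chk_tabSUZGp5_0
    · exact chk_tabSUZGp5_1
    · exact chk_tabSUZGp5_2
  · intro r hr
    have h' : r < 6 := hr
    interval_cases r
    · exact chk_relPSUZGp5_0
    · exact chk_relPSUZGp5_1
    · exact chk_relPSUZGp5_2
    · exact chk_relPSUZGp5_3
    · exact chk_relPSUZGp5_4
    · exact chk_relPSUZGp5_5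
  · intro i hi
    have h' : i < 3 := hi
    interval_cases i
    · exact chk_ordPSUZGp5_0
    · exact chk_ordPSUZGp5_1
    · exact chk_ordPSUZGp5_2
  · intro c hc
    have h' : c < 6 := hc
    interval_cases c
    · exact chk_lwPSUZGp5_0
    · exact chk_lwPSUZGp5_1
    · exact chk_lwPSUZGp5_2
    · exact chk_lwPSUZGp5_3
    · exact chk_lwPSUZGp5_4
    · exact chk_lwPSUZGp5_5

theorem chk_ptsSUZGp5 : chkPts suzG DSUZGp5 wsSUZGp5 pmSUZGp5 PLSUZGp5 PLISUZGp5 = true := by decide +kernel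

end Cfsg.Agent.Lib.Helper6.MultD
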