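import Mathlib
import Cfsg.Agent.Lib.Helper6.MultD.SUZTp3H
import Cfsg.Agent.Lib.Helper6.MultD.SUZTp3K0
import Cfsg.Agent.Lib.Helper6.MultD.SUZTp3K1
import Cfsg.Agent.Lib.Helper6.MultD.SUZTp3K2
import Cfsg.Agent.Lib.Helper6.MultD.SUZTp3K3
import Cfsg.Agent.Lib.Helper6.MultD.SUZTp3K4
import Cfsg.Agent.Lib.Helper6.MultD.SUZTp3K5
import Cfsg.Agent.Lib.Helper6.MultD.SUZTp3K6
import Cfsg.Agent.Lib.Helper6.MultD.SUZTp3K7

set_option autoImplicit false
set_option maxRecDepth 100000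
set_option maxHeartbeats 8000000

/-! Certificate SUZTp3: the check of the combination modulo 9 and the full certificate. -/

namespace Cfsg.Agent.Lib.Helper6.MultD

open Cfsg.Agent.Lib.Helper1

open Cfsg.Agent.Lib.Helper6.Mult StemZP

theorem chunksSUZTp3 : ∀ t ∈ trSUZTp3, chunkOK DSUZTp3 9 t.1 t.2.1 t.2.2 = true := by
  intro t ht
  simp only [trSUZTp3, List.mem_cons, List.not_mem_nil, or_false] at ht
  rcases ht with rfl | rfl | rfl | rfl | rfl | rfl | rfl | rfl
  · exact chunkSUZTp3_0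
  · exact chunkSUZTp3_1
  · exact chunkSUZTp3_2
  · exact chunkSUZTp3_3
  · exact chunkSUZTp3_4
  · exact chunkSUZTp3_5
  · exact chunkSUZTp3_6
  · exact chunkSUZTp3_7

theorem hTSUZTp3 : (trSUZTp3.map fun t => t.2.2).sum < StemZD.X := by decide +kernel

theorem hdigSUZTp3 : ((List.range DSUZTp3.n).all fun c =>
    (trSUZTp3.map fun t => t.2.1).sum / StemZD.X ^ c % StemZD.X % 9 == if c = 7120 then 3 else 0) = true := by
  decide +kernel

theorem chk_relSUZTp3 : chkRel DSUZTp3 CSUZTp3.toP (trSUZTp3.map fun t => t.1).flatten 7120 1 = true :=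
  chkRel_of_chunks DSUZTp3 CSUZTp3.toP trSUZTp3 7120 1 chunksSUZTp3 hTSUZTp3 hdigSUZTp3

theorem chk_certSUZTp3 : chkCertR DSUZTp3 CSUZTp3 = true := by
  apply chkCertR_of_main DSUZTp3 CSUZTp3 chk_mainSUZTp3
  show (List.range 1).all _ = true
  simp only [List.range_one, List.all_cons, List.all_nil, Bool.and_true]
  exact chk_relSUZTp3

end Cfsg.Agent.Lib.Helper6.MultD
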