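import Cfsg.Agent.Lib.Helper6.Mult.PM3
import Cfsg.Agent.Lib.Helper6.Mult.SuzA
import Cfsg.Agent.Lib.Helper6.MultD.SUZTp3D

set_option autoImplicit false
set_option maxRecDepth 100000

/-! The presented group `Suz` on 1782 points, data SUZTp3: the checks of the generators. -/

namespace Cfsg.Agent.Lib.Helper6.MultD

open Cfsg.Agent.Lib.Helper6.PM Cfsg.Agent.Lib.Helper6.SuzM Cfsg.Agent.Lib.Helper1

theorem chk_tabSUZTp3_0 : chkTab suzModel wsSUZTp3 pmSUZTp3 0 = true := by decide +kernel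

theorem chk_tabSUZTp3_1 : chkTab suzModel wsSUZTp3 pmSUZTp3 1 = true := by decide +kernel

theorem chk_tabSUZTp3_2 : chkTab suzModel wsSUZTp3 pmSUZTp3 2 = true := by decide +kernel

theorem chk_tabSUZTp3_3 : chkTab suzModel wsSUZTp3 pmSUZTp3 3 = true := by decide +kernel

theorem chk_relPSUZTp3_0 : chkRelP suzModel DSUZTp3 pmSUZTp3 0 = true := by decide +kernel

theorem chk_relPSUZTp3_1 : chkRelP suzModel DSUZTp3 pmSUZTp3 1 = true := by decide +kernel

theorem chk_relPSUZTp3_2 : chkRelP suzModel DSUZTp3 pmSUZTp3 2 = true := by decide +kernel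

theorem chk_relPSUZTp3_3 : chkRelP suzModel DSUZTp3 pmSUZTp3 3 = true := by decide +kernel

theorem chk_relPSUZTp3_4 : chkRelP suzModel DSUZTp3 pmSUZTp3 4 = true := by decide +kernel

theorem chk_relPSUZTp3_5 : chkRelP suzModel DSUZTp3 pmSUZTp3 5 = true := by decide +kernel

theorem chk_relPSUZTp3_6 : chkRelP suzModel DSUZTp3 pmSUZTp3 6 = true := by decide +kernel

theorem chk_relPSUZTp3_7 : chkRelP suzModel DSUZTp3 pmSUZTp3 7 = true := by decide +kernel

theorem chk_relPSUZTp3_8 : chkRelP suzModel DSUZTp3 pmSUZTp3 8 = true := by decide +kernel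

theorem chk_relPSUZTp3_9 : chkRelP suzModel DSUZTp3 pmSUZTp3 9 = true := by decide +kernel

theorem chk_relPSUZTp3_10 : chkRelP suzModel DSUZTp3 pmSUZTp3 10 = true := by decide +kernel

theorem chk_relPSUZTp3_11 : chkRelP suzModel DSUZTp3 pmSUZTp3 11 = true := by decide +kernel

theorem chk_relPSUZTp3_12 : chkRelP suzModel DSUZTp3 pmSUZTp3 12 = true := by decide +kernel

theorem chk_relPSUZTp3_13 : chkRelP suzModel DSUZTp3 pmSUZTp3 13 = true := by decide +kernel

theorem chk_relPSUZTp3_14 : chkRelP suzModel DSUZTp3 pmSUZTp3 14 = true := by decide +kernel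

theorem chk_ordPSUZTp3_0 : chkOrdP suzModel DSUZTp3 pmSUZTp3 0 = true := by decide +kernel

theorem chk_ordPSUZTp3_1 : chkOrdP suzModel DSUZTp3 pmSUZTp3 1 = true := by decide +kernel

theorem chk_ordPSUZTp3_2 : chkOrdP suzModel DSUZTp3 pmSUZTp3 2 = true := by decide +kernel

theorem chk_ordPSUZTp3_3 : chkOrdP suzModel DSUZTp3 pmSUZTp3 3 = true := by decide +kernel

theorem chk_lwPSUZTp3_0 : chkLwP suzModel wsSUZTp3 pmSUZTp3 lwSUZTp3 0 = true := by decide +kernel

theorem chk_lwPSUZTp3_1 : chkLwP suzModel wsSUZTp3 pmSUZTp3 lwSUZTp3 1 = true := by decide +kernel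

theorem chk_lwPSUZTp3_2 : chkLwP suzModel wsSUZTp3 pmSUZTp3 lwSUZTp3 2 = true := by decide +kernel

theorem chk_lwPSUZTp3_3 : chkLwP suzModel wsSUZTp3 pmSUZTp3 lwSUZTp3 3 = true := by decide +kernel

theorem chk_lwPSUZTp3_4 : chkLwP suzModel wsSUZTp3 pmSUZTp3 lwSUZTp3 4 = true := by decide +kernel

theorem chk_lwPSUZTp3_5 : chkLwP suzModel wsSUZTp3 pmSUZTp3 lwSUZTp3 5 = true := by decide +kernel

theorem chk_lwPSUZTp3_6 : chkLwP suzModel wsSUZTp3 pmSUZTp3 lwSUZTp3 6 = true := by decide +kernel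

theorem coreSUZTp3 : CoreFacts suzModel DSUZTp3 wsSUZTp3 pmSUZTp3 lwSUZTp3 := by
  apply coreFacts_of_chk
  · rfl
  · intro i hi
    have h' : i < 4 := hi
    interval_cases i
    · exact chk_tabSUZTp3_0
    · exact chk_tabSUZTp3_1
    · exact chk_tabSUZTp3_2
    · exact chk_tabSUZTp3_3
  · intro r hr
    have h' : r < 15 := hr
    interval_cases r
    · exact chk_relPSUZTp3_0
    · exact chk_relPSUZTp3_1
    · exact chk_relPSUZTp3_2
    · exact chk_relPSUZTp3_3
    · exact chk_relPSUZTp3_4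
    · exact chk_relPSUZTp3_5
    · exact chk_relPSUZTp3_6
    · exact chk_relPSUZTp3_7
    · exact chk_relPSUZTp3_8
    · exact chk_relPSUZTp3_9
    · exact chk_relPSUZTp3_10
    · exact chk_relPSUZTp3_11
    · exact chk_relPSUZTp3_12
    · exact chk_relPSUZTp3_13
    · exact chk_relPSUZTp3_14
  · intro i hi
    have h' : i < 4 := hi
    interval_cases i
    · exact chk_ordPSUZTp3_0
    · exact chk_ordPSUZTp3_1
    · exact chk_ordPSUZTp3_2
    · exact chk_ordPSUZTp3_3
  · intro c hc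
    have h' : c < 7 := hc
    interval_cases c
    · exact chk_lwPSUZTp3_0
    · exact chk_lwPSUZTp3_1
    · exact chk_lwPSUZTp3_2
    · exact chk_lwPSUZTp3_3
    · exact chk_lwPSUZTp3_4
    · exact chk_lwPSUZTp3_5
    · exact chk_lwPSUZTp3_6

theorem chk_ptsSUZTp3 : chkPts suzModel DSUZTp3 wsSUZTp3 pmSUZTp3 PLSUZTp3 PLISUZTp3 = true := by decide +kernel

end Cfsg.Agent.Lib.Helper6.MultD
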