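import Cfsg.Agent.Lib.Helper6.Mult.PM3
import Cfsg.Agent.Lib.Helper6.Mult.SuzA
import Cfsg.Agent.Lib.Helper6.MultD.SUZTp5D

set_option autoImplicit false
set_option maxRecDepth 100000

/-! The presented group `Suz` on 1782 points, data SUZTp5: the checks of the generators. -/

namespace Cfsg.Agent.Lib.Helper6.MultD

open Cfsg.Agent.Lib.Helper6.PM Cfsg.Agent.Lib.Helper6.SuzM Cfsg.Agent.Lib.Helper1

theorem chk_tabSUZTp5_0 : chkTab suzModel wsSUZTp5 pmSUZTp5 0 = true := by decide +kernel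

theorem chk_tabSUZTp5_1 : chkTab suzModel wsSUZTp5 pmSUZTp5 1 = true := by decide +kernel

theorem chk_tabSUZTp5_2 : chkTab suzModel wsSUZTp5 pmSUZTp5 2 = true := by decide +kernel

theorem chk_tabSUZTp5_3 : chkTab suzModel wsSUZTp5 pmSUZTp5 3 = true := by decide +kernel

theorem chk_relPSUZTp5_0 : chkRelP suzModel DSUZTp5 pmSUZTp5 0 = true := by decide +kernel

theorem chk_relPSUZTp5_1 : chkRelP suzModel DSUZTp5 pmSUZTp5 1 = true := by decide +kernel

theorem chk_relPSUZTp5_2 : chkRelP suzModel DSUZTp5 pmSUZTp5 2 = true := by decide +kernel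

theorem chk_relPSUZTp5_3 : chkRelP suzModel DSUZTp5 pmSUZTp5 3 = true := by decide +kernel

theorem chk_relPSUZTp5_4 : chkRelP suzModel DSUZTp5 pmSUZTp5 4 = true := by decide +kernel

theorem chk_relPSUZTp5_5 : chkRelP suzModel DSUZTp5 pmSUZTp5 5 = true := by decide +kernel

theorem chk_relPSUZTp5_6 : chkRelP suzModel DSUZTp5 pmSUZTp5 6 = true := by decide +kernel

theorem chk_relPSUZTp5_7 : chkRelP suzModel DSUZTp5 pmSUZTp5 7 = true := by decide +kernel

theorem chk_relPSUZTp5_8 : chkRelP suzModel DSUZTp5 pmSUZTp5 8 = true := by decide +kernel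

theorem chk_relPSUZTp5_9 : chkRelP suzModel DSUZTp5 pmSUZTp5 9 = true := by decide +kernel

theorem chk_relPSUZTp5_10 : chkRelP suzModel DSUZTp5 pmSUZTp5 10 = true := by decide +kernel

theorem chk_relPSUZTp5_11 : chkRelP suzModel DSUZTp5 pmSUZTp5 11 = true := by decide +kernel

theorem chk_relPSUZTp5_12 : chkRelP suzModel DSUZTp5 pmSUZTp5 12 = true := by decide +kernel

theorem chk_relPSUZTp5_13 : chkRelP suzModel DSUZTp5 pmSUZTp5 13 = true := by decide +kernel

theorem chk_relPSUZTp5_14 : chkRelP suzModel DSUZTp5 pmSUZTp5 14 = true := by decide +kernel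

theorem chk_ordPSUZTp5_0 : chkOrdP suzModel DSUZTp5 pmSUZTp5 0 = true := by decide +kernel

theorem chk_ordPSUZTp5_1 : chkOrdP suzModel DSUZTp5 pmSUZTp5 1 = true := by decide +kernel

theorem chk_ordPSUZTp5_2 : chkOrdP suzModel DSUZTp5 pmSUZTp5 2 = true := by decide +kernel

theorem chk_ordPSUZTp5_3 : chkOrdP suzModel DSUZTp5 pmSUZTp5 3 = true := by decide +kernel

theorem chk_lwPSUZTp5_0 : chkLwP suzModel wsSUZTp5 pmSUZTp5 lwSUZTp5 0 = true := by decide +kernel

theorem chk_lwPSUZTp5_1 : chkLwP suzModel wsSUZTp5 pmSUZTp5 lwSUZTp5 1 = true := by decide +kernel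

theorem chk_lwPSUZTp5_2 : chkLwP suzModel wsSUZTp5 pmSUZTp5 lwSUZTp5 2 = true := by decide +kernel

theorem chk_lwPSUZTp5_3 : chkLwP suzModel wsSUZTp5 pmSUZTp5 lwSUZTp5 3 = true := by decide +kernel

theorem chk_lwPSUZTp5_4 : chkLwP suzModel wsSUZTp5 pmSUZTp5 lwSUZTp5 4 = true := by decide +kernel

theorem chk_lwPSUZTp5_5 : chkLwP suzModel wsSUZTp5 pmSUZTp5 lwSUZTp5 5 = true := by decide +kernel

theorem chk_lwPSUZTp5_6 : chkLwP suzModel wsSUZTp5 pmSUZTp5 lwSUZTp5 6 = true := by decide +kernel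

theorem coreSUZTp5 : CoreFacts suzModel DSUZTp5 wsSUZTp5 pmSUZTp5 lwSUZTp5 := by
  apply coreFacts_of_chk
  · rfl
  · intro i hi
    have h' : i < 4 := hi
    interval_cases i
    · exact chk_tabSUZTp5_0
    · exact chk_tabSUZTp5_1
    · exact chk_tabSUZTp5_2
    · exact chk_tabSUZTp5_3
  · intro r hr
    have h' : r < 15 := hr
    interval_cases r
    · exact chk_relPSUZTp5_0
    · exact chk_relPSUZTp5_1
    · exact chk_relPSUZTp5_2
    · exact chk_relPSUZTp5_3
    · exact chk_relPSUZTp5_4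
    · exact chk_relPSUZTp5_5
    · exact chk_relPSUZTp5_6
    · exact chk_relPSUZTp5_7
    · exact chk_relPSUZTp5_8
    · exact chk_relPSUZTp5_9
    · exact chk_relPSUZTp5_10
    · exact chk_relPSUZTp5_11
    · exact chk_relPSUZTp5_12
    · exact chk_relPSUZTp5_13
    · exact chk_relPSUZTp5_14
  · intro i hi
    have h' : i < 4 := hi
    interval_cases i
    · exact chk_ordPSUZTp5_0
    · exact chk_ordPSUZTp5_1
    · exact chk_ordPSUZTp5_2
    · exact chk_ordPSUZTp5_3
  · intro c hc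
    have h' : c < 7 := hc
    interval_cases c
    · exact chk_lwPSUZTp5_0
    · exact chk_lwPSUZTp5_1
    · exact chk_lwPSUZTp5_2
    · exact chk_lwPSUZTp5_3
    · exact chk_lwPSUZTp5_4
    · exact chk_lwPSUZTp5_5
    · exact chk_lwPSUZTp5_6

theorem chk_ptsSUZTp5 : chkPts suzModel DSUZTp5 wsSUZTp5 pmSUZTp5 PLSUZTp5 PLISUZTp5 = true := by decide +kernel

end Cfsg.Agent.Lib.Helper6.MultD
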