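import Cfsg.Agent.Lib.Helper6.Mult.PM3
import Cfsg.Agent.Lib.Helper6.Mult.U62A
import Cfsg.Agent.Lib.Helper6.MultD.U62Ap2D

set_option autoImplicit false
set_option maxRecDepth 100000

/-! The presented group `U62` on 672 sets, data U62Ap2: the checks of the generators. -/

namespace Cfsg.Agent.Lib.Helper6.MultD

open Cfsg.Agent.Lib.Helper6.PM Cfsg.Agent.Lib.Helper6.U62M Cfsg.Agent.Lib.Helper1

theorem chk_tabU62Ap2_0 : chkTab u62Model wsU62Ap2 pmU62Ap2 0 = true := by decide +kernel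

theorem chk_tabU62Ap2_1 : chkTab u62Model wsU62Ap2 pmU62Ap2 1 = true := by decide +kernel

theorem chk_relPU62Ap2_0 : chkRelP u62Model DU62Ap2 pmU62Ap2 0 = true := by decide +kernel

theorem chk_relPU62Ap2_1 : chkRelP u62Model DU62Ap2 pmU62Ap2 1 = true := by decide +kernel

theorem chk_relPU62Ap2_2 : chkRelP u62Model DU62Ap2 pmU62Ap2 2 = true := by decide +kernel

theorem chk_relPU62Ap2_3 : chkRelP u62Model DU62Ap2 pmU62Ap2 3 = true := by decide +kernel

theorem chk_relPU62Ap2_4 : chkRelP u62Model DU62Ap2 pmU62Ap2 4 = true := by decide +kernel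

theorem chk_relPU62Ap2_5 : chkRelP u62Model DU62Ap2 pmU62Ap2 5 = true := by decide +kernel

theorem chk_relPU62Ap2_6 : chkRelP u62Model DU62Ap2 pmU62Ap2 6 = true := by decide +kernel

theorem chk_relPU62Ap2_7 : chkRelP u62Model DU62Ap2 pmU62Ap2 7 = true := by decide +kernel

theorem chk_relPU62Ap2_8 : chkRelP u62Model DU62Ap2 pmU62Ap2 8 = true := by decide +kernel

theorem chk_relPU62Ap2_9 : chkRelP u62Model DU62Ap2 pmU62Ap2 9 = true := by decide +kernel

theorem chk_relPU62Ap2_10 : chkRelP u62Model DU62Ap2 pmU62Ap2 10 = true := by decide +kernel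

theorem chk_relPU62Ap2_11 : chkRelP u62Model DU62Ap2 pmU62Ap2 11 = true := by decide +kernel

theorem chk_relPU62Ap2_12 : chkRelP u62Model DU62Ap2 pmU62Ap2 12 = true := by decide +kernel

theorem chk_relPU62Ap2_13 : chkRelP u62Model DU62Ap2 pmU62Ap2 13 = true := by decide +kernel

theorem chk_relPU62Ap2_14 : chkRelP u62Model DU62Ap2 pmU62Ap2 14 = true := by decide +kernel

theorem chk_relPU62Ap2_15 : chkRelP u62Model DU62Ap2 pmU62Ap2 15 = true := by decide +kernel

theorem chk_relPU62Ap2_16 : chkRelP u62Model DU62Ap2 pmU62Ap2 16 = true := by decide +kernel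

theorem chk_relPU62Ap2_17 : chkRelP u62Model DU62Ap2 pmU62Ap2 17 = true := by decide +kernel

theorem chk_ordPU62Ap2_0 : chkOrdP u62Model DU62Ap2 pmU62Ap2 0 = true := by decide +kernel

theorem chk_ordPU62Ap2_1 : chkOrdP u62Model DU62Ap2 pmU62Ap2 1 = true := by decide +kernel

theorem chk_lwPU62Ap2_0 : chkLwP u62Model wsU62Ap2 pmU62Ap2 lwU62Ap2 0 = true := by decide +kernel

theorem chk_lwPU62Ap2_1 : chkLwP u62Model wsU62Ap2 pmU62Ap2 lwU62Ap2 1 = true := by decide +kernel

theorem chk_lwPU62Ap2_2 : chkLwP u62Model wsU62Ap2 pmU62Ap2 lwU62Ap2 2 = true := by decide +kernel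

theorem chk_lwPU62Ap2_3 : chkLwP u62Model wsU62Ap2 pmU62Ap2 lwU62Ap2 3 = true := by decide +kernel

theorem chk_lwPU62Ap2_4 : chkLwP u62Model wsU62Ap2 pmU62Ap2 lwU62Ap2 4 = true := by decide +kernel

theorem chk_lwPU62Ap2_5 : chkLwP u62Model wsU62Ap2 pmU62Ap2 lwU62Ap2 5 = true := by decide +kernel

theorem chk_lwPU62Ap2_6 : chkLwP u62Model wsU62Ap2 pmU62Ap2 lwU62Ap2 6 = true := by decide +kernel

theorem chk_lwPU62Ap2_7 : chkLwP u62Model wsU62Ap2 pmU62Ap2 lwU62Ap2 7 = true := by decide +kernel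

theorem coreU62Ap2 : CoreFacts u62Model DU62Ap2 wsU62Ap2 pmU62Ap2 lwU62Ap2 := by
  apply coreFacts_of_chk
  · rfl
  · intro i hi
    have h' : i < 2 := hi
    interval_cases i
    · exact chk_tabU62Ap2_0
    · exact chk_tabU62Ap2_1
  · intro r hr
    have h' : r < 18 := hr
    interval_cases r
    · exact chk_relPU62Ap2_0
    · exact chk_relPU62Ap2_1
    · exact chk_relPU62Ap2_2
    · exact chk_relPU62Ap2_3
    · exact chk_relPU62Ap2_4
    · exact chk_relPU62Ap2_5
    · exact chk_relPU62Ap2_6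
    · exact chk_relPU62Ap2_7
    · exact chk_relPU62Ap2_8
    · exact chk_relPU62Ap2_9
    · exact chk_relPU62Ap2_10
    · exact chk_relPU62Ap2_11
    · exact chk_relPU62Ap2_12
    · exact chk_relPU62Ap2_13
    · exact chk_relPU62Ap2_14
    · exact chk_relPU62Ap2_15
    · exact chk_relPU62Ap2_16
    · exact chk_relPU62Ap2_17
  · intro i hi
    have h' : i < 2 := hi
    interval_cases i
    · exact chk_ordPU62Ap2_0
    · exact chk_ordPU62Ap2_1
  · intro c hc
    have h' : c < 8 := hc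
    interval_cases c
    · exact chk_lwPU62Ap2_0
    · exact chk_lwPU62Ap2_1
    · exact chk_lwPU62Ap2_2
    · exact chk_lwPU62Ap2_3
    · exact chk_lwPU62Ap2_4
    · exact chk_lwPU62Ap2_5
    · exact chk_lwPU62Ap2_6
    · exact chk_lwPU62Ap2_7

end Cfsg.Agent.Lib.Helper6.MultD
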