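import Mathlib

set_option autoImplicit false

/-! The subgroup `U5(2)` of the presented group `U62`: the generators and their tables. -/

namespace Cfsg.Agent.Lib.Helper6.MultD

/-- the generators of the subgroup as words in the letters of the presentation -/
def wsU62UM : List (List ℕ) := [[3, 4, 2, 1], [5, 1, 3, 2, 0, 1, 5, 0, 6, 7]]

/-- the tables of the generators on the points -/
def pmNU62UM : List ℕ := [0x23e97a9c842b4955f8a56b29267788a41872469f6439ee9692a978767e8869faba1891e98a525096e6a8ddb972dd399a65a21a69b24cabea38f5aca81c5a9657971f2a3e72a39ec9ce037d62a8edda76deba368b73e5a845ee8be9e97e8563a3274a8aa0dcd7c6627f6697ee8983e48952158d29282921acdf378a5d5be2060d756367f8f29ba4e1794a338c15f9821b915157deb179a6d8fde758d658317ca0538a321f689f68b1b870a4b549e4449ca7614d939b57fe879c20e90a09ab21a9a261532588d5cca75b48659d3a6b0a66a2822ab71202725209457849656805a8a120b4758fa9d1a7462845ea1aaaa8781d9ab6538028677613529f07bd2f7b5ad66ea9759e8315c183644815666a9ea5d23a414c765d937f9d57421e70e9173a1481d8aa413299db256e259e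a639acd1a01275227533a6f6e976a69b78da2389a71648ca60994605a39e27c5de74426825e6a68e4a526da52617f59d91219559d9c78b5bf44da1444d626954355d4642a46324f405284f8bb2c0aa51d42935df5b52b451bc4362e388b79648d541704dd24665c07e8cf991b6185594d8d85ad2e4cd223059e8c5b0786409e465848cb17ce141d80659d75e860398c678c947f21640a6e240ed3dcda3acee510f01d9433a87a12d3f3d13d438f313da7718a4392382e57125dbd254c867151264c03ed4e0ee276c5be5ed2a2396148e045b9c87d10b380a24659f460df2755a5a958691ae0fa2b35d2c54d954a5980e62962e24171871bda0131005b1862d5853e5463f4b32b4ac504771e0ef394f52c4305f9f90fcdd7a4644d459410e83f9646a50c2850655d0853c54378bd819b35cc9e6ecd0231af5a09c30d5c258dc4295e24de5245de0e9dc52c1f13988458ff4b4a82ad3c2d1893e07929cfa12871524491f9391b02c0908a5f56039c6836d305591c4ecc2440d9199262f88718c334d0825c91e1885815d69178846ac5d2245b668d4080bc041402e0a92d87c3f0f61d470514441b53a0ad84140741084d0a41802d31310a010023158d3330d220cbf5743c2483247c210d0c90e1621545a1fc7d1ec1b1202f2c8722b8af09cf20a8a611c6b1a46727c1443d0323c8546c8104c1c33411220370d82d3b02e3c46e1181a1cc171a8250583d38c800d4530240822c1e2e80e1144303415014a3148510740401c190182800841088310000c0981203c0a00c01,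 0x1d97aa6a709948227580d6d9bdf2a76618c9b57cda37c593835a18759197df96018a816566ca549229c759fe9a667a8501a0ded78a3456d638de284da687d99e67140965e47029679a4e1c5a27613e54d494750d82e3572c736b52767dc7731aea02386fe1a2ec7fa797b5699d865315e28e785ac7a224722255a2472b19b3c1bc95e2b6ae9b6f6996d9d76a047a6a3c6927a9f981649b48ed64621b080a5171a9f6a9c961e114dcff668846595c9ae04855df888ad5527c7821422de778d8b4d57a742534ce635413f5f5a787a1252e3656249a04e742d6a60a735dcbc898fd89de53cd55579717edfd50a66ab56e59d617f0a5222847acc7a8a400d17933500681b8a217ea2a2c55d837de4f50562acd328b62e6eeab30d9785a4d972828617f9e5cea4e6e7a50a4f641992659e0f4566923dd99489ec7fdd4818f24510722457941249b4ee304af59a2947c55abd4a4663344a703786d376309625dab170769104163d81d84ac00f28d852159872a3163a39630816361c6264c6418644dba3bc26a45721d23a2fcba424b0a55d574543aca3f48e71390c92662a2a8f645cfc9b145a26764556ba808c3a4fb31674228e551d3c54a909f41c05a7f5d072a1a1798a1314d605b068696556c5c4471206dd561417c5ce8f92db938eb191041a9111311b32caa63309a774151844a1f45b3b2aa7e8caa94fe7be9434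2234e8866be0a2d10f346778012d1f9c16fab41627b165380a0ae76ddc159214d260735de119d245a0c34dcf495651014d511a98390c9190e83c51575f836df557cf187cc627c98aa48fa8ca91782525e1b7d0b32dc17a5c070e8e619c38a1cce4bd3b63cf9a9d69968d9a365b0c51b8f8a71162f3a1760c9955314f2e1c5369d30fcdf0da10381757b87c7c146200f570d082816f539031ec5fa30b5880641d4932e4764b81e9789c0eca2290101ac2c02c2b236422a2453acfa1493982551aa035ab833122980a6214a8c84987a090d80c0d6468bd33e0129a4a2d9a62ac9218087152721e4d21302207ced2544f4ac2a1e04d0f1295208223a521ba853a930408a12781a3500e1385a4b243308cb301284782e1a4661881912c201bc373702104818a2d06461040740926c63384901b0063e06a1dc700e413274e2170440302f2c4431940d2509608c830003e3541135c142f8040f44200849020270142d1741b2440100c0a]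

def pmU62UM (i q : ℕ) : ℕ := (pmNU62UM.getD i 0 >>> (10 * q)) % 2 ^ 10

end Cfsg.Agent.Lib.Helper6.MultD
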