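import Cfsg.Agent.Lib.Helper6.Mult.U62A
import Cfsg.Agent.Lib.Helper6.MultD.U62UM
import Cfsg.Agent.Lib.Helper6.Mult.PM2

set_option autoImplicit false
set_option maxRecDepth 100000

/-! The subgroup `U5(2)` of the presented group `U62`: the tables of its generators, and its model. -/

namespace Cfsg.Agent.Lib.Helper6.MultD

open Cfsg.Agent.Lib.Helper6.PM Cfsg.Agent.Lib.Helper6.U62M Cfsg.Agent.Lib.Helper1

theorem chk_tabU62UM_0 : chkTab u62Model wsU62UM pmU62UM 0 = true := by decide +kernel

theorem chk_tabU62UM_1 : chkTab u62Model wsU62UM pmU62UM 1 = true := by decide +kernel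

theorem tabU62UM : TabFacts u62Model wsU62UM pmU62UM := by
  apply tabFacts_of_chk
  intro i hi
  have h' : i < 2 := hi
  interval_cases i
  · exact chk_tabU62UM_0
  · exact chk_tabU62UM_1

/-- the model of the subgroup `U5(2)` -/
noncomputable def u62U : PModel := sub u62Model wsU62UM pmU62UM tabU62UM

end Cfsg.Agent.Lib.Helper6.MultD
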