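import Cfsg.Agent.Lib.Helper6.Mult.PM3
import Cfsg.Agent.Lib.Helper6.MultD.U62UML
import Cfsg.Agent.Lib.Helper6.MultD.U62Bp2D

set_option autoImplicit false
set_option maxRecDepth 100000

/-! The subgroup `U5(2)` of the presented group `U62` on 16896 sets, data U62Bp2: the checks of the generators. -/

namespace Cfsg.Agent.Lib.Helper6.MultD

open Cfsg.Agent.Lib.Helper6.PM Cfsg.Agent.Lib.Helper6.U62M Cfsg.Agent.Lib.Helper1

theorem chk_tabU62Bp2_0 : chkTab u62U wsU62Bp2 pmU62Bp2 0 = true := by decide +kernel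

theorem chk_tabU62Bp2_1 : chkTab u62U wsU62Bp2 pmU62Bp2 1 = true := by decide +kernel

theorem chk_relPU62Bp2_0 : chkRelP u62U DU62Bp2 pmU62Bp2 0 = true := by decide +kernel

theorem chk_relPU62Bp2_1 : chkRelP u62U DU62Bp2 pmU62Bp2 1 = true := by decide +kernel

theorem chk_relPU62Bp2_2 : chkRelP u62U DU62Bp2 pmU62Bp2 2 = true := by decide +kernel

theorem chk_relPU62Bp2_3 : chkRelP u62U DU62Bp2 pmU62Bp2 3 = true := by decide +kernel

theorem chk_relPU62Bp2_4 : chkRelP u62U DU62Bp2 pmU62Bp2 4 = true := by decide +kernel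

theorem chk_relPU62Bp2_5 : chkRelP u62U DU62Bp2 pmU62Bp2 5 = true := by decide +kernel

theorem chk_relPU62Bp2_6 : chkRelP u62U DU62Bp2 pmU62Bp2 6 = true := by decide +kernel

theorem chk_relPU62Bp2_7 : chkRelP u62U DU62Bp2 pmU62Bp2 7 = true := by decide +kernel

theorem chk_relPU62Bp2_8 : chkRelP u62U DU62Bp2 pmU62Bp2 8 = true := by decide +kernel

theorem chk_relPU62Bp2_9 : chkRelP u62U DU62Bp2 pmU62Bp2 9 = true := by decide +kernel

theorem chk_relPU62Bp2_10 : chkRelP u62U DU62Bp2 pmU62Bp2 10 = true := by decide +kernel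

theorem chk_relPU62Bp2_11 : chkRelP u62U DU62Bp2 pmU62Bp2 11 = true := by decide +kernel

theorem chk_relPU62Bp2_12 : chkRelP u62U DU62Bp2 pmU62Bp2 12 = true := by decide +kernel

theorem chk_relPU62Bp2_13 : chkRelP u62U DU62Bp2 pmU62Bp2 13 = true := by decide +kernel

theorem chk_relPU62Bp2_14 : chkRelP u62U DU62Bp2 pmU62Bp2 14 = true := by decide +kernel

theorem chk_relPU62Bp2_15 : chkRelP u62U DU62Bp2 pmU62Bp2 15 = true := by decide +kernel

theorem chk_relPU62Bp2_16 : chkRelP u62U DU62Bp2 pmU62Bp2 16 = true := by decide +kernel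

theorem chk_relPU62Bp2_17 : chkRelP u62U DU62Bp2 pmU62Bp2 17 = true := by decide +kernel

theorem chk_relPU62Bp2_18 : chkRelP u62U DU62Bp2 pmU62Bp2 18 = true := by decide +kernel

theorem chk_relPU62Bp2_19 : chkRelP u62U DU62Bp2 pmU62Bp2 19 = true := by decide +kernel

theorem chk_relPU62Bp2_20 : chkRelP u62U DU62Bp2 pmU62Bp2 20 = true := by decide +kernel

theorem chk_relPU62Bp2_21 : chkRelP u62U DU62Bp2 pmU62Bp2 21 = true := by decide +kernel

theorem chk_relPU62Bp2_22 : chkRelP u62U DU62Bp2 pmU62Bp2 22 = true := by decide +kernel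

theorem chk_relPU62Bp2_23 : chkRelP u62U DU62Bp2 pmU62Bp2 23 = true := by decide +kernel

theorem chk_relPU62Bp2_24 : chkRelP u62U DU62Bp2 pmU62Bp2 24 = true := by decide +kernel

theorem chk_relPU62Bp2_25 : chkRelP u62U DU62Bp2 pmU62Bp2 25 = true := by decide +kernel

theorem chk_relPU62Bp2_26 : chkRelP u62U DU62Bp2 pmU62Bp2 26 = true := by decide +kernel

theorem chk_relPU62Bp2_27 : chkRelP u62U DU62Bp2 pmU62Bp2 27 = true := by decide +kernel

theorem chk_relPU62Bp2_28 : chkRelP u62U DU62Bp2 pmU62Bp2 28 = true := by decide +kernel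

theorem chk_relPU62Bp2_29 : chkRelP u62U DU62Bp2 pmU62Bp2 29 = true := by decide +kernel

theorem chk_relPU62Bp2_30 : chkRelP u62U DU62Bp2 pmU62Bp2 30 = true := by decide +kernel

theorem chk_relPU62Bp2_31 : chkRelP u62U DU62Bp2 pmU62Bp2 31 = true := by decide +kernel

theorem chk_relPU62Bp2_32 : chkRelP u62U DU62Bp2 pmU62Bp2 32 = true := by decide +kernel

theorem chk_relPU62Bp2_33 : chkRelP u62U DU62Bp2 pmU62Bp2 33 = true := by decide +kernel

theorem chk_relPU62Bp2_34 : chkRelP u62U DU62Bp2 pmU62Bp2 34 = true := by decide +kernel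

theorem chk_relPU62Bp2_35 : chkRelP u62U DU62Bp2 pmU62Bp2 35 = true := by decide +kernel

theorem chk_relPU62Bp2_36 : chkRelP u62U DU62Bp2 pmU62Bp2 36 = true := by decide +kernel

theorem chk_relPU62Bp2_37 : chkRelP u62U DU62Bp2 pmU62Bp2 37 = true := by decide +kernel

theorem chk_relPU62Bp2_38 : chkRelP u62U DU62Bp2 pmU62Bp2 38 = true := by decide +kernel

theorem chk_relPU62Bp2_39 : chkRelP u62U DU62Bp2 pmU62Bp2 39 = true := by decide +kernel

theorem chk_relPU62Bp2_40 : chkRelP u62U DU62Bp2 pmU62Bp2 40 = true := by decide +kernel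

theorem chk_relPU62Bp2_41 : chkRelP u62U DU62Bp2 pmU62Bp2 41 = true := by decide +kernel

theorem chk_relPU62Bp2_42 : chkRelP u62U DU62Bp2 pmU62Bp2 42 = true := by decide +kernel

theorem chk_relPU62Bp2_43 : chkRelP u62U DU62Bp2 pmU62Bp2 43 = true := by decide +kernel

theorem chk_ordPU62Bp2_0 : chkOrdP u62U DU62Bp2 pmU62Bp2 0 = true := by decide +kernel

theorem chk_ordPU62Bp2_1 : chkOrdP u62U DU62Bp2 pmU62Bp2 1 = true := by decide +kernel

theorem chk_lwPU62Bp2_0 : chkLwP u62U wsU62Bp2 pmU62Bp2 lwU62Bp2 0 = true := by decide +kernel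

theorem chk_lwPU62Bp2_1 : chkLwP u62U wsU62Bp2 pmU62Bp2 lwU62Bp2 1 = true := by decide +kernel

theorem coreU62Bp2 : CoreFacts u62U DU62Bp2 wsU62Bp2 pmU62Bp2 lwU62Bp2 := by
  apply coreFacts_of_chk
  · rfl
  · intro i hi
    have h' : i < 2 := hi
    interval_cases i
    · exact chk_tabU62Bp2_0
    · exact chk_tabU62Bp2_1
  · intro r hr
    have h' : r < 44 := hr
    interval_cases r
    · exact chk_relPU62Bp2_0
    · exact chk_relPU62Bp2_1
    · exact chk_relPU62Bp2_2
    · exact chk_relPU62Bp2_3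
    · exact chk_relPU62Bp2_4
    · exact chk_relPU62Bp2_5
    · exact chk_relPU62Bp2_6
    · exact chk_relPU62Bp2_7
    · exact chk_relPU62Bp2_8
    · exact chk_relPU62Bp2_9
    · exact chk_relPU62Bp2_10
    · exact chk_relPU62Bp2_11
    · exact chk_relPU62Bp2_12
    · exact chk_relPU62Bp2_13
    · exact chk_relPU62Bp2_14
    · exact chk_relPU62Bp2_15
    · exact chk_relPU62Bp2_16
    · exact chk_relPU62Bp2_17
    · exact chk_relPU62Bp2_18
    · exact chk_relPU62Bp2_19
    · exact chk_relPU62Bp2_20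
    · exact chk_relPU62Bp2_21
    · exact chk_relPU62Bp2_22
    · exact chk_relPU62Bp2_23
    · exact chk_relPU62Bp2_24
    · exact chk_relPU62Bp2_25
    · exact chk_relPU62Bp2_26
    · exact chk_relPU62Bp2_27
    · exact chk_relPU62Bp2_28
    · exact chk_relPU62Bp2_29
    · exact chk_relPU62Bp2_30
    · exact chk_relPU62Bp2_31
    · exact chk_relPU62Bp2_32
    · exact chk_relPU62Bp2_33
    · exact chk_relPU62Bp2_34
    · exact chk_relPU62Bp2_35
    · exact chk_relPU62Bp2_36
    · exact chk_relPU62Bp2_37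
    · exact chk_relPU62Bp2_38
    · exact chk_relPU62Bp2_39
    · exact chk_relPU62Bp2_40
    · exact chk_relPU62Bp2_41
    · exact chk_relPU62Bp2_42
    · exact chk_relPU62Bp2_43
  · intro i hi
    have h' : i < 2 := hi
    interval_cases i
    · exact chk_ordPU62Bp2_0
    · exact chk_ordPU62Bp2_1
  · intro c hc
    have h' : c < 2 := hc
    interval_cases c
    · exact chk_lwPU62Bp2_0
    · exact chk_lwPU62Bp2_1

end Cfsg.Agent.Lib.Helper6.MultD
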