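import Cfsg.Agent.Lib.Helper6.MultD.U62UML
import Cfsg.Agent.Lib.Helper6.MultD.U62Ap2D
import Cfsg.Agent.Lib.Helper6.MultD.U62Ap3D
import Cfsg.Agent.Lib.Helper6.MultD.U62Bp2D
import Cfsg.Agent.Lib.Helper6.MultD.U62Bp3D
import Cfsg.Agent.Lib.Helper6.WP9

set_option autoImplicit false
set_option maxRecDepth 100000

/-! The subgroup `U5(2)` of the presented group `U62`: miscellaneous checks. -/

namespace Cfsg.Agent.Lib.Helper6.MultD

open Cfsg.Agent.Lib.Helper6.PM Cfsg.Agent.Lib.Helper6.U62M Cfsg.Agent.Lib.Helper1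

open Cfsg.Agent.Lib.Helper6.TC Cfsg.Agent.Lib.Helper6.TCD

/-- the first sets of the two families of 672 sets are the same -/
theorem chk_masks0U62 : masksU62Ap3 0 = masksU62Ap2 0 := by decide +kernel

/-- the generators of the subgroup `U5(2)` stabilize the first of the 672 sets -/
theorem chk_fixAU62 : ((List.range 2).all fun i => (List.range 693).all fun q =>
    (masksU62Ap2 0).testBit q == (masksU62Ap2 0).testBit (pmU62UM i q)) = true := by decide +kernel

/-- a word in the generators of the subgroup `U5(2)` giving an involution which stabilizes the first of the 16896 sets -/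
def cwU62 : List ℕ := [1, 1, 0, 0, 1, 1, 0, 0, 0, 1, 1, 1, 1, 0, 0, 0, 1, 1, 1, 0, 0, 0, 0, 1, 1, 1, 1, 0, 0, 0, 0]

theorem chk_cwU62 : ((List.range 693).all fun q =>
    (masksU62Bp2 0).testBit q == (masksU62Bp2 0).testBit (wappS pmU62UM cwU62 q)) = true := by decide +kernel

theorem chk_cw2U62 : ((List.range 693).all fun q => wappS pmU62UM (cwU62 ++ cwU62) q == q) = true := by
  decide +kernel

theorem chk_cwneU62 : wappS pmU62UM cwU62 0 ≠ 0 := by decide +kernel

/-- the first generator of the subgroup `U5(2)` moves a point -/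
theorem chk_x0neU62 : pmU62UM 0 0 ≠ 0 := by decide +kernel

end Cfsg.Agent.Lib.Helper6.MultD
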