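import Cfsg.Agent.Lib.Helper6.Mult.PM10
import Cfsg.Agent.Lib.Helper6.MultD.CO2YML
import Cfsg.Agent.Lib.Helper6.MultD.CO2Yp3D

set_option autoImplicit false
set_option maxRecDepth 100000
set_option Elab.async false

/-! data CO2Yp3: checks of the action of the generators on ranges of sets (part 1). -/

namespace Cfsg.Agent.Lib.Helper6.MultD

open Cfsg.Agent.Lib.Helper6.PM Cfsg.Agent.Lib.Helper6.Co2X Cfsg.Agent.Lib.Helper1

theorem chk_setsCO2Yp3_0_10 : chkSetsBR co2Y pmCO2Yp3 masksCO2Yp3 DCO2Yp3.pi 0 250 25 = true := by decide +kernel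

theorem chk_setsCO2Yp3_0_11 : chkSetsBR co2Y pmCO2Yp3 masksCO2Yp3 DCO2Yp3.pi 0 275 25 = true := by decide +kernel

theorem chk_setsCO2Yp3_0_12 : chkSetsBR co2Y pmCO2Yp3 masksCO2Yp3 DCO2Yp3.pi 0 300 25 = true := by decide +kernel

theorem chk_setsCO2Yp3_0_13 : chkSetsBR co2Y pmCO2Yp3 masksCO2Yp3 DCO2Yp3.pi 0 325 25 = true := by decide +kernel

theorem chk_setsCO2Yp3_0_14 : chkSetsBR co2Y pmCO2Yp3 masksCO2Yp3 DCO2Yp3.pi 0 350 25 = true := by decide +kernel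

theorem chk_setsCO2Yp3_0_15 : chkSetsBR co2Y pmCO2Yp3 masksCO2Yp3 DCO2Yp3.pi 0 375 25 = true := by decide +kernel

theorem chk_setsCO2Yp3_0_16 : chkSetsBR co2Y pmCO2Yp3 masksCO2Yp3 DCO2Yp3.pi 0 400 25 = true := by decide +kernel

theorem chk_setsCO2Yp3_0_17 : chkSetsBR co2Y pmCO2Yp3 masksCO2Yp3 DCO2Yp3.pi 0 425 25 = true := by decide +kernel

theorem chk_setsCO2Yp3_0_18 : chkSetsBR co2Y pmCO2Yp3 masksCO2Yp3 DCO2Yp3.pi 0 450 25 = true := by decide +kernel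

theorem chk_setsCO2Yp3_0_19 : chkSetsBR co2Y pmCO2Yp3 masksCO2Yp3 DCO2Yp3.pi 0 475 25 = true := by decide +kernel

end Cfsg.Agent.Lib.Helper6.MultD
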