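import Cfsg.Agent.Lib.Helper6.Mult.PM10
import Cfsg.Agent.Lib.Helper6.MultD.CO2YML
import Cfsg.Agent.Lib.Helper6.MultD.CO2Yp3D

set_option autoImplicit false
set_option maxRecDepth 100000
set_option Elab.async false

/-! data CO2Yp3: checks of the action of the generators on ranges of sets (part 4). -/

namespace Cfsg.Agent.Lib.Helper6.MultD

open Cfsg.Agent.Lib.Helper6.PM Cfsg.Agent.Lib.Helper6.Co2X Cfsg.Agent.Lib.Helper1

theorem chk_setsCO2Yp3_0_40 : chkSetsBR co2Y pmCO2Yp3 masksCO2Yp3 DCO2Yp3.pi 0 1000 25 = true := by decide +kernel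

theorem chk_setsCO2Yp3_0_41 : chkSetsBR co2Y pmCO2Yp3 masksCO2Yp3 DCO2Yp3.pi 0 1025 25 = true := by decide +kernel

theorem chk_setsCO2Yp3_0_42 : chkSetsBR co2Y pmCO2Yp3 masksCO2Yp3 DCO2Yp3.pi 0 1050 25 = true := by decide +kernel

theorem chk_setsCO2Yp3_0_43 : chkSetsBR co2Y pmCO2Yp3 masksCO2Yp3 DCO2Yp3.pi 0 1075 25 = true := by decide +kernel

theorem chk_setsCO2Yp3_0_44 : chkSetsBR co2Y pmCO2Yp3 masksCO2Yp3 DCO2Yp3.pi 0 1100 25 = true := by decide +kernel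

theorem chk_setsCO2Yp3_0_45 : chkSetsBR co2Y pmCO2Yp3 masksCO2Yp3 DCO2Yp3.pi 0 1125 25 = true := by decide +kernel

theorem chk_setsCO2Yp3_0_46 : chkSetsBR co2Y pmCO2Yp3 masksCO2Yp3 DCO2Yp3.pi 0 1150 25 = true := by decide +kernel

theorem chk_setsCO2Yp3_0_47 : chkSetsBR co2Y pmCO2Yp3 masksCO2Yp3 DCO2Yp3.pi 0 1175 25 = true := by decide +kernel

theorem chk_setsCO2Yp3_0_48 : chkSetsBR co2Y pmCO2Yp3 masksCO2Yp3 DCO2Yp3.pi 0 1200 25 = true := by decide +kernel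

theorem chk_setsCO2Yp3_0_49 : chkSetsBR co2Y pmCO2Yp3 masksCO2Yp3 DCO2Yp3.pi 0 1225 25 = true := by decide +kernel

end Cfsg.Agent.Lib.Helper6.MultD
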