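import Cfsg.Agent.Lib.Helper6.Mult.PM10
import Cfsg.Agent.Lib.Helper6.MultD.CO2YML
import Cfsg.Agent.Lib.Helper6.MultD.CO2Yp3D

set_option autoImplicit false
set_option maxRecDepth 100000
set_option Elab.async false

/-! data CO2Yp3: checks of the action of the generators on ranges of sets (part 8). -/

namespace Cfsg.Agent.Lib.Helper6.MultD

open Cfsg.Agent.Lib.Helper6.PM Cfsg.Agent.Lib.Helper6.Co2X Cfsg.Agent.Lib.Helper1

theorem chk_setsCO2Yp3_1_21 : chkSetsBR co2Y pmCO2Yp3 masksCO2Yp3 DCO2Yp3.pi 1 525 25 = true := by decide +kernel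

theorem chk_setsCO2Yp3_1_22 : chkSetsBR co2Y pmCO2Yp3 masksCO2Yp3 DCO2Yp3.pi 1 550 25 = true := by decide +kernel

theorem chk_setsCO2Yp3_1_23 : chkSetsBR co2Y pmCO2Yp3 masksCO2Yp3 DCO2Yp3.pi 1 575 25 = true := by decide +kernel

theorem chk_setsCO2Yp3_1_24 : chkSetsBR co2Y pmCO2Yp3 masksCO2Yp3 DCO2Yp3.pi 1 600 25 = true := by decide +kernel

theorem chk_setsCO2Yp3_1_25 : chkSetsBR co2Y pmCO2Yp3 masksCO2Yp3 DCO2Yp3.pi 1 625 25 = true := by decide +kernel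

theorem chk_setsCO2Yp3_1_26 : chkSetsBR co2Y pmCO2Yp3 masksCO2Yp3 DCO2Yp3.pi 1 650 25 = true := by decide +kernel

theorem chk_setsCO2Yp3_1_27 : chkSetsBR co2Y pmCO2Yp3 masksCO2Yp3 DCO2Yp3.pi 1 675 25 = true := by decide +kernel

theorem chk_setsCO2Yp3_1_28 : chkSetsBR co2Y pmCO2Yp3 masksCO2Yp3 DCO2Yp3.pi 1 700 25 = true := by decide +kernel

theorem chk_setsCO2Yp3_1_29 : chkSetsBR co2Y pmCO2Yp3 masksCO2Yp3 DCO2Yp3.pi 1 725 25 = true := by decide +kernel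

theorem chk_setsCO2Yp3_1_30 : chkSetsBR co2Y pmCO2Yp3 masksCO2Yp3 DCO2Yp3.pi 1 750 25 = true := by decide +kernel

end Cfsg.Agent.Lib.Helper6.MultD
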