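import Cfsg.Agent.Lib.Helper6.MultD.FI23HML
import Cfsg.Agent.Lib.Helper6.Mult.PM11

set_option autoImplicit false
set_option maxRecDepth 100000
set_option Elab.async false

/-! The subgroup `O8+(3):S3` of the presented group `Fi23`: the tables of auxiliary elements (part 0) -/

namespace Cfsg.Agent.Lib.Helper6.MultD

open Cfsg.Agent.Lib.Helper6.PM Cfsg.Agent.Lib.Helper6.Fi23M Cfsg.Agent.Lib.Helper1 Cfsg.Agent.Lib.Helper6.TC Cfsg.Agent.Lib.Helper6.TCD

theorem chk_tabQ23_0_c0 : allBR (tabAt fi23H wsFI23Q pmFI23Q 0) 0 21428 = true := by decide +kernel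

theorem chk_tabQ23_0_c1 : allBR (tabAt fi23H wsFI23Q pmFI23Q 0) 21428 10243 = true := by decide +kernel

theorem chk_tabQ23_1_c0 : allBR (tabAt fi23H wsFI23Q pmFI23Q 1) 0 21428 = true := by decide +kernel

theorem chk_tabQ23_1_c1 : allBR (tabAt fi23H wsFI23Q pmFI23Q 1) 21428 10243 = true := by decide +kernel

theorem chk_tabQ23_2_c0 : allBR (tabAt fi23H wsFI23Q pmFI23Q 2) 0 18750 = true := by decide +kernel

theorem chk_tabQ23_2_c1 : allBR (tabAt fi23H wsFI23Q pmFI23Q 2) 18750 12921 = true := by decide +kernel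

theorem chk_tabQ23_3_c0 : allBR (tabAt fi23H wsFI23Q pmFI23Q 3) 0 18750 = true := by decide +kernel

theorem chk_tabQ23_3_c1 : allBR (tabAt fi23H wsFI23Q pmFI23Q 3) 18750 12921 = true := by decide +kernel

theorem chk_tabQ23_4_c0 : allBR (tabAt fi23H wsFI23Q pmFI23Q 4) 0 18750 = true := by decide +kernel

theorem chk_tabQ23_4_c1 : allBR (tabAt fi23H wsFI23Q pmFI23Q 4) 18750 12921 = true := by decide +kernel

theorem chk_tabQ23_5_c0 : allBR (tabAt fi23H wsFI23Q pmFI23Q 5) 0 18750 = true := by decide +kernel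

theorem chk_tabQ23_5_c1 : allBR (tabAt fi23H wsFI23Q pmFI23Q 5) 18750 12921 = true := by decide +kernel

theorem chk_tabQ23_6_c0 : allBR (tabAt fi23H wsFI23Q pmFI23Q 6) 0 2380 = true := by decide +kernel

theorem chk_tabQ23_6_c1 : allBR (tabAt fi23H wsFI23Q pmFI23Q 6) 2380 2380 = true := by decide +kernel

theorem chk_tabQ23_6_c2 : allBR (tabAt fi23H wsFI23Q pmFI23Q 6) 4760 2380 = true := by decide +kernel

theorem chk_tabQ23_6_c3 : allBR (tabAt fi23H wsFI23Q pmFI23Q 6) 7140 2380 = true := by decide +kernel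

end Cfsg.Agent.Lib.Helper6.MultD
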