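import Cfsg.Agent.Lib.Helper6.MultD.FI23HML
import Cfsg.Agent.Lib.Helper6.Mult.PM11

set_option autoImplicit false
set_option maxRecDepth 100000
set_option Elab.async false

/-! The subgroup `O8+(3):S3` of the presented group `Fi23`: the tables of auxiliary elements (part 2) -/

namespace Cfsg.Agent.Lib.Helper6.MultD

open Cfsg.Agent.Lib.Helper6.PM Cfsg.Agent.Lib.Helper6.Fi23M Cfsg.Agent.Lib.Helper1 Cfsg.Agent.Lib.Helper6.TC Cfsg.Agent.Lib.Helper6.TCD

theorem chk_tabQ23_7_c5 : allBR (tabAt fi23H wsFI23Q pmFI23Q 7) 11900 2380 = true := by decide +kernel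

theorem chk_tabQ23_7_c6 : allBR (tabAt fi23H wsFI23Q pmFI23Q 7) 14280 2380 = true := by decide +kernel

theorem chk_tabQ23_7_c7 : allBR (tabAt fi23H wsFI23Q pmFI23Q 7) 16660 2380 = true := by decide +kernel

theorem chk_tabQ23_7_c8 : allBR (tabAt fi23H wsFI23Q pmFI23Q 7) 19040 2380 = true := by decide +kernel

theorem chk_tabQ23_7_c9 : allBR (tabAt fi23H wsFI23Q pmFI23Q 7) 21420 2380 = true := by decide +kernel

theorem chk_tabQ23_7_c10 : allBR (tabAt fi23H wsFI23Q pmFI23Q 7) 23800 2380 = true := by decide +kernel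

theorem chk_tabQ23_7_c11 : allBR (tabAt fi23H wsFI23Q pmFI23Q 7) 26180 2380 = true := by decide +kernel

theorem chk_tabQ23_7_c12 : allBR (tabAt fi23H wsFI23Q pmFI23Q 7) 28560 2380 = true := by decide +kernel

theorem chk_tabQ23_7_c13 : allBR (tabAt fi23H wsFI23Q pmFI23Q 7) 30940 731 = true := by decide +kernel

end Cfsg.Agent.Lib.Helper6.MultD
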