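import Cfsg.Agent.Lib.Helper6.MultD.FI23HML
import Cfsg.Agent.Lib.Helper6.Mult.PM11
import Cfsg.Agent.Lib.Helper6.MultD.FI23HQ_0
import Cfsg.Agent.Lib.Helper6.MultD.FI23HQ_1
import Cfsg.Agent.Lib.Helper6.MultD.FI23HQ_2

set_option autoImplicit false
set_option maxRecDepth 100000
set_option Elab.async false

/-! The subgroup `O8+(3):S3` of the presented group `Fi23`: the tables of auxiliary elements. -/

namespace Cfsg.Agent.Lib.Helper6.MultD

open Cfsg.Agent.Lib.Helper6.PM Cfsg.Agent.Lib.Helper6.Fi23M Cfsg.Agent.Lib.Helper1 Cfsg.Agent.Lib.Helper6.TC Cfsg.Agent.Lib.Helper6.TCD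

theorem chk_tabQ23_0_cuts : chkCuts 31671 [(0, 21428), (21428, 10243)] = true := by decide +kernel

theorem chk_tabQ23_0 : ∀ q < 31671, (tabAt fi23H wsFI23Q pmFI23Q 0) q = true := by
  apply forall_of_allBR _ _ _ chk_tabQ23_0_cuts
  intro c hc
  simp only [List.mem_cons, List.mem_nil_iff, or_false] at hc
  rcases hc with rfl | rfl
  · exact chk_tabQ23_0_c0
  · exact chk_tabQ23_0_c1

theorem chk_tabQ23_1_cuts : chkCuts 31671 [(0, 21428), (21428, 10243)] = true := by decide +kernel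

theorem chk_tabQ23_1 : ∀ q < 31671, (tabAt fi23H wsFI23Q pmFI23Q 1) q = true := by
  apply forall_of_allBR _ _ _ chk_tabQ23_1_cuts
  intro c hc
  simp only [List.mem_cons, List.mem_nil_iff, or_false] at hc
  rcases hc with rfl | rfl
  · exact chk_tabQ23_1_c0
  · exact chk_tabQ23_1_c1

theorem chk_tabQ23_2_cuts : chkCuts 31671 [(0, 18750), (18750, 12921)] = true := by decide +kernel

theorem chk_tabQ23_2 : ∀ q < 31671, (tabAt fi23H wsFI23Q pmFI23Q 2) q = true := by
  apply forall_of_allBR _ _ _ chk_tabQ23_2_cuts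
  intro c hc
  simp only [List.mem_cons, List.mem_nil_iff, or_false] at hc
  rcases hc with rfl | rfl
  · exact chk_tabQ23_2_c0
  · exact chk_tabQ23_2_c1

theorem chk_tabQ23_3_cuts : chkCuts 31671 [(0, 18750), (18750, 12921)] = true := by decide +kernel

theorem chk_tabQ23_3 : ∀ q < 31671, (tabAt fi23H wsFI23Q pmFI23Q 3) q = true := by
  apply forall_of_allBR _ _ _ chk_tabQ23_3_cuts
  intro c hc
  simp only [List.mem_cons, List.mem_nil_iff, or_false] at hc
  rcases hc with rfl | rfl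
  · exact chk_tabQ23_3_c0
  · exact chk_tabQ23_3_c1

theorem chk_tabQ23_4_cuts : chkCuts 31671 [(0, 18750), (18750, 12921)] = true := by decide +kernel

theorem chk_tabQ23_4 : ∀ q < 31671, (tabAt fi23H wsFI23Q pmFI23Q 4) q = true := by
  apply forall_of_allBR _ _ _ chk_tabQ23_4_cuts
  intro c hc
  simp only [List.mem_cons, List.mem_nil_iff, or_false] at hc
  rcases hc with rfl | rfl
  · exact chk_tabQ23_4_c0
  · exact chk_tabQ23_4_c1

theorem chk_tabQ23_5_cuts : chkCuts 31671 [(0, 18750), (18750, 12921)] = true := by decide +kernel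

theorem chk_tabQ23_5 : ∀ q < 31671, (tabAt fi23H wsFI23Q pmFI23Q 5) q = true := by
  apply forall_of_allBR _ _ _ chk_tabQ23_5_cuts
  intro c hc
  simp only [List.mem_cons, List.mem_nil_iff, or_false] at hc
  rcases hc with rfl | rfl
  · exact chk_tabQ23_5_c0
  · exact chk_tabQ23_5_c1

theorem chk_tabQ23_6_cuts : chkCuts 31671 [(0, 2380), (2380, 2380), (4760, 2380), (7140, 2380), (9520, 2380), (11900, 2380), (14280, 2380), (16660, 2380), (19040, 2380), (21420, 2380), (23800, 2380), (26180, 2380), (28560, 2380), (30940, 731)] = true := by decide +kernel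

theorem chk_tabQ23_6 : ∀ q < 31671, (tabAt fi23H wsFI23Q pmFI23Q 6) q = true := by
  apply forall_of_allBR _ _ _ chk_tabQ23_6_cuts
  intro c hc
  simp only [List.mem_cons, List.mem_nil_iff, or_false] at hc
  rcases hc with rfl | rfl | rfl | rfl | rfl | rfl | rfl | rfl | rfl | rfl | rfl | rfl | rfl | rfl
  · exact chk_tabQ23_6_c0
  · exact chk_tabQ23_6_c1
  · exact chk_tabQ23_6_c2
  · exact chk_tabQ23_6_c3
  · exact chk_tabQ23_6_c4
  · exact chk_tabQ23_6_c5
  · exact chk_tabQ23_6_c6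
  · exact chk_tabQ23_6_c7
  · exact chk_tabQ23_6_c8
  · exact chk_tabQ23_6_c9
  · exact chk_tabQ23_6_c10
  · exact chk_tabQ23_6_c11
  · exact chk_tabQ23_6_c12
  · exact chk_tabQ23_6_c13

theorem chk_tabQ23_7_cuts : chkCuts 31671 [(0, 2380), (2380, 2380), (4760, 2380), (7140, 2380), (9520, 2380), (11900, 2380), (14280, 2380), (16660, 2380), (19040, 2380), (21420, 2380), (23800, 2380), (26180, 2380), (28560, 2380), (30940, 731)] = true := by decide +kernel

theorem chk_tabQ23_7 : ∀ q < 31671, (tabAt fi23H wsFI23Q pmFI23Q 7) q = true := by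
  apply forall_of_allBR _ _ _ chk_tabQ23_7_cuts
  intro c hc
  simp only [List.mem_cons, List.mem_nil_iff, or_false] at hc
  rcases hc with rfl | rfl | rfl | rfl | rfl | rfl | rfl | rfl | rfl | rfl | rfl | rfl | rfl | rfl
  · exact chk_tabQ23_7_c0
  · exact chk_tabQ23_7_c1
  · exact chk_tabQ23_7_c2
  · exact chk_tabQ23_7_c3
  · exact chk_tabQ23_7_c4
  · exact chk_tabQ23_7_c5
  · exact chk_tabQ23_7_c6
  · exact chk_tabQ23_7_c7
  · exact chk_tabQ23_7_c8
  · exact chk_tabQ23_7_c9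
  · exact chk_tabQ23_7_c10
  · exact chk_tabQ23_7_c11
  · exact chk_tabQ23_7_c12
  · exact chk_tabQ23_7_c13

theorem chk_tabFI23Q_0 : chkTab fi23H wsFI23Q pmFI23Q 0 = true :=
  chkTab_of_forall _ _ _ _ (by decide +kernel) chk_tabQ23_0

theorem chk_tabFI23Q_1 : chkTab fi23H wsFI23Q pmFI23Q 1 = true :=
  chkTab_of_forall _ _ _ _ (by decide +kernel) chk_tabQ23_1

theorem chk_tabFI23Q_2 : chkTab fi23H wsFI23Q pmFI23Q 2 = true :=
  chkTab_of_forall _ _ _ _ (by decide +kernel) chk_tabQ23_2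

theorem chk_tabFI23Q_3 : chkTab fi23H wsFI23Q pmFI23Q 3 = true :=
  chkTab_of_forall _ _ _ _ (by decide +kernel) chk_tabQ23_3

theorem chk_tabFI23Q_4 : chkTab fi23H wsFI23Q pmFI23Q 4 = true :=
  chkTab_of_forall _ _ _ _ (by decide +kernel) chk_tabQ23_4

theorem chk_tabFI23Q_5 : chkTab fi23H wsFI23Q pmFI23Q 5 = true :=
  chkTab_of_forall _ _ _ _ (by decide +kernel) chk_tabQ23_5

theorem chk_tabFI23Q_6 : chkTab fi23H wsFI23Q pmFI23Q 6 = true :=
  chkTab_of_forall _ _ _ _ (by decide +kernel) chk_tabQ23_6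

theorem chk_tabFI23Q_7 : chkTab fi23H wsFI23Q pmFI23Q 7 = true :=
  chkTab_of_forall _ _ _ _ (by decide +kernel) chk_tabQ23_7

theorem chk_tabFI23Q_8 : chkTab fi23H wsFI23Q pmFI23Q 8 = true := by decide +kernel

theorem chk_tabFI23Q_9 : chkTab fi23H wsFI23Q pmFI23Q 9 = true := by decide +kernel

theorem chk_tabFI23Q_10 : chkTab fi23H wsFI23Q pmFI23Q 10 = true := by decide +kernel

theorem chk_tabFI23Q_11 : chkTab fi23H wsFI23Q pmFI23Q 11 = true := by decide +kernel

theorem chk_tabFI23Q_12 : chkTab fi23H wsFI23Q pmFI23Q 12 = true := by decide +kernel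

theorem chk_tabFI23Q_13 : chkTab fi23H wsFI23Q pmFI23Q 13 = true := by decide +kernel

theorem chk_tabFI23Q_14 : chkTab fi23H wsFI23Q pmFI23Q 14 = true := by decide +kernel

theorem chk_tabFI23Q_15 : chkTab fi23H wsFI23Q pmFI23Q 15 = true := by decide +kernel

theorem chk_tabFI23Q_16 : chkTab fi23H wsFI23Q pmFI23Q 16 = true := by decide +kernel

theorem chk_tabFI23Q_17 : chkTab fi23H wsFI23Q pmFI23Q 17 = true := by decide +kernel

theorem tabFI23Q : TabFacts fi23H wsFI23Q pmFI23Q := by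
  apply tabFacts_of_chk
  intro i hi
  have h' : i < 18 := hi
  interval_cases i
  · exact chk_tabFI23Q_0
  · exact chk_tabFI23Q_1
  · exact chk_tabFI23Q_2
  · exact chk_tabFI23Q_3
  · exact chk_tabFI23Q_4
  · exact chk_tabFI23Q_5
  · exact chk_tabFI23Q_6
  · exact chk_tabFI23Q_7
  · exact chk_tabFI23Q_8
  · exact chk_tabFI23Q_9
  · exact chk_tabFI23Q_10
  · exact chk_tabFI23Q_11
  · exact chk_tabFI23Q_12
  · exact chk_tabFI23Q_13
  · exact chk_tabFI23Q_14
  · exact chk_tabFI23Q_15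
  · exact chk_tabFI23Q_16
  · exact chk_tabFI23Q_17

end Cfsg.Agent.Lib.Helper6.MultD
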