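import Cfsg.Agent.Lib.Helper6.MultD.HESML
import Cfsg.Agent.Lib.Helper6.MultD.HELp2D

set_option autoImplicit false
set_option maxRecDepth 100000

/-! The subgroup `L2(16)` of the presented group `He`: the tables of its generators, and its model. -/

namespace Cfsg.Agent.Lib.Helper6.MultD

open Cfsg.Agent.Lib.Helper6.PM Cfsg.Agent.Lib.Helper6.HeM Cfsg.Agent.Lib.Helper1

theorem chk_tabHELM_0 : chkTab heS wsmHELp2 pmHELp2 0 = true := by decide +kernel

theorem chk_tabHELM_1 : chkTab heS wsmHELp2 pmHELp2 1 = true := by decide +kernel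

theorem tabHELM : TabFacts heS wsmHELp2 pmHELp2 := by
  apply tabFacts_of_chk
  intro i hi
  have h' : i < 2 := hi
  interval_cases i
  · exact chk_tabHELM_0
  · exact chk_tabHELM_1

/-- the model of the subgroup `L2(16)` -/
noncomputable def heL : PModel := sub heS wsmHELp2 pmHELp2 tabHELM

end Cfsg.Agent.Lib.Helper6.MultD
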