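import Cfsg.Agent.Lib.Helper6.Mult.PM10
import Cfsg.Agent.Lib.Helper7.McLB9
import Cfsg.Agent.Lib.Helper6.MultD.MCLAp3D

set_option autoImplicit false
set_option maxRecDepth 100000

/-! data MCLAp3: checks of the action of the generators on ranges of sets (part 3). -/

namespace Cfsg.Agent.Lib.Helper6.MultD

open Cfsg.Agent.Lib.Helper6.PM Cfsg.Agent.Lib.Helper1

theorem chk_setsMCLAp3_1_5 : chkSetsBR Cfsg.Agent.Lib.Helper7.McLB.mclS pmMCLAp3 masksMCLAp3 DMCLAp3.pi 1 5500 1100 = true := by decide +kernel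

theorem chk_setsMCLAp3_1_6 : chkSetsBR Cfsg.Agent.Lib.Helper7.McLB.mclS pmMCLAp3 masksMCLAp3 DMCLAp3.pi 1 6600 528 = true := by decide +kernel

end Cfsg.Agent.Lib.Helper6.MultD
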