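import Mathlib
import Cfsg.Agent.Lib.Helper6.MultD.SP8Bp2D
import Cfsg.Agent.Lib.Helper6.MultD.SP8Bp2C
import Cfsg.Agent.Lib.Helper6.Mult.StemX3

set_option autoImplicit false
set_option Elab.async false
set_option maxRecDepth 100000
set_option maxHeartbeats 8000000

/-! Certificate SP8Bp2: pieces of the main check. -/

namespace Cfsg.Agent.Lib.Helper6.MultD

open Cfsg.Agent.Lib.Helper1

open Cfsg.Agent.Lib.Helper6.StemX

theorem chk_hRSP8Bp2_0 : rowChunk DSP8Bp2 CSP8Bp2 0 300 = true := by decide +kernel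

theorem chk_hRSP8Bp2_1 : rowChunk DSP8Bp2 CSP8Bp2 300 300 = true := by decide +kernel

theorem chk_hRSP8Bp2_2 : rowChunk DSP8Bp2 CSP8Bp2 600 300 = true := by decide +kernel


end Cfsg.Agent.Lib.Helper6.MultD
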