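import Mathlib
import Cfsg.Agent.Lib.Helper6.MultD.SP8Bp2D
import Cfsg.Agent.Lib.Helper6.MultD.SP8Bp2C
import Cfsg.Agent.Lib.Helper6.Mult.ChunkB
import Cfsg.Agent.Lib.Helper6.MultD.SP8Bp2H9

set_option autoImplicit false
set_option Elab.async false
set_option maxRecDepth 100000
set_option maxHeartbeats 8000000

/-! Certificate SP8Bp2: pieces of the check of the digits of the combination. -/

namespace Cfsg.Agent.Lib.Helper6.MultD

open Cfsg.Agent.Lib.Helper1

open Cfsg.Agent.Lib.Helper6.Mult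

theorem chk_digSP8Bp2_3 : digChunk DSP8Bp2.n 4 48383 2 (trSP8Bp2_0.map fun t => t.2.1).sum (3 * 4000) 4000 = true := by decide +kernel

theorem chk_digSP8Bp2_4 : digChunk DSP8Bp2.n 4 48383 2 (trSP8Bp2_0.map fun t => t.2.1).sum (4 * 4000) 4000 = true := by decide +kernel

theorem chk_digSP8Bp2_5 : digChunk DSP8Bp2.n 4 48383 2 (trSP8Bp2_0.map fun t => t.2.1).sum (5 * 4000) 4000 = true := by decide +kernel


end Cfsg.Agent.Lib.Helper6.MultD
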