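import Mathlib
import Cfsg.Agent.Lib.Helper6.MultD.SP8Bp2D
import Cfsg.Agent.Lib.Helper6.MultD.SP8Bp2Y0_19
import Cfsg.Agent.Lib.Helper6.Mult.ChunkB
import Cfsg.Agent.Lib.Helper6.MultD.SP8Bp2K0_11

set_option autoImplicit false
set_option Elab.async false
set_option maxRecDepth 100000
set_option maxHeartbeats 8000000

/-! Certificate SP8Bp2: check of the chunk 19 of the combination modulo 4. -/

namespace Cfsg.Agent.Lib.Helper6.MultD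

open Cfsg.Agent.Lib.Helper1

open Cfsg.Agent.Lib.Helper6.Mult

theorem chunkSP8Bp2_0_19_a : chunkOKB1 DSP8Bp2 4 8192 LsSP8Bp2_0_19.length ysSP8Bp2_0_19 TSP8Bp2_0_19 = true := by
  decide +kernel

theorem chunkSP8Bp2_0_19_b0 : chunkOKB2 DSP8Bp2 4 8192 ysSP8Bp2_0_19 LsSP8Bp2_0_19 0 = true := by
  decide +kernel

theorem chunkSP8Bp2_0_19_b1 : chunkOKB2 DSP8Bp2 4 8192 ysSP8Bp2_0_19 LsSP8Bp2_0_19 1 = true := by
  decide +kernel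

theorem chunkSP8Bp2_0_19_b2 : chunkOKB2 DSP8Bp2 4 8192 ysSP8Bp2_0_19 LsSP8Bp2_0_19 2 = true := by
  decide +kernel

theorem chunkSP8Bp2_0_19_b3 : chunkOKB2 DSP8Bp2 4 8192 ysSP8Bp2_0_19 LsSP8Bp2_0_19 3 = true := by
  decide +kernel

theorem chunkSP8Bp2_0_19_b4 : chunkOKB2 DSP8Bp2 4 8192 ysSP8Bp2_0_19 LsSP8Bp2_0_19 4 = true := by
  decide +kernel

theorem chunkSP8Bp2_0_19_b5 : chunkOKB2 DSP8Bp2 4 8192 ysSP8Bp2_0_19 LsSP8Bp2_0_19 5 = true := by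
  decide +kernel

theorem chunkSP8Bp2_0_19 : chunkOK DSP8Bp2 4 ysSP8Bp2_0_19 LSP8Bp2_0_19 TSP8Bp2_0_19 = true := by
  apply chunkOK_of_parts DSP8Bp2 4 8192 ysSP8Bp2_0_19 LsSP8Bp2_0_19 TSP8Bp2_0_19 chunkSP8Bp2_0_19_a
  intro k hk
  have hk' : k < 6 := hk
  interval_cases k
  · exact chunkSP8Bp2_0_19_b0
  · exact chunkSP8Bp2_0_19_b1
  · exact chunkSP8Bp2_0_19_b2
  · exact chunkSP8Bp2_0_19_b3
  · exact chunkSP8Bp2_0_19_b4
  · exact chunkSP8Bp2_0_19_b5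

end Cfsg.Agent.Lib.Helper6.MultD
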