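import Mathlib
import Cfsg.Agent.Lib.Helper6.MultD.SP8Bp2HP
import Cfsg.Agent.Lib.Helper6.MultD.SP8Bp2H0
import Cfsg.Agent.Lib.Helper6.MultD.SP8Bp2H1
import Cfsg.Agent.Lib.Helper6.MultD.SP8Bp2H2
import Cfsg.Agent.Lib.Helper6.MultD.SP8Bp2H3
import Cfsg.Agent.Lib.Helper6.MultD.SP8Bp2H4
import Cfsg.Agent.Lib.Helper6.MultD.SP8Bp2H5
import Cfsg.Agent.Lib.Helper6.MultD.SP8Bp2H6
import Cfsg.Agent.Lib.Helper6.MultD.SP8Bp2H7
import Cfsg.Agent.Lib.Helper6.MultD.SP8Bp2H8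
import Cfsg.Agent.Lib.Helper6.MultD.SP8Bp2H9
import Cfsg.Agent.Lib.Helper6.MultD.SP8Bp2H10
import Cfsg.Agent.Lib.Helper6.MultD.SP8Bp2H11
import Cfsg.Agent.Lib.Helper6.MultD.SP8Bp2H12
import Cfsg.Agent.Lib.Helper6.MultD.SP8Bp2H13
import Cfsg.Agent.Lib.Helper6.MultD.SP8Bp2H14
import Cfsg.Agent.Lib.Helper6.MultD.SP8Bp2H15
import Cfsg.Agent.Lib.Helper6.MultD.SP8Bp2J0
import Cfsg.Agent.Lib.Helper6.MultD.SP8Bp2J1
import Cfsg.Agent.Lib.Helper6.MultD.SP8Bp2J2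
import Cfsg.Agent.Lib.Helper6.MultD.SP8Bp2J3
import Cfsg.Agent.Lib.Helper6.MultD.SP8Bp2J4
import Cfsg.Agent.Lib.Helper6.MultD.SP8Bp2K0_0
import Cfsg.Agent.Lib.Helper6.MultD.SP8Bp2K0_1
import Cfsg.Agent.Lib.Helper6.MultD.SP8Bp2K0_2
import Cfsg.Agent.Lib.Helper6.MultD.SP8Bp2K0_3
import Cfsg.Agent.Lib.Helper6.MultD.SP8Bp2K0_4
import Cfsg.Agent.Lib.Helper6.MultD.SP8Bp2K0_5
import Cfsg.Agent.Lib.Helper6.MultD.SP8Bp2K0_6
import Cfsg.Agent.Lib.Helper6.MultD.SP8Bp2K0_7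
import Cfsg.Agent.Lib.Helper6.MultD.SP8Bp2K0_8
import Cfsg.Agent.Lib.Helper6.MultD.SP8Bp2K0_9
import Cfsg.Agent.Lib.Helper6.MultD.SP8Bp2K0_10
import Cfsg.Agent.Lib.Helper6.MultD.SP8Bp2K0_11
import Cfsg.Agent.Lib.Helper6.MultD.SP8Bp2K0_12
import Cfsg.Agent.Lib.Helper6.MultD.SP8Bp2K0_13
import Cfsg.Agent.Lib.Helper6.MultD.SP8Bp2K0_14
import Cfsg.Agent.Lib.Helper6.MultD.SP8Bp2K0_15
import Cfsg.Agent.Lib.Helper6.MultD.SP8Bp2K0_16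
import Cfsg.Agent.Lib.Helper6.MultD.SP8Bp2K0_17
import Cfsg.Agent.Lib.Helper6.MultD.SP8Bp2K0_18
import Cfsg.Agent.Lib.Helper6.MultD.SP8Bp2K0_19
import Cfsg.Agent.Lib.Helper6.MultD.SP8Bp2K0_20
import Cfsg.Agent.Lib.Helper6.MultD.SP8Bp2K0_21
import Cfsg.Agent.Lib.Helper6.MultD.SP8Bp2K0_22
import Cfsg.Agent.Lib.Helper6.MultD.SP8Bp2K0_23

set_option autoImplicit false
set_option maxRecDepth 100000
set_option maxHeartbeats 8000000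

/-! Certificate SP8Bp2: the full certificate and the bound on the values. -/

namespace Cfsg.Agent.Lib.Helper6.MultD

open Cfsg.Agent.Lib.Helper1

open Cfsg.Agent.Lib.Helper6.Mult Cfsg.Agent.Lib.Helper6.StemX StemZP

theorem chk_hRSP8Bp2 : ∀ k < 27, rowChunk DSP8Bp2 CSP8Bp2 (k * 300) 300 = true := by
  intro k hk
  interval_cases k
  · exact chk_hRSP8Bp2_0
  · exact chk_hRSP8Bp2_1
  · exact chk_hRSP8Bp2_2
  · exact chk_hRSP8Bp2_3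
  · exact chk_hRSP8Bp2_4
  · exact chk_hRSP8Bp2_5
  · exact chk_hRSP8Bp2_6
  · exact chk_hRSP8Bp2_7
  · exact chk_hRSP8Bp2_8
  · exact chk_hRSP8Bp2_9
  · exact chk_hRSP8Bp2_10
  · exact chk_hRSP8Bp2_11
  · exact chk_hRSP8Bp2_12
  · exact chk_hRSP8Bp2_13
  · exact chk_hRSP8Bp2_14
  · exact chk_hRSP8Bp2_15
  · exact chk_hRSP8Bp2_16
  · exact chk_hRSP8Bp2_17
  · exact chk_hRSP8Bp2_18
  · exact chk_hRSP8Bp2_19
  · exact chk_hRSP8Bp2_20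
  · exact chk_hRSP8Bp2_21
  · exact chk_hRSP8Bp2_22
  · exact chk_hRSP8Bp2_23
  · exact chk_hRSP8Bp2_24
  · exact chk_hRSP8Bp2_25
  · exact chk_hRSP8Bp2_26

theorem chk_hUSP8Bp2 : ∀ k < 20, unkChunk DSP8Bp2 CSP8Bp2 (k * 2500) 2500 = true := by
  intro k hk
  interval_cases k
  · exact chk_hUSP8Bp2_0
  · exact chk_hUSP8Bp2_1
  · exact chk_hUSP8Bp2_2
  · exact chk_hUSP8Bp2_3
  · exact chk_hUSP8Bp2_4
  · exact chk_hUSP8Bp2_5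
  · exact chk_hUSP8Bp2_6
  · exact chk_hUSP8Bp2_7
  · exact chk_hUSP8Bp2_8
  · exact chk_hUSP8Bp2_9
  · exact chk_hUSP8Bp2_10
  · exact chk_hUSP8Bp2_11
  · exact chk_hUSP8Bp2_12
  · exact chk_hUSP8Bp2_13
  · exact chk_hUSP8Bp2_14
  · exact chk_hUSP8Bp2_15
  · exact chk_hUSP8Bp2_16
  · exact chk_hUSP8Bp2_17
  · exact chk_hUSP8Bp2_18
  · exact chk_hUSP8Bp2_19

theorem chunksSP8Bp2_0 : ∀ t ∈ trSP8Bp2_0, chunkOK DSP8Bp2 4 t.1 t.2.1 t.2.2 = true := by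
  intro t ht
  simp only [trSP8Bp2_0, List.mem_cons, List.not_mem_nil, or_false] at ht
  rcases ht with rfl | rfl | rfl | rfl | rfl | rfl | rfl | rfl | rfl | rfl | rfl | rfl | rfl | rfl | rfl | rfl | rfl | rfl | rfl | rfl | rfl | rfl | rfl | rfl
  · exact chunkSP8Bp2_0_0
  · exact chunkSP8Bp2_0_1
  · exact chunkSP8Bp2_0_2
  · exact chunkSP8Bp2_0_3
  · exact chunkSP8Bp2_0_4
  · exact chunkSP8Bp2_0_5
  · exact chunkSP8Bp2_0_6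
  · exact chunkSP8Bp2_0_7
  · exact chunkSP8Bp2_0_8
  · exact chunkSP8Bp2_0_9
  · exact chunkSP8Bp2_0_10
  · exact chunkSP8Bp2_0_11
  · exact chunkSP8Bp2_0_12
  · exact chunkSP8Bp2_0_13
  · exact chunkSP8Bp2_0_14
  · exact chunkSP8Bp2_0_15
  · exact chunkSP8Bp2_0_16
  · exact chunkSP8Bp2_0_17
  · exact chunkSP8Bp2_0_18
  · exact chunkSP8Bp2_0_19
  · exact chunkSP8Bp2_0_20
  · exact chunkSP8Bp2_0_21
  · exact chunkSP8Bp2_0_22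
  · exact chunkSP8Bp2_0_23

theorem hTSP8Bp2_0 : (trSP8Bp2_0.map fun t => t.2.2).sum < StemZD.X := by decide +kernel

theorem hdigSP8Bp2_0 : ((List.range DSP8Bp2.n).all fun c =>
    (trSP8Bp2_0.map fun t => t.2.1).sum / StemZD.X ^ c % StemZD.X % 4 == if c = 48383 then 2 else 0) = true := by
  apply digits_of_chunks DSP8Bp2.n 4 48383 2 _ 13 4000 (by decide)
  intro k hk
  interval_cases k
  · exact chk_digSP8Bp2_0
  · exact chk_digSP8Bp2_1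
  · exact chk_digSP8Bp2_2
  · exact chk_digSP8Bp2_3
  · exact chk_digSP8Bp2_4
  · exact chk_digSP8Bp2_5
  · exact chk_digSP8Bp2_6
  · exact chk_digSP8Bp2_7
  · exact chk_digSP8Bp2_8
  · exact chk_digSP8Bp2_9
  · exact chk_digSP8Bp2_10
  · exact chk_digSP8Bp2_11
  · exact chk_digSP8Bp2_12

theorem chk_relSP8Bp2_0 : chkRel DSP8Bp2 CSP8Bp2.toP (trSP8Bp2_0.map fun t => t.1).flatten 48383 1 = true :=
  chkRel_of_chunks DSP8Bp2 CSP8Bp2.toP trSP8Bp2_0 48383 1 chunksSP8Bp2_0 hTSP8Bp2_0 hdigSP8Bp2_0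

theorem chk_certSP8Bp2 : chkCertX DSP8Bp2 CSP8Bp2 = true := by
  apply chkCertX_of_chunks DSP8Bp2 CSP8Bp2 27 300 20 2500 (by decide) (by decide) chk_smallSP8Bp2 chk_unkltSP8Bp2
    chk_hRSP8Bp2 chk_hUSP8Bp2
  show (List.range 1).all _ = true
  simp only [List.range_one, List.all_cons, List.all_nil, Bool.and_true]
  exact chk_relSP8Bp2_0

theorem valsBoundSP8Bp2 : ValsBound.{0} DSP8Bp2 2 1 := valsBound_of_certX DSP8Bp2 CSP8Bp2 chk_certSP8Bp2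

end Cfsg.Agent.Lib.Helper6.MultD
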