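import Cfsg.Agent.Lib.Helper6.Mult.PM3
import Cfsg.Agent.Lib.Helper6.MultD.SP8OML
import Cfsg.Agent.Lib.Helper6.MultD.SP8Bp2D

set_option autoImplicit false
set_option maxRecDepth 100000

/-! The subgroup `Ω8-(2)` of the group `Sp8(2)` on 24192 sets, data SP8Bp2: the checks of the generators. -/

namespace Cfsg.Agent.Lib.Helper6.MultD

open Cfsg.Agent.Lib.Helper6.PM Cfsg.Agent.Lib.Helper6.Sp8 Cfsg.Agent.Lib.Helper1

theorem chk_tabSP8Bp2_0 : chkTab sp8O wsSP8Bp2 pmSP8Bp2 0 = true := by decide +kernel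

theorem chk_tabSP8Bp2_1 : chkTab sp8O wsSP8Bp2 pmSP8Bp2 1 = true := by decide +kernel

theorem chk_relPSP8Bp2_0 : chkRelP sp8O DSP8Bp2 pmSP8Bp2 0 = true := by decide +kernel

theorem chk_relPSP8Bp2_1 : chkRelP sp8O DSP8Bp2 pmSP8Bp2 1 = true := by decide +kernel

theorem chk_relPSP8Bp2_2 : chkRelP sp8O DSP8Bp2 pmSP8Bp2 2 = true := by decide +kernel

theorem chk_relPSP8Bp2_3 : chkRelP sp8O DSP8Bp2 pmSP8Bp2 3 = true := by decide +kernel

theorem chk_relPSP8Bp2_4 : chkRelP sp8O DSP8Bp2 pmSP8Bp2 4 = true := by decide +kernel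

theorem chk_ordPSP8Bp2_0 : chkOrdP sp8O DSP8Bp2 pmSP8Bp2 0 = true := by decide +kernel

theorem chk_ordPSP8Bp2_1 : chkOrdP sp8O DSP8Bp2 pmSP8Bp2 1 = true := by decide +kernel

theorem chk_lwPSP8Bp2_0 : chkLwP sp8O wsSP8Bp2 pmSP8Bp2 lwSP8Bp2 0 = true := by decide +kernel

theorem chk_lwPSP8Bp2_1 : chkLwP sp8O wsSP8Bp2 pmSP8Bp2 lwSP8Bp2 1 = true := by decide +kernel

theorem coreSP8Bp2 : CoreFacts sp8O DSP8Bp2 wsSP8Bp2 pmSP8Bp2 lwSP8Bp2 := by
  apply coreFacts_of_chk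
  · rfl
  · intro i hi
    have h' : i < 2 := hi
    interval_cases i
    · exact chk_tabSP8Bp2_0
    · exact chk_tabSP8Bp2_1
  · intro r hr
    have h' : r < 5 := hr
    interval_cases r
    · exact chk_relPSP8Bp2_0
    · exact chk_relPSP8Bp2_1
    · exact chk_relPSP8Bp2_2
    · exact chk_relPSP8Bp2_3
    · exact chk_relPSP8Bp2_4
  · intro i hi
    have h' : i < 2 := hi
    interval_cases i
    · exact chk_ordPSP8Bp2_0
    · exact chk_ordPSP8Bp2_1
  · intro c hc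
    have h' : c < 2 := hc
    interval_cases c
    · exact chk_lwPSP8Bp2_0
    · exact chk_lwPSP8Bp2_1

end Cfsg.Agent.Lib.Helper6.MultD
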