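import Cfsg.Agent.Lib.Helper6.Mult.PM10
import Cfsg.Agent.Lib.Helper6.MultD.SP8OML
import Cfsg.Agent.Lib.Helper6.MultD.SP8Bp2D
import Cfsg.Agent.Lib.Helper6.MultD.SP8Bp2S_2

set_option autoImplicit false
set_option Elab.async false
set_option maxRecDepth 100000

/-! data SP8Bp2: checks of the action of the generators on ranges of sets (part 10). -/

namespace Cfsg.Agent.Lib.Helper6.MultD

open Cfsg.Agent.Lib.Helper6.PM Cfsg.Agent.Lib.Helper6.Sp8 Cfsg.Agent.Lib.Helper1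

theorem chk_setsSP8Bp2_1_19 : chkSetsBR sp8O pmSP8Bp2 masksSP8Bp2 DSP8Bp2.pi 1 7600 400 = true := by decide +kernel

theorem chk_setsSP8Bp2_1_20 : chkSetsBR sp8O pmSP8Bp2 masksSP8Bp2 DSP8Bp2.pi 1 8000 400 = true := by decide +kernel

theorem chk_setsSP8Bp2_1_21 : chkSetsBR sp8O pmSP8Bp2 masksSP8Bp2 DSP8Bp2.pi 1 8400 400 = true := by decide +kernel

theorem chk_setsSP8Bp2_1_22 : chkSetsBR sp8O pmSP8Bp2 masksSP8Bp2 DSP8Bp2.pi 1 8800 400 = true := by decide +kernel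

theorem chk_setsSP8Bp2_1_23 : chkSetsBR sp8O pmSP8Bp2 masksSP8Bp2 DSP8Bp2.pi 1 9200 400 = true := by decide +kernel

theorem chk_setsSP8Bp2_1_24 : chkSetsBR sp8O pmSP8Bp2 masksSP8Bp2 DSP8Bp2.pi 1 9600 400 = true := by decide +kernel

theorem chk_setsSP8Bp2_1_25 : chkSetsBR sp8O pmSP8Bp2 masksSP8Bp2 DSP8Bp2.pi 1 10000 400 = true := by decide +kernel

theorem chk_setsSP8Bp2_1_26 : chkSetsBR sp8O pmSP8Bp2 masksSP8Bp2 DSP8Bp2.pi 1 10400 400 = true := by decide +kernel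

end Cfsg.Agent.Lib.Helper6.MultD
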