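import Cfsg.Agent.Lib.Helper6.Mult.PM10
import Cfsg.Agent.Lib.Helper6.MultD.SP8OML
import Cfsg.Agent.Lib.Helper6.MultD.SP8Bp2D
import Cfsg.Agent.Lib.Helper6.MultD.SP8Bp2S_5

set_option autoImplicit false
set_option Elab.async false
set_option maxRecDepth 100000

/-! data SP8Bp2: checks of the action of the generators on ranges of sets (part 13). -/

namespace Cfsg.Agent.Lib.Helper6.MultD

open Cfsg.Agent.Lib.Helper6.PM Cfsg.Agent.Lib.Helper6.Sp8 Cfsg.Agent.Lib.Helper1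

theorem chk_setsSP8Bp2_1_43 : chkSetsBR sp8O pmSP8Bp2 masksSP8Bp2 DSP8Bp2.pi 1 17200 400 = true := by decide +kernel

theorem chk_setsSP8Bp2_1_44 : chkSetsBR sp8O pmSP8Bp2 masksSP8Bp2 DSP8Bp2.pi 1 17600 400 = true := by decide +kernel

theorem chk_setsSP8Bp2_1_45 : chkSetsBR sp8O pmSP8Bp2 masksSP8Bp2 DSP8Bp2.pi 1 18000 400 = true := by decide +kernel

theorem chk_setsSP8Bp2_1_46 : chkSetsBR sp8O pmSP8Bp2 masksSP8Bp2 DSP8Bp2.pi 1 18400 400 = true := by decide +kernel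

theorem chk_setsSP8Bp2_1_47 : chkSetsBR sp8O pmSP8Bp2 masksSP8Bp2 DSP8Bp2.pi 1 18800 400 = true := by decide +kernel

theorem chk_setsSP8Bp2_1_48 : chkSetsBR sp8O pmSP8Bp2 masksSP8Bp2 DSP8Bp2.pi 1 19200 400 = true := by decide +kernel

theorem chk_setsSP8Bp2_1_49 : chkSetsBR sp8O pmSP8Bp2 masksSP8Bp2 DSP8Bp2.pi 1 19600 400 = true := by decide +kernel

theorem chk_setsSP8Bp2_1_50 : chkSetsBR sp8O pmSP8Bp2 masksSP8Bp2 DSP8Bp2.pi 1 20000 400 = true := by decide +kernel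

end Cfsg.Agent.Lib.Helper6.MultD
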