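import Cfsg.Agent.Lib.Helper6.Mult.Sp8A
import Cfsg.Agent.Lib.Helper6.Mult.PM2

set_option autoImplicit false
set_option maxRecDepth 100000
set_option maxHeartbeats 8000000

/-! The generators of the subgroup `Ω8-(2)` and a reflection, as words of the group `Sp8(2)`. -/

namespace Cfsg.Agent.Lib.Helper6.MultD

open Cfsg.Agent.Lib.Helper6.PM Cfsg.Agent.Lib.Helper6.Sp8 Cfsg.Agent.Lib.Helper1

noncomputable def wsSP8SG : List (List ℕ) := [[0, 3, 4, 5, 2, 3, 4, 1, 3, 2, 0, 2, 3, 1, 4, 3, 2, 5, 4, 3, 1, 0, 8, 6, 7, 5, 6, 4, 5, 2, 3, 4, 1, 3, 2, 0, 2, 3, 1, 4, 3, 2, 5, 4, 6, 5, 7, 6, 8, 0], [1, 3, 4, 3, 1, 3, 4, 6, 7, 5, 6, 1, 3, 4, 5, 2, 3, 4, 1, 3, 2, 0, 2, 3, 1, 4, 3, 2, 5, 4, 3, 1, 6, 5, 7, 6, 2, 0, 2, 4, 3, 2, 0, 8, 7, 6, 1, 3, 4, 5, 2, 3, 4, 1, 3, 2, 0, 2, 3, 1, 4, 3, 2, 5, 4, 3, 1, 6, 7, 8, 0, 2, 3, 4, 7, 6, 5, 3, 4, 1, 3, 2, 0, 2, 3, 1, 4, 3, 5, 6, 7], [0]]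

noncomputable def pmNSP8SG : List ℕ := [0xc9d6eff68f90a9b9405f667f06192038d1cef7ee9788b1a158477e671e013824edf2cbd2abb48d9d647b425b223d041cf5ead3cab3ac95857c635a433a251c04cdd2ebf28b94adbd445b627b021d243cd5caf3ea938cb5a55c437a631a053c20e9f6cfd6afb08999607f465f26390018f1eed7ceb7a8918178675e473e211808c1dee7fe8798a1b148576e770e112830d9c6ffe69f80b9a9504f766f1609302ce5fac3daa3bc85956c734a532a350c14fde2dbc2bba49d8d746b524b322d140cc5dae3fa839ca5b54c536a730a152c34ddc2fbe29b84bdad544b726b120d3428e1fec7dea7b8819168774e572e310810f9e6dfc6bfa09989706f564f3629100, 0xb47d12dba16807ce1cd5ba7309c0af6679b0df166ca5ca03d11877bec40d62ab32fb945d27ee81489a533cf58f4629e0ff365990ea234c85579ef138428be42d08c1ae671dd4bb72a06906cfb57c13dac50c63aad01976bf6da4cb0278b1de178e4728e19b523df426ef804933fa955c438ae52c569ff039eb224d84fe37589125ec834a30f9965f8d442be298513ef7e8214e87fd345b924089e62f559cf33aa36a05ccb67f10d90bc2ad641ed7b8716ea7c8017bb2dd14c60f60a9d31a75bc99503ff68c452ae331f8975e24ed824b549df23b4188e72efc355a93e9204f861fd6b9700ac3ac65b77e11d8a26b04cdd21b74bdc70e61a87ab3dc156fa6c900,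 0xfefffcfdfafbf8f9f6f7f4f5f2f3f0f1efeeedecebeae9e8e7e6e5e4e3e2e1e0dedfdcdddadbd8d9d6d7d4d5d2d3d0d1cfcecdcccbcac9c8c7c6c5c4c3c2c1c0bebfbcbdbabbb8b9b6b7b4b5b2b3b0b1afaeadacabaaa9a8a7a6a5a4a3a2a1a09e9f9c9d9a9b989996979495929390918f8e8d8c8b8a898887868584838281807e7f7c7d7a7b787976777475727370716f6e6d6c6b6a696867666564636261605e5f5c5d5a5b585956575455525350514f4e4d4c4b4a494847464544434241403e3f3c3d3a3b383936373435323330312f2e2d2c2b2a292827262524232221201e1f1c1d1a1b181916171415121310110f0e0d0c0b0a09080706050403020100]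

noncomputable def pmSP8SG (i q : ℕ) : ℕ := (pmNSP8SG.getD i 0 >>> (8 * q)) % 2 ^ 8

theorem chk_tabSP8SG_0 : chkTab sp8Model wsSP8SG pmSP8SG 0 = true := by decide +kernel

theorem chk_tabSP8SG_1 : chkTab sp8Model wsSP8SG pmSP8SG 1 = true := by decide +kernel

theorem chk_tabSP8SG_2 : chkTab sp8Model wsSP8SG pmSP8SG 2 = true := by decide +kernel

theorem tabSP8SG : TabFacts sp8Model wsSP8SG pmSP8SG := by
  apply tabFacts_of_chk
  intro i hi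
  have h' : i < 3 := hi
  interval_cases i
  · exact chk_tabSP8SG_0
  · exact chk_tabSP8SG_1
  · exact chk_tabSP8SG_2

end Cfsg.Agent.Lib.Helper6.MultD
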