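import Cfsg.Agent.Lib.Helper6.Mult.PM10
import Cfsg.Agent.Lib.Helper6.MultD.U62UML
import Cfsg.Agent.Lib.Helper6.MultD.U62Bp2D

set_option autoImplicit false
set_option maxRecDepth 100000

/-! data U62Bp2: checks of the action of the generators on ranges of sets (part 4). -/

namespace Cfsg.Agent.Lib.Helper6.MultD

open Cfsg.Agent.Lib.Helper6.PM Cfsg.Agent.Lib.Helper6.U62M Cfsg.Agent.Lib.Helper1

theorem chk_setsU62Bp2_0_32 : chkSetsBR u62U pmU62Bp2 masksU62Bp2 DU62Bp2.pi 0 12800 400 = true := by decide +kernel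

theorem chk_setsU62Bp2_0_33 : chkSetsBR u62U pmU62Bp2 masksU62Bp2 DU62Bp2.pi 0 13200 400 = true := by decide +kernel

theorem chk_setsU62Bp2_0_34 : chkSetsBR u62U pmU62Bp2 masksU62Bp2 DU62Bp2.pi 0 13600 400 = true := by decide +kernel

theorem chk_setsU62Bp2_0_35 : chkSetsBR u62U pmU62Bp2 masksU62Bp2 DU62Bp2.pi 0 14000 400 = true := by decide +kernel

theorem chk_setsU62Bp2_0_36 : chkSetsBR u62U pmU62Bp2 masksU62Bp2 DU62Bp2.pi 0 14400 400 = true := by decide +kernel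

theorem chk_setsU62Bp2_0_37 : chkSetsBR u62U pmU62Bp2 masksU62Bp2 DU62Bp2.pi 0 14800 400 = true := by decide +kernel

theorem chk_setsU62Bp2_0_38 : chkSetsBR u62U pmU62Bp2 masksU62Bp2 DU62Bp2.pi 0 15200 400 = true := by decide +kernel

theorem chk_setsU62Bp2_0_39 : chkSetsBR u62U pmU62Bp2 masksU62Bp2 DU62Bp2.pi 0 15600 400 = true := by decide +kernel

end Cfsg.Agent.Lib.Helper6.MultD
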