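import Cfsg.Agent.Lib.Helper6.Mult.PM10
import Cfsg.Agent.Lib.Helper6.MultD.U62UML
import Cfsg.Agent.Lib.Helper6.MultD.U62Bp2D

set_option autoImplicit false
set_option maxRecDepth 100000

/-! data U62Bp2: checks of the action of the generators on ranges of sets (part 7). -/

namespace Cfsg.Agent.Lib.Helper6.MultD

open Cfsg.Agent.Lib.Helper6.PM Cfsg.Agent.Lib.Helper6.U62M Cfsg.Agent.Lib.Helper1

theorem chk_setsU62Bp2_1_13 : chkSetsBR u62U pmU62Bp2 masksU62Bp2 DU62Bp2.pi 1 5200 400 = true := by decide +kernel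

theorem chk_setsU62Bp2_1_14 : chkSetsBR u62U pmU62Bp2 masksU62Bp2 DU62Bp2.pi 1 5600 400 = true := by decide +kernel

theorem chk_setsU62Bp2_1_15 : chkSetsBR u62U pmU62Bp2 masksU62Bp2 DU62Bp2.pi 1 6000 400 = true := by decide +kernel

theorem chk_setsU62Bp2_1_16 : chkSetsBR u62U pmU62Bp2 masksU62Bp2 DU62Bp2.pi 1 6400 400 = true := by decide +kernel

theorem chk_setsU62Bp2_1_17 : chkSetsBR u62U pmU62Bp2 masksU62Bp2 DU62Bp2.pi 1 6800 400 = true := by decide +kernel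

theorem chk_setsU62Bp2_1_18 : chkSetsBR u62U pmU62Bp2 masksU62Bp2 DU62Bp2.pi 1 7200 400 = true := by decide +kernel

theorem chk_setsU62Bp2_1_19 : chkSetsBR u62U pmU62Bp2 masksU62Bp2 DU62Bp2.pi 1 7600 400 = true := by decide +kernel

theorem chk_setsU62Bp2_1_20 : chkSetsBR u62U pmU62Bp2 masksU62Bp2 DU62Bp2.pi 1 8000 400 = true := by decide +kernel

end Cfsg.Agent.Lib.Helper6.MultD
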