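import Cfsg.Agent.Lib.Helper6.Mult.PM3
import Cfsg.Agent.Lib.Helper6.MultD.U62UML
import Cfsg.Agent.Lib.Helper6.MultD.U62Bp3D

set_option autoImplicit false
set_option maxRecDepth 100000

/-! The subgroup `U5(2)` of the presented group `U62` on 5346 sets, data U62Bp3: the checks of the generators. -/

namespace Cfsg.Agent.Lib.Helper6.MultD

open Cfsg.Agent.Lib.Helper6.PM Cfsg.Agent.Lib.Helper6.U62M Cfsg.Agent.Lib.Helper1

theorem chk_tabU62Bp3_0 : chkTab u62U wsU62Bp3 pmU62Bp3 0 = true := by decide +kernel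

theorem chk_tabU62Bp3_1 : chkTab u62U wsU62Bp3 pmU62Bp3 1 = true := by decide +kernel

theorem chk_relPU62Bp3_0 : chkRelP u62U DU62Bp3 pmU62Bp3 0 = true := by decide +kernel

theorem chk_relPU62Bp3_1 : chkRelP u62U DU62Bp3 pmU62Bp3 1 = true := by decide +kernel

theorem chk_relPU62Bp3_2 : chkRelP u62U DU62Bp3 pmU62Bp3 2 = true := by decide +kernel

theorem chk_relPU62Bp3_3 : chkRelP u62U DU62Bp3 pmU62Bp3 3 = true := by decide +kernel

theorem chk_relPU62Bp3_4 : chkRelP u62U DU62Bp3 pmU62Bp3 4 = true := by decide +kernel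

theorem chk_relPU62Bp3_5 : chkRelP u62U DU62Bp3 pmU62Bp3 5 = true := by decide +kernel

theorem chk_relPU62Bp3_6 : chkRelP u62U DU62Bp3 pmU62Bp3 6 = true := by decide +kernel

theorem chk_relPU62Bp3_7 : chkRelP u62U DU62Bp3 pmU62Bp3 7 = true := by decide +kernel

theorem chk_relPU62Bp3_8 : chkRelP u62U DU62Bp3 pmU62Bp3 8 = true := by decide +kernel

theorem chk_relPU62Bp3_9 : chkRelP u62U DU62Bp3 pmU62Bp3 9 = true := by decide +kernel

theorem chk_relPU62Bp3_10 : chkRelP u62U DU62Bp3 pmU62Bp3 10 = true := by decide +kernel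

theorem chk_relPU62Bp3_11 : chkRelP u62U DU62Bp3 pmU62Bp3 11 = true := by decide +kernel

theorem chk_relPU62Bp3_12 : chkRelP u62U DU62Bp3 pmU62Bp3 12 = true := by decide +kernel

theorem chk_relPU62Bp3_13 : chkRelP u62U DU62Bp3 pmU62Bp3 13 = true := by decide +kernel

theorem chk_relPU62Bp3_14 : chkRelP u62U DU62Bp3 pmU62Bp3 14 = true := by decide +kernel

theorem chk_relPU62Bp3_15 : chkRelP u62U DU62Bp3 pmU62Bp3 15 = true := by decide +kernel

theorem chk_relPU62Bp3_16 : chkRelP u62U DU62Bp3 pmU62Bp3 16 = true := by decide +kernel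

theorem chk_relPU62Bp3_17 : chkRelP u62U DU62Bp3 pmU62Bp3 17 = true := by decide +kernel

theorem chk_relPU62Bp3_18 : chkRelP u62U DU62Bp3 pmU62Bp3 18 = true := by decide +kernel

theorem chk_relPU62Bp3_19 : chkRelP u62U DU62Bp3 pmU62Bp3 19 = true := by decide +kernel

theorem chk_relPU62Bp3_20 : chkRelP u62U DU62Bp3 pmU62Bp3 20 = true := by decide +kernel

theorem chk_relPU62Bp3_21 : chkRelP u62U DU62Bp3 pmU62Bp3 21 = true := by decide +kernel

theorem chk_relPU62Bp3_22 : chkRelP u62U DU62Bp3 pmU62Bp3 22 = true := by decide +kernel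

theorem chk_relPU62Bp3_23 : chkRelP u62U DU62Bp3 pmU62Bp3 23 = true := by decide +kernel

theorem chk_relPU62Bp3_24 : chkRelP u62U DU62Bp3 pmU62Bp3 24 = true := by decide +kernel

theorem chk_relPU62Bp3_25 : chkRelP u62U DU62Bp3 pmU62Bp3 25 = true := by decide +kernel

theorem chk_relPU62Bp3_26 : chkRelP u62U DU62Bp3 pmU62Bp3 26 = true := by decide +kernel

theorem chk_relPU62Bp3_27 : chkRelP u62U DU62Bp3 pmU62Bp3 27 = true := by decide +kernel

theorem chk_relPU62Bp3_28 : chkRelP u62U DU62Bp3 pmU62Bp3 28 = true := by decide +kernel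

theorem chk_relPU62Bp3_29 : chkRelP u62U DU62Bp3 pmU62Bp3 29 = true := by decide +kernel

theorem chk_relPU62Bp3_30 : chkRelP u62U DU62Bp3 pmU62Bp3 30 = true := by decide +kernel

theorem chk_relPU62Bp3_31 : chkRelP u62U DU62Bp3 pmU62Bp3 31 = true := by decide +kernel

theorem chk_relPU62Bp3_32 : chkRelP u62U DU62Bp3 pmU62Bp3 32 = true := by decide +kernel

theorem chk_relPU62Bp3_33 : chkRelP u62U DU62Bp3 pmU62Bp3 33 = true := by decide +kernel

theorem chk_relPU62Bp3_34 : chkRelP u62U DU62Bp3 pmU62Bp3 34 = true := by decide +kernel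

theorem chk_relPU62Bp3_35 : chkRelP u62U DU62Bp3 pmU62Bp3 35 = true := by decide +kernel

theorem chk_relPU62Bp3_36 : chkRelP u62U DU62Bp3 pmU62Bp3 36 = true := by decide +kernel

theorem chk_relPU62Bp3_37 : chkRelP u62U DU62Bp3 pmU62Bp3 37 = true := by decide +kernel

theorem chk_relPU62Bp3_38 : chkRelP u62U DU62Bp3 pmU62Bp3 38 = true := by decide +kernel

theorem chk_relPU62Bp3_39 : chkRelP u62U DU62Bp3 pmU62Bp3 39 = true := by decide +kernel

theorem chk_relPU62Bp3_40 : chkRelP u62U DU62Bp3 pmU62Bp3 40 = true := by decide +kernel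

theorem chk_relPU62Bp3_41 : chkRelP u62U DU62Bp3 pmU62Bp3 41 = true := by decide +kernel

theorem chk_relPU62Bp3_42 : chkRelP u62U DU62Bp3 pmU62Bp3 42 = true := by decide +kernel

theorem chk_relPU62Bp3_43 : chkRelP u62U DU62Bp3 pmU62Bp3 43 = true := by decide +kernel

theorem chk_ordPU62Bp3_0 : chkOrdP u62U DU62Bp3 pmU62Bp3 0 = true := by decide +kernel

theorem chk_ordPU62Bp3_1 : chkOrdP u62U DU62Bp3 pmU62Bp3 1 = true := by decide +kernel

theorem chk_lwPU62Bp3_0 : chkLwP u62U wsU62Bp3 pmU62Bp3 lwU62Bp3 0 = true := by decide +kernel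

theorem chk_lwPU62Bp3_1 : chkLwP u62U wsU62Bp3 pmU62Bp3 lwU62Bp3 1 = true := by decide +kernel

theorem coreU62Bp3 : CoreFacts u62U DU62Bp3 wsU62Bp3 pmU62Bp3 lwU62Bp3 := by
  apply coreFacts_of_chk
  · rfl
  · intro i hi
    have h' : i < 2 := hi
    interval_cases i
    · exact chk_tabU62Bp3_0
    · exact chk_tabU62Bp3_1
  · intro r hr
    have h' : r < 44 := hr
    interval_cases r
    · exact chk_relPU62Bp3_0
    · exact chk_relPU62Bp3_1
    · exact chk_relPU62Bp3_2
    · exact chk_relPU62Bp3_3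
    · exact chk_relPU62Bp3_4
    · exact chk_relPU62Bp3_5
    · exact chk_relPU62Bp3_6
    · exact chk_relPU62Bp3_7
    · exact chk_relPU62Bp3_8
    · exact chk_relPU62Bp3_9
    · exact chk_relPU62Bp3_10
    · exact chk_relPU62Bp3_11
    · exact chk_relPU62Bp3_12
    · exact chk_relPU62Bp3_13
    · exact chk_relPU62Bp3_14
    · exact chk_relPU62Bp3_15
    · exact chk_relPU62Bp3_16
    · exact chk_relPU62Bp3_17
    · exact chk_relPU62Bp3_18
    · exact chk_relPU62Bp3_19
    · exact chk_relPU62Bp3_20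
    · exact chk_relPU62Bp3_21
    · exact chk_relPU62Bp3_22
    · exact chk_relPU62Bp3_23
    · exact chk_relPU62Bp3_24
    · exact chk_relPU62Bp3_25
    · exact chk_relPU62Bp3_26
    · exact chk_relPU62Bp3_27
    · exact chk_relPU62Bp3_28
    · exact chk_relPU62Bp3_29
    · exact chk_relPU62Bp3_30
    · exact chk_relPU62Bp3_31
    · exact chk_relPU62Bp3_32
    · exact chk_relPU62Bp3_33
    · exact chk_relPU62Bp3_34
    · exact chk_relPU62Bp3_35
    · exact chk_relPU62Bp3_36
    · exact chk_relPU62Bp3_37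
    · exact chk_relPU62Bp3_38
    · exact chk_relPU62Bp3_39
    · exact chk_relPU62Bp3_40
    · exact chk_relPU62Bp3_41
    · exact chk_relPU62Bp3_42
    · exact chk_relPU62Bp3_43
  · intro i hi
    have h' : i < 2 := hi
    interval_cases i
    · exact chk_ordPU62Bp3_0
    · exact chk_ordPU62Bp3_1
  · intro c hc
    have h' : c < 2 := hc
    interval_cases c
    · exact chk_lwPU62Bp3_0
    · exact chk_lwPU62Bp3_1

end Cfsg.Agent.Lib.Helper6.MultD
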